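import Groth.Agent.AlgGrp.K413.ActBasic
import Groth.Agent.Sga3C.SchemImage
import Mathlib.AlgebraicGeometry.Morphisms.UniversallyOpen
import Mathlib.AlgebraicGeometry.Morphisms.UnderlyingMap

/-!
# The saturation `G · U` of a set under a group scheme action
-/

set_option autoImplicit false

universe u

open CategoryTheory MonoidalCategory CartesianMonoidalCategory MonObj GrpObj AlgebraicGeometry Limits

namespace K413.Saturate

variable {S : Scheme.{u}} {G X : Over S} [GrpObj G] (a : AlgGrp.Action G X)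

open Groth.Agent.Sga3C.Transl Groth.Agent.Sga3C.SchemImage

theorem comp_left_apply {X Y Z : Over S} (f : X ⟶ Y) (g : Y ⟶ Z) (x : X.left) :
    (f ≫ g).left x = g.left (f.left x) := by
  rw [Over.comp_left, Scheme.Hom.comp_apply]

/-- `G · U`. -/
def sat (U : Set X.left) : Set X.left := a.act.left '' ((snd G X).left ⁻¹' U)

variable {a} in
theorem mem_sat {U : Set X.left} {x : X.left} :
    x ∈ sat a U ↔ ∃ p : (G ⊗ X).left, (snd G X).left p ∈ U ∧ a.act.left p = x := Iff.rfl

theorem subset_sat (U : Set X.left) : U ⊆ sat a U := by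
  intro x hx
  refine ⟨(lift (1 : X ⟶ G) (𝟙 X)).left x, ?_, ?_⟩
  · rw [Set.mem_preimage, ← comp_left_apply, lift_snd]
    exact hx
  · rw [← comp_left_apply, lift_one_act]
    rfl

theorem sat_mono {U W : Set X.left} (h : U ⊆ W) : sat a U ⊆ sat a W :=
  Set.image_mono (Set.preimage_mono h)

theorem sat_sat (U : Set X.left) : sat a (sat a U) ⊆ sat a U := by
  rintro _ ⟨p, ⟨q, hq, hqp⟩, rfl⟩
  obtain ⟨r, hr1, hr2⟩ := Scheme.exists_preimage_of_isPullback
    (isPullback_whiskerLeft_left a.act G) p q hqp.symm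
  refine ⟨((α_ G G X).inv ≫ (μ[G] ▷ X)).left r, ?_, ?_⟩
  · rw [Set.mem_preimage, ← comp_left_apply]
    have : ((α_ G G X).inv ≫ (μ[G] ▷ X)) ≫ snd G X = snd G (G ⊗ X) ≫ snd G X := by simp
    rw [this, comp_left_apply, hr2]
    exact hq
  · rw [← comp_left_apply, Category.assoc, a.mul_act, Iso.inv_hom_id_assoc, comp_left_apply, hr1]

theorem isOpen_sat (h : UniversallyOpen G.hom) {U : Set X.left} (hU : IsOpen U) :
    IsOpen (sat a U) := by
  have : UniversallyOpen a.act.left := ActBasic.act_left_of a (P := @UniversallyOpen) h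
  exact a.act.left.isOpenMap _ (hU.preimage (snd G X).left.continuous)

theorem sat_eq_of_subset {U : Set X.left} (h : sat a U ⊆ U) : sat a U = U :=
  h.antisymm (subset_sat a U)

/-- For a stable set the two preimages agree. -/
theorem preimage_eq {U : Set X.left} (h : sat a U ⊆ U) :
    (snd G X).left ⁻¹' U = a.act.left ⁻¹' U := by
  ext p
  constructor
  · intro hp
    exact h ⟨p, hp, rfl⟩
  · intro hp
    refine h ⟨(ActBasic.flipHom a).left p, ?_, ?_⟩
    · rw [Set.mem_preimage, ← comp_left_apply, ActBasic.flipHom_snd]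
      exact hp
    · rw [← comp_left_apply, ActBasic.flipHom_act]

end K413.Saturate
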