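import Groth.Agent.AlgGrp.K413.EssFreeField
import Groth.Agent.Sga3C.SchemImage
import Groth.Agent.S4101

/-!
# The locus where two morphisms on a product over a field agree is closed and representable
-/

set_option autoImplicit false

universe u

open CategoryTheory MonoidalCategory CartesianMonoidalCategory AlgebraicGeometry Limits

namespace K413.EqLocus

open Groth.Agent.Sga3C.SchemImage

theorem isIso_pullback_snd_iff {A B C : Scheme.{u}} (j : A ⟶ B) [Mono j] (p : C ⟶ B) :
    IsIso (pullback.snd j p) ↔ ∃ q : C ⟶ A, q ≫ j = p := by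
  constructor
  · intro h
    exact ⟨inv (pullback.snd j p) ≫ pullback.fst j p, by
      rw [Category.assoc, pullback.condition, IsIso.inv_hom_id_assoc]⟩
  · rintro ⟨q, hq⟩
    have h1 : pullback.lift q (𝟙 C) (by rw [hq, Category.id_comp]) ≫ pullback.snd j p = 𝟙 C :=
      pullback.lift_snd _ _ _
    have : IsSplitEpi (pullback.snd j p) := ⟨⟨⟨_, h1⟩⟩⟩
    exact isIso_of_mono_of_isSplitEpi _

/-- For `u, v : Y × X ⟶ W`, `W` separated over a field, the condition `u (y, x) = v (y, x)` for all
`y` on points `x` of `X` is represented by a closed subscheme of `X`. -/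
theorem exists_closed {k : Type u} [Field k] {X Y W : Over (Spec (CommRingCat.of k))}
    [IsSeparated W.hom] (u v : Y ⊗ X ⟶ W) :
    ∃ (Z : Over (Spec (CommRingCat.of k))) (j : Z ⟶ X), IsClosedImmersion j.left ∧
      ∀ (T : Over (Spec (CommRingCat.of k))) (x : T ⟶ X),
        (∃ z : T ⟶ Z, z ≫ j = x) ↔ (Y ◁ x) ≫ u = (Y ◁ x) ≫ v := by
  have hf : SGA3x.IsEssentiallyFree (snd Y X).left := EssFreeField.isEssentiallyFree_snd Y.hom X.hom
  obtain ⟨Z₀, t, ht, h, -⟩ := Groth.Agent.S4101.result _ _ _ (snd Y X).left hf (equalizer.ι u v).left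
  refine ⟨Over.mk (t ≫ X.hom), Over.homMk t, ht, fun T x => ?_⟩
  have h1 := h T.left x.left
  have hp := isPullback_whiskerLeft_left x Y
  have hmono : Mono (equalizer.ι u v).left := inferInstance
  rw [isIso_pullback_snd_iff] at h1
  have e1 : (∃ z : T ⟶ Over.mk (t ≫ X.hom), z ≫ Over.homMk t = x) ↔
      ∃ g' : T.left ⟶ Z₀, g' ≫ t = x.left := by
    constructor
    · rintro ⟨z, hz⟩
      exact ⟨z.left, by rw [← hz]; rfl⟩
    · rintro ⟨g', hg'⟩
      refine ⟨Over.homMk g' ?_, ?_⟩
      · change g' ≫ t ≫ X.hom = T.hom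
        rw [← Category.assoc, hg', Over.w]
      · ext1
        exact hg'
  rw [e1, h1]
  have e2 : hp.isoPullback.hom ≫ pullback.fst (snd Y X).left x.left = (Y ◁ x).left :=
    hp.isoPullback_hom_fst
  constructor
  · rintro ⟨q, hq⟩
    have h2 : (hp.isoPullback.hom ≫ q) ≫ (equalizer.ι u v).left = (Y ◁ x).left := by
      rw [Category.assoc, hq, e2]
    have h3 : (equalizer.ι u v).left ≫ u.left = (equalizer.ι u v).left ≫ v.left := by
      rw [← Over.comp_left, ← Over.comp_left, equalizer.condition]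
    ext1
    rw [Over.comp_left, Over.comp_left, ← h2]
    simp only [Category.assoc, h3]
  · intro h2
    refine ⟨hp.isoPullback.inv ≫ (equalizer.lift (Y ◁ x) h2).left, ?_⟩
    rw [Category.assoc, ← Over.comp_left, equalizer.lift_ι]
    exact hp.isoPullback_inv_fst

/-- A schematically dominant morphism factoring through a closed immersion: the latter is an
isomorphism. -/
theorem isIso_of_dominant {A B C : Scheme.{u}} (f : A ⟶ C) [IsSchemeTheoreticallyDominant f]
    (j : B ⟶ C) [IsClosedImmersion j] (g : A ⟶ B) (h : g ≫ j = f) : IsIso j := by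
  rw [IsClosedImmersion.isIso_iff_ker_eq_bot, ← le_bot_iff, ← f.ker_eq_bot, ← h]
  exact Scheme.Hom.le_ker_comp _ _

/-- If `u (y, x) = v (y, x)` for `x` in a schematically dominant `G ⟶ X` then `u = v`. -/
theorem eq_of_dominant {k : Type u} [Field k] {X Y W G : Over (Spec (CommRingCat.of k))}
    [IsSeparated W.hom] (u v : Y ⊗ X ⟶ W) (i : G ⟶ X) [IsSchemeTheoreticallyDominant i.left]
    (h : (Y ◁ i) ≫ u = (Y ◁ i) ≫ v) : u = v := by
  obtain ⟨Z, j, hj, hZ⟩ := exists_closed u v
  obtain ⟨z, hz⟩ := (hZ G i).mpr h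
  have h1 : IsIso j.left := isIso_of_dominant i.left j.left z.left (by rw [← hz]; rfl)
  have h2 : IsIso j := by
    have : IsIso ((Over.forget _).map j) := h1
    exact isIso_of_reflects_iso j (Over.forget _)
  have h3 := (hZ X (𝟙 X)).mp ⟨inv j, by simp⟩
  simpa using h3

end K413.EqLocus
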