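import Groth.Agent.PrincBund.K826.Descend
import Groth.Agent.Sga3C.Transl

/-!
# Homogeneous spaces: testing equalities on points of the group
-/

set_option autoImplicit false
universe u

open CategoryTheory CategoryTheory.Limits MonoidalCategory CartesianMonoidalCategory MonObj GrpObj AlgebraicGeometry

namespace K413.Homog

variable {S : Scheme.{u}} {K : Precoverage Scheme.{u}} {G H Q : Over S} [GrpObj G] [GrpObj H]

open Groth.Agent.Sga3C.Transl

/-- Two morphisms from `T` agree if they agree on all `T' ⟶ T` over which the point `q` of `Q`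
lifts along `π : P ⟶ Q`. -/
theorem hom_ext_of_locTriv (hK : K ≤ Scheme.fpqcPrecoverage) {P : Over S} {π : P ⟶ Q}
    (hπ : NonAbH1.IsLocallyTrivialFor K (Over.mk π.left : Over Q.left)) {T Y : Over S} (q : T ⟶ Q)
    {f g : T ⟶ Y} (h : ∀ (T' : Over S) (t : T' ⟶ T) (x : T' ⟶ P), x ≫ π = t ≫ q → t ≫ f = t ≫ g) :
    f = g := by
  apply Over.OverMorphism.ext
  have h1 := (K826.Descend.isSheaf_yoneda hK Y.left).isSeparated _
    (K826.Descend.ptSieve_mem hπ (Over.mk q.left))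
  refine h1.ext fun Z r hr => ?_
  obtain ⟨x⟩ := hr
  have hx : x.left ≫ π.left = r ≫ q.left := Over.w x
  let T' : Over S := Over.mk (r ≫ T.hom)
  let t : T' ⟶ T := Over.homMk r
  let x' : T' ⟶ P := Over.homMk x.left (by
    rw [← Over.w π, ← Category.assoc, hx, Category.assoc, Over.w q]
    rfl)
  have := congrArg (fun m => m.left) (h T' t x' (by ext1; exact hx))
  exact this

theorem comp_orbitMap (a : AlgGrp.Action G Q) (o : 𝟙_ (Over S) ⟶ Q) {T : Over S} (g : T ⟶ G) :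
    g ≫ a.orbitMap o = lift g (toUnit T ≫ o) ≫ a.act := by
  rw [AlgGrp.Action.orbitMap, comp_lift_assoc, Category.comp_id, ← Category.assoc g (toUnit G) o,
    toUnit_unique (g ≫ toUnit G) (toUnit T)]

theorem mul_comp_orbitMap (a : AlgGrp.Action G Q) (o : 𝟙_ (Over S) ⟶ Q) {T : Over S} (g h : T ⟶ G) :
    (g * h) ≫ a.orbitMap o = lift g (h ≫ a.orbitMap o) ≫ a.act := by
  rw [comp_orbitMap, comp_orbitMap, lift_mul_act]

omit [GrpObj H] in
theorem mul_comp_orbitMap_of_sub {i : H ⟶ G} {a : AlgGrp.Action G Q} {o : 𝟙_ (Over S) ⟶ Q}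
    (hsq : IsPullback (fst G H) ((G ◁ i) ≫ μ[G]) (a.orbitMap o) (a.orbitMap o)) {T : Over S}
    (g : T ⟶ G) (h : T ⟶ H) : (g * (h ≫ i)) ≫ a.orbitMap o = g ≫ a.orbitMap o := by
  have h1 := congr(lift g h ≫ $hsq.w)
  rw [lift_fst_assoc] at h1
  rw [h1]
  have h2 : g * (h ≫ i) = lift g h ≫ (G ◁ i) ≫ μ[G] := by
    rw [lift_whiskerLeft_assoc, Hom.mul_def]
  rw [h2]
  simp only [Category.assoc]

omit [GrpObj H] in
theorem exists_of_comp_orbitMap_eq {i : H ⟶ G} {a : AlgGrp.Action G Q} {o : 𝟙_ (Over S) ⟶ Q}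
    (hsq : IsPullback (fst G H) ((G ◁ i) ≫ μ[G]) (a.orbitMap o) (a.orbitMap o)) {T : Over S}
    (g g' : T ⟶ G) (h : g ≫ a.orbitMap o = g' ≫ a.orbitMap o) :
    ∃ x : T ⟶ H, g' = g * (x ≫ i) := by
  refine ⟨hsq.lift g g' h ≫ snd G H, ?_⟩
  have h1 : hsq.lift g g' h = lift g (hsq.lift g g' h ≫ snd G H) := by
    ext1
    · rw [hsq.lift_fst, lift_fst]
    · rw [lift_snd]
  have h2 := hsq.lift_snd g g' h
  rw [h1, lift_whiskerLeft_assoc] at h2
  exact h2.symm.trans (by rw [Hom.mul_def])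

omit [GrpObj H] in
/-- A point fixing the base point is a point of the stabiliser. -/
theorem exists_of_fix {i : H ⟶ G} {a : AlgGrp.Action G Q} {o : 𝟙_ (Over S) ⟶ Q}
    (hsq : IsPullback (fst G H) ((G ◁ i) ≫ μ[G]) (a.orbitMap o) (a.orbitMap o)) {T : Over S}
    (g : T ⟶ G) (h : lift g (toUnit T ≫ o) ≫ a.act = toUnit T ≫ o) :
    ∃ x : T ⟶ H, x ≫ i = g := by
  obtain ⟨x, hx⟩ := exists_of_comp_orbitMap_eq hsq 1 g (by
    rw [comp_orbitMap, comp_orbitMap, lift_one_act, h])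
  exact ⟨x, by rw [hx, _root_.one_mul]⟩

end K413.Homog
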