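import Groth.Prelude.Def_AlgGrp
import Groth.Agent.Sga3C.Transl

/-!
# Basic facts on actions of group schemes: the action morphism is isomorphic to the projection
-/

set_option autoImplicit false

universe u

open CategoryTheory MonoidalCategory CartesianMonoidalCategory MonObj GrpObj AlgebraicGeometry Limits

namespace K413.ActBasic

variable {S : Scheme.{u}} {G X : Over S} [GrpObj G] (a : AlgGrp.Action G X)

open Groth.Agent.Sga3C.Transl

/-- The involution `(g, x) ↦ (g⁻¹, g x)` of `G × X`. -/
noncomputable def flipHom : G ⊗ X ⟶ G ⊗ X := lift (fst G X)⁻¹ a.act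

@[reassoc (attr := local simp)]
theorem flipHom_snd : flipHom a ≫ snd G X = a.act := by simp [flipHom]

@[reassoc (attr := local simp)]
theorem flipHom_fst : flipHom a ≫ fst G X = (fst G X)⁻¹ := by simp [flipHom]

theorem act_eq : a.act = lift (fst G X) (snd G X) ≫ a.act := by
  have : lift (fst G X) (snd G X) = 𝟙 _ := by ext1 <;> simp
  rw [this, Category.id_comp]

@[reassoc]
theorem flipHom_act : flipHom a ≫ a.act = snd G X := by
  have h : lift (fst G X)⁻¹ a.act = lift (fst G X)⁻¹ (lift (fst G X) (snd G X) ≫ a.act) := by
    rw [← act_eq]
  rw [flipHom, h, ← lift_mul_act, inv_mul_cancel, lift_one_act]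

theorem flipHom_flipHom : flipHom a ≫ flipHom a = 𝟙 _ := by
  ext1
  · rw [Category.assoc, flipHom_fst, Category.id_comp, comp_inv, flipHom_fst, _root_.inv_inv]
  · rw [Category.assoc, flipHom_snd, flipHom_act, Category.id_comp]

/-- The involution as an isomorphism. -/
noncomputable def flipIso : G ⊗ X ≅ G ⊗ X where
  hom := flipHom a
  inv := flipHom a
  hom_inv_id := flipHom_flipHom a
  inv_hom_id := flipHom_flipHom a

theorem act_left_eq : a.act.left = ((Over.forget S).mapIso (flipIso a)).hom ≫ (snd G X).left := by
  change _ = (flipHom a).left ≫ (snd G X).left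
  rw [← Over.comp_left, flipHom_snd]

/-- A property of morphisms stable under base change and composition with isomorphisms passes from
the structure morphism of `G` to the action morphism. -/
theorem act_left_of {P : MorphismProperty Scheme.{u}} [P.IsStableUnderBaseChange]
    (h : P G.hom) : P a.act.left := by
  rw [act_left_eq]
  refine (P.cancel_left_of_respectsIso ((Over.forget S).mapIso (flipIso a)).hom
    (snd G X).left).mpr ?_
  exact P.pullback_snd G.hom X.hom h

end K413.ActBasic
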