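import Groth.Agent.AbVar.K524.Degen
import Groth.Agent.AlgGrp.K414.Kit
import Groth.Agent.RedSub.K199.PullGrp
import Groth.Agent.Sga7.H270.FinStab
import Groth.Agent.S3020
import Groth.Agent.S2336

/-!
# Invertible modules on an abelian variety with ample pull-back are nondegenerate

`nd`: `q : G ⟶ A` a surjective homomorphism of algebraic groups onto an abelian variety over an algebraically closed
field, `M` an invertible module on `A` with `q^* M` ample: then `K(M)` is finite.
-/

set_option autoImplicit false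
universe u
open CategoryTheory MonoidalCategory CartesianMonoidalCategory MonObj GrpObj AlgebraicGeometry Limits

namespace K413.AmpNd

open Groth.Agent Groth.Agent.Grpsch.PicGrp Groth.Agent.Grpsch.Cube Groth.Agent.Grpsch.CubeData
open Groth.Agent.Fdesc Groth.Agent.Fdesc.LocGen
open K506.Transl (tr phi Inv)

variable {k : Type u} [Field k]

/-- If an invertible module and its inverse are ample the scheme is quasi-affine. -/
theorem isQuasiAffine_of_mul_eq_one (X : Scheme.{u}) [CompactSpace X] [X.IsSeparated] {L L' : X.Modules}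
    (hL : CohB1.IsAmple L) (hL' : CohB1.IsAmple L') (h : mk L hL.1 * mk L' hL'.1 = 1) : X.IsQuasiAffine := by
  have hM : CohB1.IsAmple (CohB1.tensorMod L L') :=
    Groth.Agent.Ega2.Weight.isAmple_tensorMod hL hL'.1 fun x ↦ by
      obtain ⟨m, s, hs, -⟩ := hL'.2.2 x
      exact ⟨m, s, hs⟩
  rw [mk_mul_mk, mk_eq_one_iff] at h
  obtain ⟨e⟩ := h
  exact (Groth.Agent.S2336.result X).mpr (Groth.Agent.Flat2H.FamDict.isAmple_of_iso e hM)

/-- The inverse of a group scheme as an isomorphism. -/
theorem isIso_inv_left (G : Over (Spec (CommRingCat.of k))) [GrpObj G] : IsIso ((𝟙 G)⁻¹ : G ⟶ G).left := by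
  have h : ((𝟙 G)⁻¹ : G ⟶ G) ≫ (𝟙 G)⁻¹ = 𝟙 G := by
    rw [GrpObj.comp_inv, Category.comp_id, _root_.inv_inv]
  have h1 : IsIso ((𝟙 G)⁻¹ : G ⟶ G) := ⟨(𝟙 G)⁻¹, h, h⟩
  exact inferInstanceAs (IsIso ((Over.forget _).map ((𝟙 G)⁻¹ : G ⟶ G)))

/-- A surjective homomorphism onto an abelian variety such that the pull-back of a translation invariant class is
ample: the source is affine. -/
theorem isAffine_of_inv [IsAlgClosed k] {H B : Over (Spec (CommRingCat.of k))} [GrpObj H] [GrpObj B]
    [LocallyOfFiniteType H.hom] [QuasiCompact H.hom] [IsProper B.hom] [GeometricallyIntegral B.hom]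
    (r : H ⟶ B) [IsMonHom r] {c : Pic B.left} (hc : Inv c) {L : H.left.Modules} (hL : CohB1.IsAmple L)
    (h : mk L hL.1 = pl r c) : IsAffine H.left := by
  have hiso := isIso_inv_left H
  have hL' : CohB1.IsAmple ((Scheme.Modules.pullback ((𝟙 H)⁻¹ : H ⟶ H).left).obj L) :=
    Groth.Agent.Sga5.AmpleFib.isAmple_pullback _ hL
  have hcomp : CompactSpace H.left := QuasiCompact.compactSpace_of_compactSpace H.hom
  have hsep : IsSeparated H.hom := Books.AntiAffine.isSeparated_hom H
  have hsep' : H.left.IsSeparated := by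
    constructor
    have h6 : IsSeparated (H.hom ≫ Limits.terminal.from _) := inferInstance
    rwa [Subsingleton.elim (Limits.terminal.from H.left) (H.hom ≫ Limits.terminal.from _)]
  have h1 : mk L hL.1 * mk _ hL'.1 = 1 := by
    have h2 : mk _ hL'.1 = pl (𝟙 H)⁻¹ (mk L hL.1) := (pull_mk _ hL.1).symm
    rw [h2, h, ← pl_comp, GrpObj.inv_comp, Category.id_comp, K506.Transl.pl_inv_of_inv hc, mul_inv_cancel]
  have hq : H.left.IsQuasiAffine := isQuasiAffine_of_mul_eq_one _ hL hL' h1
  exact S3020.result k H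

/-- **Invertible modules with ample pull-back are nondegenerate.** -/
theorem nd [IsAlgClosed k] {G A : Over (Spec (CommRingCat.of k))} [GrpObj G] [GrpObj A]
    [LocallyOfFiniteType G.hom] [QuasiCompact G.hom] [IsProper A.hom] [GeometricallyIntegral A.hom]
    (q : G ⟶ A) [IsMonHom q] [Surjective q.left] {M : A.left.Modules} (hM : PicF.IsInvertible M)
    (hamp : CohB1.IsAmple ((Scheme.Modules.pullback q.left).obj M)) : K524.Index.ND (mk M hM) := by
  by_contra hcon
  obtain ⟨B, _, i, hi, hci, hBp, hBg, hphi, hinf⟩ := K524.Degen.exists_sub (mk M hM) hcon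
  have hmono : Mono i := K414.Kit.mono_of_closed i
  -- the inverse image of `B`
  obtain ⟨H, p₁, p₂, hsq⟩ : ∃ (H : Over (Spec (CommRingCat.of k))) (p₁ : H ⟶ G) (p₂ : H ⟶ B), IsPullback p₁ p₂ q i :=
    ⟨_, _, _, IsPullback.of_hasPullback q i⟩
  obtain ⟨_, hp₁⟩ := K199.PullGrp.exists_grpObj_of_isPullback q i p₁ p₂ hsq
  have hp₂ : IsMonHom p₂ := by
    have h1 : IsMonHom (p₂ ≫ i) := by rw [← hsq.w]; infer_instance
    refine K395.Pts.isMonHom_of_pts p₂ fun T x y => ?_
    have e1 : (x * y) ≫ (p₂ ≫ i) = (x ≫ p₂ ≫ i) * (y ≫ p₂ ≫ i) := MonObj.mul_comp _ _ _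
    have e2 : ((x ≫ p₂) * (y ≫ p₂)) ≫ i = ((x ≫ p₂) ≫ i) * ((y ≫ p₂) ≫ i) := MonObj.mul_comp _ _ _
    rw [← cancel_mono i, Category.assoc, e1, e2, Category.assoc, Category.assoc]
  have hsq' : IsPullback p₁.left p₂.left q.left i.left := hsq.map (Over.forget _)
  have hc1 : IsClosedImmersion p₁.left := MorphismProperty.of_isPullback hsq'.flip hci
  have hs2 : Surjective p₂.left := MorphismProperty.of_isPullback hsq' inferInstance
  have hHf : LocallyOfFiniteType H.hom := K414.Kit.locallyOfFiniteType_of_closed p₁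
  have hHq : QuasiCompact H.hom := K414.Kit.quasiCompact_of_closed p₁
  -- the restriction of `M` to `B` is translation invariant
  have hinv : Inv (pl i (mk M hM)) := by
    intro b
    have h1 := hphi b
    have h2 : i ≫ tr (b ≫ i) = tr b ≫ i := by
      rw [K506.Transl.comp_tr, MonObj.mul_comp, Category.id_comp, Category.assoc]
    unfold phi at h1
    rw [mul_inv_eq_one] at h1
    rw [← pl_comp, ← h2, pl_comp, h1]
  have hampH : CohB1.IsAmple ((Scheme.Modules.pullback p₁.left).obj ((Scheme.Modules.pullback q.left).obj M)) :=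
    Groth.Agent.Sga5.AmpleFib.isAmple_pullback _ hamp
  have haff : IsAffine H.left := isAffine_of_inv p₂ hinv hampH (by
    have h1 : mk _ hampH.1 = pl p₁ (pl q (mk M hM)) := by
      change _ = pull p₁.left (pull q.left (mk M hM))
      rw [pull_mk, pull_mk]
    rw [h1, ← pl_comp, ← pl_comp, hsq.w])
  have hBi : IsIntegral B.left := GeometricallyIntegral.isIntegral_of_subsingleton B.hom
  have hBaff : IsAffine B.left := K414.Kit.isAffine_of_surjective p₂
  have hBah : IsAffineHom B.hom := inferInstance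
  have hfin : IsFinite B.hom := (IsFinite.iff_isProper_and_isAffineHom).2 ⟨inferInstance, inferInstance⟩
  have hBfin : Finite B.left := Sga7.H270.FinPts.finite_of_isFinite B.hom
  refine hinf ?_
  refine Set.Finite.of_finite_image (f := fun x => x.left (IsLocalRing.closedPoint k)) (Set.toFinite _) ?_
  intro x _ y _ hxy
  ext1
  exact Sga7.H270.FinPts.section_ext B.hom x.left y.left (Over.w x) (Over.w y) hxy

end K413.AmpNd
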