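import Groth.Agent.Picfga.ChiCech
import Groth.Agent.S0034
import Groth.Agent.S0086
import Groth.Agent.AlgGrp.K414.AntiAffBC

/-!
# Finiteness of the sections and extension of the base field
-/

set_option autoImplicit false
universe u
open CategoryTheory Limits AlgebraicGeometry MonoidalCategory CartesianMonoidalCategory

namespace K413.BcFin

open Groth.Agent Groth.Agent.Picfga.ChiCech Groth.Agent.Fdesc.LocGen

variable {k : Type u} [Field k]

theorem str_top {X : Scheme.{u}} [X.Over (Spec (CommRingCat.of k))] (a : k) :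
    str k (⊤ : X.Opens) a = ((Scheme.ΓSpecIso (CommRingCat.of k)).inv ≫ (X ↘ Spec (CommRingCat.of k)).appTop).hom a := by
  change ores (le_refl _) _ = _
  rw [ores_refl]
  rfl

theorem finite_secA {X : Scheme.{u}} [X.Over (Spec (CommRingCat.of k))]
    (hf : Function.Bijective ((Scheme.ΓSpecIso (CommRingCat.of k)).inv ≫ (X ↘ Spec (CommRingCat.of k)).appTop).hom)
    (M : X.Modules) : Module.Finite Γ(X, ⊤) Γ(M, ⊤) ↔ Module.Finite k (SecA k M ⊤) := by
  have hb : Function.Bijective (str k (⊤ : X.Opens)) := by
    have h : ⇑(str k (⊤ : X.Opens)) =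
        ((Scheme.ΓSpecIso (CommRingCat.of k)).inv ≫ (X ↘ Spec (CommRingCat.of k)).appTop).hom := funext str_top
    rw [h]
    exact hf
  let σ := RingEquiv.ofBijective (str k (⊤ : X.Opens)) hb
  constructor
  · intro h
    let f : Γ(M, ⊤) →ₛₗ[(σ.symm : Γ(X, ⊤) →+* k)] SecA k M ⊤ :=
      { toFun := fun m => toSecA m
        map_add' := fun _ _ => rfl
        map_smul' := fun a m => by
          rw [toSecA_smul]
          congr 2
          exact (σ.apply_symm_apply a).symm }
    exact Module.Finite.of_surjective f (fun m => ⟨toSecA.symm m, rfl⟩)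
  · intro h
    let f : SecA k M ⊤ →ₛₗ[str k (⊤ : X.Opens)] Γ(M, ⊤) :=
      { toFun := fun m => toSecA.symm m
        map_add' := fun _ _ => rfl
        map_smul' := fun a m => rfl }
    exact Module.Finite.of_surjective f (fun m => ⟨toSecA m, rfl⟩)

/-- **Finiteness after extension of the base field.** -/
theorem finite_bc {L : Type u} [Field L] [Algebra k L] (X : Over (Spec (CommRingCat.of k))) [CompactSpace X.left]
    [QuasiSeparatedSpace X.left]
    (hX : Function.Bijective ((Scheme.ΓSpecIso (CommRingCat.of k)).inv ≫ X.hom.appTop).hom)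
    (hX' : Function.Bijective ((Scheme.ΓSpecIso (CommRingCat.of L)).inv ≫
      (Red.bc (Spec.map (CommRingCat.ofHom (algebraMap k L))) X).hom.appTop).hom)
    (M : X.left.Modules) [Coh.IsQCoh M] (h : Module.Finite Γ(X.left, ⊤) Γ(M, ⊤)) :
    Module.Finite Γ((Red.bc (Spec.map (CommRingCat.ofHom (algebraMap k L))) X).left, ⊤)
      Γ((Scheme.Modules.pullback
        (pullback.fst X.hom (Spec.map (CommRingCat.ofHom (algebraMap k L))))).obj M, ⊤) := by
  let _ : X.left.Over (Spec (CommRingCat.of k)) := ⟨X.hom⟩
  let _ : (Red.bc (Spec.map (CommRingCat.ofHom (algebraMap k L))) X).left.Over (Spec (CommRingCat.of L)) :=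
    ⟨(Red.bc (Spec.map (CommRingCat.ofHom (algebraMap k L))) X).hom⟩
  rw [finite_secA hX'] 
  rw [finite_secA hX] at h
  have h1 : Module.Finite k (Coh.HH X.left M 0) := Module.Finite.equiv (h0Top k M).symm
  obtain ⟨e⟩ := S0034.result k L X.left (Red.bc (Spec.map (CommRingCat.ofHom (algebraMap k L))) X).left
    (pullback.fst X.hom (Spec.map (CommRingCat.ofHom (algebraMap k L)))) (IsPullback.of_hasPullback _ _) M 0
  have h2 : Module.Finite L (Coh.HH (Red.bc (Spec.map (CommRingCat.ofHom (algebraMap k L))) X).left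
    ((Scheme.Modules.pullback (pullback.fst X.hom (Spec.map (CommRingCat.ofHom (algebraMap k L))))).obj M) 0) :=
    Module.Finite.equiv e
  exact Module.Finite.equiv (h0Top L _)

/-- Properness descends. -/
theorem isProper_of_bc {L : Type u} [Field L] (f : Spec (CommRingCat.of L) ⟶ Spec (CommRingCat.of k))
    (X : Over (Spec (CommRingCat.of k))) (h : IsProper (Red.bc f X).hom) : IsProper X.hom := by
  have : MorphismProperty.DescendsAlong @IsProper (@Surjective ⊓ @Flat ⊓ @QuasiCompact : MorphismProperty Scheme.{u}) :=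
    S0086.result
  exact MorphismProperty.of_isPullback_of_descendsAlong (P := @IsProper)
    (Q := (@Surjective ⊓ @Flat ⊓ @QuasiCompact : MorphismProperty Scheme.{u}))
    (IsPullback.of_hasPullback X.hom f).flip ⟨⟨inferInstance, inferInstance⟩, inferInstance⟩ h

end K413.BcFin
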