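import Mathlib.LinearAlgebra.Eigenspace.Triangularizable
import Mathlib.LinearAlgebra.FiniteDimensional.Lemmas

/-!
# Common eigenvectors of commuting operators
-/

set_option autoImplicit false

namespace K413.CommEig

variable {k : Type*} [Field k] [IsAlgClosed k] {V : Type*} [AddCommGroup V] [Module k V]

/-- Commuting operators have a common eigenvector in every nonzero finite-dimensional stable subspace. -/
theorem exists_eigen {ι : Type*} (T : ι → V →ₗ[k] V) (hT : ∀ i j v, T i (T j v) = T j (T i v)) (n : ℕ) :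
    ∀ (E : Submodule k V), FiniteDimensional k E → Module.finrank k E ≤ n → E ≠ ⊥ → (∀ i, ∀ v ∈ E, T i v ∈ E) →
      ∃ v ∈ E, v ≠ 0 ∧ ∀ i, ∃ a : k, T i v = a • v := by
  induction n with
  | zero =>
    intro E _ hn hE _
    exact absurd (Submodule.finrank_eq_zero.1 (Nat.le_zero.1 hn)) hE
  | succ n ih =>
    intro E _ hn hE hst
    by_cases hall : ∀ i, ∃ a : k, ∀ v ∈ E, T i v = a • v
    · obtain ⟨v, hv, hv0⟩ := (Submodule.ne_bot_iff E).1 hE
      exact ⟨v, hv, hv0, fun i => (hall i).imp fun a ha => ha v hv⟩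
    · push Not at hall
      obtain ⟨i, hi⟩ := hall
      have hnt : Nontrivial E := (Submodule.nontrivial_iff_ne_bot).2 hE
      obtain ⟨a, ha⟩ := Module.End.exists_eigenvalue (K := k) (V := E) ((T i).restrict (hst i))
      obtain ⟨w, hw⟩ := ha.exists_hasEigenvector
      have hw1 : T i w.1 = a • w.1 := by
        have := congrArg Subtype.val hw.apply_eq_smul
        simpa using this
      let E' : Submodule k V := E ⊓ LinearMap.ker (T i - a • LinearMap.id)
      have hmem : ∀ v, v ∈ E' ↔ v ∈ E ∧ T i v = a • v := by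
        intro v
        rw [Submodule.mem_inf, LinearMap.mem_ker, LinearMap.sub_apply, LinearMap.smul_apply, LinearMap.id_apply,
          sub_eq_zero]
      obtain ⟨u, hu, hu'⟩ := hi a
      have hlt : E' < E := by
        refine lt_of_le_of_ne inf_le_left fun h => hu' ?_
        rw [← h] at hu
        exact ((hmem u).1 hu).2
      have hfr : Module.finrank k E' < Module.finrank k E := Submodule.finrank_lt_finrank_of_lt hlt
      have hfin : FiniteDimensional k E' := Submodule.finiteDimensional_of_le inf_le_left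
      have hne' : E' ≠ ⊥ := by
        rw [Submodule.ne_bot_iff]
        refine ⟨w.1, (hmem _).2 ⟨w.2, hw1⟩, fun h => hw.2 (Subtype.ext h)⟩
      have hst' : ∀ j, ∀ v ∈ E', T j v ∈ E' := by
        intro j v hv
        obtain ⟨h1, h2⟩ := (hmem v).1 hv
        refine (hmem _).2 ⟨hst j v h1, ?_⟩
        rw [hT, h2, map_smul]
      obtain ⟨v, hv, hv0, hv'⟩ := ih E' hfin (Nat.lt_succ_iff.1 (lt_of_lt_of_le hfr hn)) hne' hst'
      exact ⟨v, ((hmem v).1 hv).1, hv0, hv'⟩

/-- A span on which a linear map into a finite-dimensional space is injective is finite-dimensional. -/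
theorem finite_of_injOn {k V W : Type*} [Field k] [AddCommGroup V] [Module k V] [AddCommGroup W] [Module k W]
    (E : Submodule k V) (ρ : V →ₗ[k] W)
    (hinj : ∀ v ∈ E, ρ v = 0 → v = 0) (F : Submodule k W) [FiniteDimensional k F] (hF : ∀ v ∈ E, ρ v ∈ F) :
    FiniteDimensional k E := by
  let f : E →ₗ[k] F := ρ.restrict hF
  refine Module.Finite.of_injective f ?_
  rw [← LinearMap.ker_eq_bot, LinearMap.ker_eq_bot']
  intro v hv
  have h1 : ρ v.1 = 0 := congrArg Subtype.val hv
  exact Subtype.ext (hinj v.1 v.2 h1)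

end K413.CommEig
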