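import Groth.Agent.AlgSp.K607.FinIso
import Groth.Agent.FEt.K872.Deg
import Groth.Agent.CurvesB.HZero
import Groth.Agent.Sga3B.AffPts
import Groth.Agent.Sga3B.DSPts
import Groth.Agent.Sga3B.Pts
import Mathlib.AlgebraicGeometry.AlgClosed.Basic

/-!
# Constancy of finite flat closed subgroups with enough functions
-/

set_option autoImplicit false
universe u
open CategoryTheory MonoidalCategory CartesianMonoidalCategory MonObj GrpObj AlgebraicGeometry Limits

namespace K413.ConstSub

open Groth.Agent Groth.Agent.Sga3B Groth.Agent.Books.AffBridge AffPts DSPts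

section Split

variable {S T : Scheme.{u}} (p : S ⟶ T) (s : T ⟶ S) (hs : s ≫ p = 𝟙 T)

include hs in
lemma cc_w (Y : Over T) : pullback.fst (Red.bc p Y).hom s ≫ pullback.fst Y.hom p ≫ Y.hom =
    pullback.snd (Red.bc p Y).hom s := by
  have h1 : pullback.fst Y.hom p ≫ Y.hom = (Red.bc p Y).hom ≫ p := pullback.condition
  rw [h1, ← Category.assoc, pullback.condition, Category.assoc, hs, Category.comp_id]

/-- the identification of the base change along a section -/
noncomputable def cc (Y : Over T) : Red.bc s (Red.bc p Y) ⟶ Y :=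
  Over.homMk (pullback.fst (Red.bc p Y).hom s ≫ pullback.fst Y.hom p) (by
    rw [Category.assoc]
    exact cc_w p s hs Y)

lemma cc_left (Y : Over T) : (cc p s hs Y).left = pullback.fst (Red.bc p Y).hom s ≫ pullback.fst Y.hom p := rfl

lemma cc_naturality {Y Y' : Over T} (f : Y ⟶ Y') :
    (Over.pullback s).map ((Over.pullback p).map f) ≫ cc p s hs Y' = cc p s hs Y ≫ f := by
  ext1
  rw [Over.comp_left, Over.comp_left, cc_left, cc_left]
  have h1 : ((Over.pullback s).map ((Over.pullback p).map f)).left ≫ pullback.fst (Red.bc p Y').hom s =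
      pullback.fst (Red.bc p Y).hom s ≫ ((Over.pullback p).map f).left := pullback.lift_fst _ _ _
  have h2 : ((Over.pullback p).map f).left ≫ pullback.fst Y'.hom p = pullback.fst Y.hom p ≫ f.left :=
    pullback.lift_fst _ _ _
  rw [← Category.assoc, h1, Category.assoc, h2, Category.assoc]

instance isIso_cc (Y : Over T) : IsIso (cc p s hs Y) := by
  have h1 : IsPullback (pullback.fst (Red.bc p Y).hom s ≫ pullback.fst Y.hom p) (pullback.snd (Red.bc p Y).hom s)
      Y.hom (s ≫ p) := by
    have ha : IsPullback (pullback.fst Y.hom p) (Red.bc p Y).hom Y.hom p := IsPullback.of_hasPullback _ _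
    have hb : IsPullback (pullback.fst (Red.bc p Y).hom s) (pullback.snd (Red.bc p Y).hom s) (Red.bc p Y).hom s :=
      IsPullback.of_hasPullback _ _
    exact hb.paste_horiz ha
  have h2 : IsIso (s ≫ p) := by rw [hs]; infer_instance
  have h3 : IsIso ((Over.forget T).map (cc p s hs Y)) := h1.isIso_fst_of_isIso
  exact isIso_of_reflects_iso _ (Over.forget T)

/-- the test scheme seen through the section -/
noncomputable def al (X : Over T) : X ⟶ (Over.map p).obj ((Over.map s).obj X) :=
  Over.homMk (𝟙 _) (by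
    change 𝟙 _ ≫ (X.hom ≫ s) ≫ p = X.hom
    rw [Category.id_comp, Category.assoc, hs, Category.comp_id])

lemma comp_cc {G : Over T} [GrpObj G] {X : Over T} (x : X ⟶ Red.bc s (Red.bc p G)) :
    x ≫ cc p s hs G = al p s hs X ≫ (bcEquiv p _ G).symm ((bcEquiv s X (Red.bc p G)).symm x) := by
  ext1
  rw [Over.comp_left, Over.comp_left, bcEquiv_symm_left, bcEquiv_symm_left, cc_left]
  change _ = 𝟙 _ ≫ _
  rw [Category.id_comp, Category.assoc]

instance isMonHom_cc (G : Over T) [GrpObj G] : IsMonHom (cc p s hs G) := by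
  refine Pts.isMonHom_of_points (cc p s hs G) fun X x y => ?_
  rw [comp_cc, comp_cc, comp_cc, map_mul, map_mul, MonObj.comp_mul]

end Split

/-- Base change of a closed immersion over `S`. -/
theorem isClosedImmersion_pullback_map {S T : Scheme.{u}} (y : T ⟶ S) {U V : Over S} (a : U ⟶ V)
    (ha : IsClosedImmersion a.left) : IsClosedImmersion ((Over.pullback y).map a).left := by
  have h1 : IsPullback (pullback.fst U.hom y) (pullback.snd U.hom y) (a.left ≫ V.hom) y := by
    rw [Over.w]; exact IsPullback.of_hasPullback _ _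
  have h2 := IsPullback.of_bot' h1 (IsPullback.of_hasPullback V.hom y)
  have h3 : ((Over.pullback y).map a).left =
      (IsPullback.of_hasPullback V.hom y).lift (pullback.fst U.hom y ≫ a.left)
        (pullback.snd U.hom y) (by rw [Category.assoc, h1.w]) := by
    apply (IsPullback.of_hasPullback V.hom y).hom_ext
    · rw [IsPullback.lift_fst]; exact pullback.lift_fst _ _ _
    · rw [IsPullback.lift_snd]; exact pullback.lift_snd _ _ _
  rw [h3]
  exact MorphismProperty.of_isPullback h2 ha

variable {k : Type u} [Field k]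

/-- A closed subscheme of a constant finite scheme which is flat with as many functions as its rank is constant. -/
theorem isIso_of_finrank {S : Scheme.{u}} [Nonempty S] (p : S ⟶ Spec (CommRingCat.of k))
    (G : Over (Spec (CommRingCat.of k))) [IsFinite G.hom] (H : Over S) (Y : Over (Spec (CommRingCat.of k)))
    (θ : H ⟶ Red.bc p Y) (j₀ : Y ⟶ G) (i : H ⟶ Red.bc p G) (hi : θ ≫ (Over.pullback p).map j₀ = i)
    [IsClosedImmersion i.left] [Flat H.hom] [IsFinite Y.hom] (m : ℕ)
    (hm : ∀ y, H.hom.finrank y = m) (hY : ∀ y, Y.hom.finrank y = m) : IsIso θ := by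
  have hGf : IsFinite (Red.bc p G).hom := MorphismProperty.pullback_snd _ _ ‹IsFinite G.hom›
  have hHf : IsFinite H.hom := by
    rw [← Over.w i]; infer_instance
  have hYf : IsFinite (Red.bc p Y).hom := MorphismProperty.pullback_snd _ _ ‹IsFinite Y.hom›
  have hYflat : Flat Y.hom := inferInstance
  have hYf2 : Flat (Red.bc p Y).hom := MorphismProperty.pullback_snd _ _ hYflat
  have hcl : IsClosedImmersion θ.left := by
    have h1 : θ.left ≫ ((Over.pullback p).map j₀).left = i.left := by
      rw [← Over.comp_left, hi]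
    have h2 : IsSeparated ((Over.pullback p).map j₀).left := by
      have h3 : IsSeparated (((Over.pullback p).map j₀).left ≫ (Red.bc p G).hom) := by
        have h4 : ((Over.pullback p).map j₀).left ≫ (Red.bc p G).hom = (Red.bc p Y).hom := Over.w _
        rw [h4]; infer_instance
      exact IsSeparated.of_comp _ (Red.bc p G).hom
    have h3 : IsClosedImmersion (θ.left ≫ ((Over.pullback p).map j₀).left) := by rw [h1]; infer_instance
    exact IsClosedImmersion.of_comp _ ((Over.pullback p).map j₀).left
  have hθ : θ.left ≫ (Red.bc p Y).hom = H.hom := Over.w θ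
  have h5 : IsFinite (θ.left ≫ (Red.bc p Y).hom) := by rw [hθ]; exact hHf
  have h6 : Flat (θ.left ≫ (Red.bc p Y).hom) := by rw [hθ]; infer_instance
  have h7 : IsIso θ.left := by
    refine K607.FinIso.isIso θ.left (Red.bc p Y).hom fun y => ?_
    have h8 : (Red.bc p Y).hom.finrank y = Y.hom.finrank (p y) := Scheme.Hom.finrank_pullback_snd _ _ _
    rw [h8, hY]
    exact (congrArg (fun f => Scheme.Hom.finrank f y) hθ).trans (hm y)
  have h8 : IsIso ((Over.forget S).map θ) := h7
  exact isIso_of_reflects_iso _ (Over.forget S)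

lemma isIso_appTop {X Y : Scheme.{u}} (f : X ⟶ Y) (h : IsIso f) : IsIso f.appTop :=
  inferInstanceAs (IsIso (f.app ⊤))

/-- **Constancy.** -/
theorem main [IsAlgClosed k] {S : Scheme.{u}} [Nonempty S] (p : S ⟶ Spec (CommRingCat.of k)) [LocallyOfFiniteType p]
    (G : Over (Spec (CommRingCat.of k))) [GrpObj G] [IsFinite G.hom]
    (H : Over S) [GrpObj H] (i : H ⟶ Red.bc p G) [IsMonHom i]
    [IsClosedImmersion i.left] [Flat H.hom] (m : ℕ)
    (hm : ∀ y, H.hom.finrank y = m)
    (hΓ : Module.Finite k (Fn ((Over.map p).obj H))) (hΓm : Module.finrank k (Fn ((Over.map p).obj H)) = m) :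
    ∃ (H' : Grp (Over (Spec (CommRingCat.of k)))) (j : H'.X ⟶ G), IsMonHom j ∧ IsClosedImmersion j.left ∧
      ∃ e : H ≅ Red.bc p H'.X, IsMonHom e.hom ∧
        e.hom ≫ (Over.pullback p).map j = i ∧
        Function.Bijective (e.hom.left ≫ Limits.pullback.fst H'.X.hom p).appTop.hom := by
  -- a rational point
  obtain ⟨s, hs⟩ : ∃ s : Spec (CommRingCat.of k) ⟶ S, s ≫ p = 𝟙 _ := by
    have : JacobsonSpace S := LocallyOfFiniteType.jacobsonSpace p
    have h : (closedPoints S).Nonempty := by
      rw [Set.nonempty_iff_ne_empty]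
      intro h0
      have h1 := closure_closedPoints (X := S)
      rw [h0, closure_empty] at h1
      exact Set.empty_ne_univ h1
    obtain ⟨x, hx⟩ := h
    exact ⟨pointOfClosedPoint p x hx, pointOfClosedPoint_comp p x hx⟩
  -- functions
  let Hk : Over (Spec (CommRingCat.of k)) := (Over.map p).obj H
  let B := Fn Hk
  let Y : Over (Spec (CommRingCat.of k)) := SpecOver k B
  have hGa : IsAffine G.left := isAffine_of_isAffineHom G.hom
  obtain ⟨A, _, _, eG, heG⟩ := Books.AffBridge.exists_hopf k G
  obtain ⟨ρ, hρ⟩ := (affPt_bijective Hk).2 ((bcEquiv p H G).symm i ≫ eG.hom)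
  let j₀ : Y ⟶ G := specMap k ρ ≫ eG.inv
  have hj₀ : toSpecFn Hk ≫ j₀ = (bcEquiv p H G).symm i := by
    have h1 : toSpecFn Hk ≫ specMap k ρ = (bcEquiv p H G).symm i ≫ eG.hom := hρ
    rw [← Category.assoc, h1, Category.assoc, Iso.hom_inv_id, Category.comp_id]
  let θ : H ⟶ Red.bc p Y := (Over.mapPullbackAdj p).homEquiv H Y (toSpecFn Hk)
  have hθ : θ ≫ (Over.pullback p).map j₀ = i := by
    have h1 := (Over.mapPullbackAdj p).homEquiv_naturality_right (X := H) (toSpecFn Hk) j₀
    rw [← h1, hj₀]
    exact (bcEquiv p H G).apply_symm_apply i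
  have hθfst : θ.left ≫ pullback.fst Y.hom p = H.left.toSpecΓ := by
    have h1 : ((Over.mapPullbackAdj p).homEquiv H Y).symm θ = toSpecFn Hk :=
      Equiv.symm_apply_apply _ _
    rw [Adjunction.homEquiv_counit] at h1
    have h2 := congrArg (fun f => f.left) h1
    simp only [Over.comp_left] at h2
    rw [Over.mapPullbackAdj_counit_app] at h2
    exact h2
  have hYfin : IsFinite Y.hom := by
    change IsFinite (Spec.map (CommRingCat.ofHom (algebraMap k B)))
    rw [IsFinite.SpecMap_iff]
    exact RingHom.finite_algebraMap.2 hΓ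
  have hYrk : ∀ y, Y.hom.finrank y = m := by
    intro y
    have h1 := Scheme.Hom.finrank_SpecMap_algebraMap k B y
    refine h1.trans ?_
    rw [Module.rankAtStalk_eq_finrank_of_free, ← hΓm]
    rfl
  have hθiso : IsIso θ := isIso_of_finrank p G H Y θ j₀ i hθ m hm hYrk
  -- the subgroup over `k`
  let H' : Over (Spec (CommRingCat.of k)) := Red.bc s H
  let j : H' ⟶ G := (Over.pullback s).map i ≫ cc p s hs G
  have hj : IsMonHom j := by
    have h1 : IsMonHom ((Over.pullback s).map i) := inferInstance
    infer_instance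
  have hjc : IsClosedImmersion j.left := by
    have h1 : IsClosedImmersion ((Over.pullback s).map i).left :=
      isClosedImmersion_pullback_map s i inferInstance
    have h2 : IsIso (cc p s hs G).left := inferInstanceAs (IsIso ((Over.forget _).map (cc p s hs G)))
    exact inferInstanceAs (IsClosedImmersion (((Over.pullback s).map i).left ≫ (cc p s hs G).left))
  let ψ : H' ≅ Y := (Over.pullback s).mapIso (asIso θ) ≪≫ asIso (cc p s hs Y)
  have hψ : ψ.hom ≫ j₀ = j := by
    change ((Over.pullback s).map θ ≫ cc p s hs Y) ≫ j₀ = _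
    rw [Category.assoc, ← cc_naturality, ← Category.assoc, ← Functor.map_comp, hθ]
  have hψ' : ψ.inv ≫ j = j₀ := by rw [← hψ, Iso.inv_hom_id_assoc]
  let e : H ≅ Red.bc p H' := asIso θ ≪≫ (Over.pullback p).mapIso ψ.symm
  have he : e.hom ≫ (Over.pullback p).map j = i := by
    change (θ ≫ (Over.pullback p).map ψ.inv) ≫ _ = _
    rw [Category.assoc, ← Functor.map_comp, hψ', hθ]
  refine ⟨⟨H'⟩, j, hj, hjc, e, ?_, he, ?_⟩
  · have hjm : Mono ((Over.pullback p).map j) := by
      have : Mono j := Over.mono_of_mono_left j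
      infer_instance
    have hjp : IsMonHom ((Over.pullback p).map j) := inferInstance
    refine Pts.isMonHom_of_points e.hom fun X x y => ?_
    rw [← cancel_mono ((Over.pullback p).map j), MonObj.mul_comp (x ≫ e.hom) (y ≫ e.hom)]
    have h4 : ∀ z : X ⟶ H, (z ≫ e.hom) ≫ (Over.pullback p).map j = z ≫ i := fun z => by
      rw [Category.assoc, he]
    rw [h4, h4, h4, MonObj.mul_comp]
  · have h1 : e.hom.left ≫ pullback.fst H'.hom p = H.left.toSpecΓ ≫ ψ.inv.left := by
      have h2 : ((Over.pullback p).map ψ.inv).left ≫ pullback.fst H'.hom p =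
          pullback.fst Y.hom p ≫ ψ.inv.left := pullback.lift_fst _ _ _
      change (θ.left ≫ ((Over.pullback p).map ψ.inv).left) ≫ _ = _
      rw [Category.assoc, h2, ← Category.assoc, hθfst]
      rfl
    have h2 : IsIso ψ.inv.left := inferInstanceAs (IsIso ((Over.forget _).mapIso ψ.symm).hom)
    have h3 : IsIso (H.left.toSpecΓ ≫ ψ.inv.left).appTop := by
      have h5 : IsIso ψ.inv.left.appTop := isIso_appTop _ h2
      have h6 : IsIso H.left.toSpecΓ.appTop := by
        rw [Scheme.toSpecΓ_appTop]
        infer_instance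
      rw [Scheme.Hom.comp_appTop]
      exact IsIso.comp_isIso' h5 h6
    have h4 : IsIso (e.hom.left ≫ pullback.fst H'.hom p).appTop := by rw [h1]; exact h3
    exact ConcreteCategory.bijective_of_isIso (e.hom.left ≫ pullback.fst H'.hom p).appTop

end K413.ConstSub
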