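import Groth.Agent.AlgGrp.K413.Eig

/-!
# The character of an eigenvector

* `exists_char`: the eigenvalues of an eigenvector form a multiplicative function on the kernel;
* `eq_mul`: in the coordinates of a local section `p`, an eigenvector is `c (rp p) · q^* b`;
* `rel`: the transition relation of the functions `b`.
-/

set_option autoImplicit false
set_option linter.unusedSectionVars false
universe u
open CategoryTheory MonoidalCategory CartesianMonoidalCategory MonObj GrpObj AlgebraicGeometry Limits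

namespace K413.Eig2

open Groth.Agent K410.LocSec K410.LocSys K413.EvPt K413.Eig
open Groth.Agent.Fdesc.LocGen

variable {k : Type u} [Field k] {N G A : Over (Spec (CommRingCat.of k))} [GrpObj N] [GrpObj G] [GrpObj A]
  (i : N ⟶ G) {q : G ⟶ A} [IsMonHom i] [IsMonHom q] (hk : AlgGrp.IsKernel i q)

/-- The eigenvalues of an eigenvector form a multiplicative function. -/
theorem exists_char [IsAlgClosed k] [LocallyOfFiniteType G.hom] [IsReduced G.left] [IsCommMonObj G]
    [LocallyOfFiniteType N.hom] [IsReduced N.left] (hNN : IsReduced (N ⊗ N).left) {W : A.left.Opens}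
    {f : Γ(G.left, q.left ⁻¹ᵁ W)} (hf : f ≠ 0) {χ : (𝟙_ (Over (Spec (CommRingCat.of k))) ⟶ N) → k}
    (h : ∀ n (x : 𝟙_ (Over (Spec (CommRingCat.of k))) ⟶ ov G (q.left ⁻¹ᵁ W)), ev (x ≫ tk i hk n W) f = χ n * ev x f) :
    ∃ c : Γ(N.left, ⊤), IsMul c ∧ IsUnit c ∧ ∀ n, evg n c = χ n := by
  obtain ⟨x₀, hx₀⟩ : ∃ x₀ : 𝟙_ (Over (Spec (CommRingCat.of k))) ⟶ ov G (q.left ⁻¹ᵁ W), ev x₀ f ≠ 0 := by
    by_contra hcon
    push Not at hcon
    exact hf (ev_ext fun x => by rw [hcon, map_zero])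
  have hmul : ∀ n m, χ (n * m) = χ n * χ m := by
    intro n m
    apply mul_right_cancel₀ hx₀
    rw [← h, ← tk_mul, h, h]
    ring
  have hone : χ 1 = 1 := by
    apply mul_right_cancel₀ hx₀
    rw [← h, tk_one, _root_.one_mul]
  obtain ⟨m, hm⟩ := exists_act i hk W
  let o : N ⟶ ov G (q.left ⁻¹ᵁ W) := lift (𝟙 N) (toUnit N ≫ x₀) ≫ m
  obtain ⟨c, hc⟩ : ∃ c : Γ(N.left, ⊤), ∀ n, evg n c = χ n := by
    refine ⟨N.hom.appTop ((Scheme.ΓSpecIso (CommRingCat.of k)).inv (ev x₀ f)⁻¹) *
      o.left.appTop ((q.left ⁻¹ᵁ W).topIso.inv f), fun n => ?_⟩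
    have h1 : n ≫ o = x₀ ≫ tk i hk n W := by
      rw [← lift_act i hk hm, ← Category.assoc, comp_lift, Category.comp_id, ← Category.assoc,
        toUnit_unique (n ≫ toUnit N) (𝟙 _), Category.id_comp]
    have h2 : evg n (o.left.appTop ((q.left ⁻¹ᵁ W).topIso.inv f)) = χ n * ev x₀ f := by
      rw [evg_appTop, h1]
      exact h n x₀
    rw [map_mul, evg_hom, h2]
    field_simp
  refine ⟨c, ?_, ?_, hc⟩
  · have h1 : μ[N].left.appTop c = (fst N N).left.appTop c * (snd N N).left.appTop c := by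
      have : LocallyOfFiniteType (N ⊗ N).hom :=
        inferInstanceAs (LocallyOfFiniteType (pullback.fst N.hom N.hom ≫ N.hom))
      apply evg_ext
      intro z
      rw [map_mul, evg_appTop, evg_appTop, evg_appTop, hc, hc, hc, ← hmul, Hom.mul_def]
      congr 2
      rw [← comp_lift, lift_fst_snd, Category.comp_id]
    intro T x y
    rw [Hom.mul_def, Over.comp_left, Scheme.Hom.comp_appTop]
    change (lift x y).left.appTop (μ[N].left.appTop c) = _
    rw [h1, map_mul]
    congr 1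
    · rw [← CommRingCat.comp_apply, ← Scheme.Hom.comp_appTop, ← Over.comp_left, lift_fst]
    · rw [← CommRingCat.comp_apply, ← Scheme.Hom.comp_appTop, ← Over.comp_left, lift_snd]
  · refine IsUnit.of_mul_eq_one (((𝟙 N)⁻¹ : N ⟶ N).left.appTop c) ?_
    apply evg_ext
    intro n
    rw [map_mul, evg_appTop, hc, hc, GrpObj.comp_inv, Category.comp_id, ← hmul, mul_inv_cancel, hone, map_one]

/-- the local section as a morphism to the inverse image -/
theorem exists_sl (p : LS q) : ∃ sl : ov A p.V ⟶ ov G (q.left ⁻¹ᵁ p.V), sl ≫ inc G _ = p.s := by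
  refine exists_lift _ _ fun t => ?_
  change q.left (p.s.left t) ∈ p.V
  rw [← Scheme.Hom.comp_apply, ← Over.comp_left, p.hs]
  exact t.2

noncomputable def sl (p : LS q) : ov A p.V ⟶ ov G (q.left ⁻¹ᵁ p.V) := (exists_sl p).choose

theorem sl_inc (p : LS q) : sl p ≫ inc G _ = p.s := (exists_sl p).choose_spec

theorem eq_tk [IsCommMonObj G] (p : LS q) (x : 𝟙_ (Over (Spec (CommRingCat.of k))) ⟶ ov G (q.left ⁻¹ᵁ p.V)) :
    (x ≫ qr p.V ≫ sl p) ≫ tk i hk (x ≫ rp i hk p) p.V = x := by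
  apply K410.LocSec.hom_ext
  rw [tk_inc, Category.assoc, Category.assoc, sl_inc, Category.assoc, rp_comp, MonObj.comp_mul, GrpObj.comp_inv]
  rw [mul_left_comm, mul_inv_cancel, _root_.mul_one]

/-- An eigenvector in the coordinates of a local section. -/
theorem eq_mul [IsAlgClosed k] [LocallyOfFiniteType G.hom] [IsReduced G.left] [IsCommMonObj G] (p : LS q)
    {f : Γ(G.left, q.left ⁻¹ᵁ p.V)} {c : Γ(N.left, ⊤)}
    (h : ∀ n (x : 𝟙_ (Over (Spec (CommRingCat.of k))) ⟶ ov G (q.left ⁻¹ᵁ p.V)),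
      ev (x ≫ tk i hk n p.V) f = evg n c * ev x f) :
    f = val c (rp i hk p) * (q.left.app p.V).hom (fp (sl p) f) := by
  apply ev_ext
  intro x
  have h1 : ev x ((q.left.app p.V).hom (fp (sl p) f)) = ev (x ≫ qr p.V ≫ sl p) f := by
    refine (ev_app q x _).trans ?_
    rw [ev_fp, Category.assoc]
  rw [map_mul, ev_val, h1, ← h, eq_tk]

/-- The transition relation. -/
theorem rel {X S : Scheme.{u}} (q : X ⟶ S) (hinj : ∀ U : S.Opens, Function.Injective (q.app U)) {J : Type u}
    (V : J → S.Opens) (g : ∀ z z', Γ(S, V z ⊓ V z'))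
    {f C : ∀ z, Γ(X, q ⁻¹ᵁ V z)} (hf : Compat q V g f) (b : ∀ z, Γ(S, V z))
    (hb : ∀ z, f z = C z * (q.app (V z)).hom (b z)) (hC : ∀ z, IsUnit (C z)) (h : ∀ z z', Γ(S, V z ⊓ V z'))
    (hu : ∀ z z', ores (q.preimage_mono (inf_le_right : V z ⊓ V z' ≤ V z')) (C z') =
      (q.app (V z ⊓ V z')).hom (h z z') * ores (q.preimage_mono (inf_le_left : V z ⊓ V z' ≤ V z)) (C z)) (z z' : J) :
    ores (inf_le_left : V z ⊓ V z' ≤ V z) (b z) * g z z' =
      h z z' * ores (inf_le_right : V z ⊓ V z' ≤ V z') (b z') := by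
  apply hinj
  have h0 : ∀ {U W : S.Opens} (e : W ≤ U) (a : Γ(S, U)),
      ores (q.preimage_mono e) ((q.app U).hom a) = (q.app W).hom (ores e a) := by
    intro U W e a
    exact (ConcreteCategory.congr_hom (q.naturality (homOfLE e).op) a).symm
  have h1 := hf z z'
  rw [hb z, hb z', map_mul, map_mul, hu z z', h0, h0, _root_.mul_assoc, _root_.mul_assoc, mul_left_comm ((q.app (V z ⊓ V z')).hom (h z z'))] at h1
  have h2 := (hC z).map (ores (q.preimage_mono (inf_le_left : V z ⊓ V z' ≤ V z)))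
  change (q.app _).hom _ = (q.app _).hom _
  rw [map_mul, map_mul]
  have h3 := h2.mul_left_cancel h1
  exact h3

end K413.Eig2
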