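import Groth.Agent.AlgGrp.K413.TensSec
import Groth.Agent.AlgGrp.K413.Eig2
import Groth.Agent.AlgGrp.K410.MulMain
import Groth.Agent.AbVar.K524.Index
import Groth.Agent.WittGrp.K718.Sect
import Groth.Agent.S12003

/-!
# Nondegenerate modules whose pull-back to an extension has a section

* `exists_twist`: a nonzero section of `q^* M` gives a translation invariant `R` with a nonzero section of `R ⊗ M`;
* `isAmple_of_section`: if moreover `M` is nondegenerate it is ample.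
-/

set_option autoImplicit false
set_option linter.unusedSectionVars false
universe u
open CategoryTheory MonoidalCategory CartesianMonoidalCategory MonObj GrpObj AlgebraicGeometry Limits

namespace K413.EffAmp

open Groth.Agent K410.LocSec K410.LocSys K410.MulRn K410.MulMain K413.EvPt K413.Eig K413.Eig2
open Groth.Agent.Fdesc.LocGen Groth.Agent.Grpsch.PicGrp Groth.Agent.Grpsch.Cube Groth.Agent.Picfga

variable {k : Type u} [Field k] [IsAlgClosed k] {N G A : Over (Spec (CommRingCat.of k))} [GrpObj N] [GrpObj G]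
  [GrpObj A] (i : N ⟶ G) {q : G ⟶ A} [IsMonHom i] [IsMonHom q] (hk : AlgGrp.IsKernel i q)
  [IsCommMonObj G] [IsIntegral G.left] [LocallyOfFiniteType G.hom] [Surjective q.left] [IsIntegral A.left]
  [LocallyOfFiniteType N.hom] [IsReduced N.left] [IsAffine N.left] [IsAffineHom q.left]

include hk in
theorem exists_twist (hNN : IsReduced (N ⊗ N).left) (hinj : ∀ U : A.left.Opens, Function.Injective (q.left.app U))
    (hcov : ⨆ p : LS q, p.V = ⊤) {M : A.left.Modules} (hM : PicF.IsInvertible M)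
    (s : Γ((Scheme.Modules.pullback q.left).obj M, ⊤)) (hs : s ≠ 0) :
    ∃ (R : A.left.Modules) (hR : PicF.IsInvertible R),
      (∀ x : 𝟙_ (Over (Spec (CommRingCat.of k))) ⟶ A, pl (tr x) (Grpsch.PicGrp.mk R hR) = Grpsch.PicGrp.mk R hR) ∧
      ∃ τ : Γ(CohB1.tensorMod R M, ⊤), τ ≠ 0 := by
  let J := {z : Σ p : LS q, Γ(M, p.V) // IsGen z.2 ∧ (z.1.V : Set A.left).Nonempty}
  let V : J → A.left.Opens := fun z => z.1.1.V
  let e : ∀ z : J, Γ(M, V z) := fun z => z.1.2
  have he : ∀ z, IsGen (e z) := fun z => z.2.1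
  have hne : ∀ z : J, (q.left ⁻¹ᵁ V z : Set G.left).Nonempty := by
    rintro ⟨z, hz, ⟨a, ha⟩⟩
    obtain ⟨x, rfl⟩ := q.left.surjective a
    exact ⟨x, ha⟩
  have hex : ∀ x : A.left, ∃ z : J, x ∈ V z ∧ IsAffineOpen (V z) := by
    intro x
    have hx : x ∈ ⨆ p : LS q, p.V := by rw [hcov]; trivial
    obtain ⟨p, hp⟩ := TopologicalSpace.Opens.mem_iSup.1 hx
    obtain ⟨U, f, hx', hf⟩ := (isInvertible_iff M).mp hM x
    obtain ⟨W, hW, hxW, hWU⟩ := exists_isAffineOpen_mem_and_subset (x := x) (U := p.V ⊓ U) ⟨hp, hx'⟩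
    have h1 : W ≤ p.V := fun y hy => (hWU hy).1
    have h2 : W ≤ U := fun y hy => (hWU hy).2
    exact ⟨⟨⟨p.res h1, res M h2 f⟩, hf.res _, ⟨x, hxW⟩⟩, hxW, hW⟩
  have hV : ⨆ z, V z = ⊤ := by
    refine TopologicalSpace.Opens.ext (Set.eq_univ_of_forall fun x => ?_)
    obtain ⟨z, hz, -⟩ := hex x
    exact TopologicalSpace.Opens.mem_iSup.2 ⟨z, hz⟩
  obtain ⟨z₀, -, hz₀⟩ := hex (genericPoint A.left)
  have haff : IsAffine (ov G (q.left ⁻¹ᵁ (V z₀))).left := hz₀.preimage q.left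
  have hg' : ∀ z z' : J, ∃ g : Γ(A.left, V z ⊓ V z'), res M (inf_le_left : V z ⊓ V z' ≤ V z) (e z) =
      g • res M (inf_le_right : V z ⊓ V z' ≤ V z') (e z') := fun z z' => ((he z').res _).exists_eq _
  choose g hg using hg'
  have hf' : ∀ z, ∃ a : Γ(G.left, q.left ⁻¹ᵁ V z), res _ (le_top : q.left ⁻¹ᵁ V z ≤ ⊤) s = a • pullSec q.left (e z) :=
    fun z => ((he z).pullSec q.left).exists_eq _
  choose f hf using hf'
  have hcomp : Compat q.left V g f := by
    intro z z'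
    have h1 := congrArg (res _ (q.left.preimage_mono (inf_le_left : V z ⊓ V z' ≤ V z))) (hf z)
    have h2 := congrArg (res _ (q.left.preimage_mono (inf_le_right : V z ⊓ V z' ≤ V z'))) (hf z')
    rw [res_res, res_smul, res_pullSec q.left (inf_le_left : V z ⊓ V z' ≤ V z), hg, pullSec_smul, smul_smul] at h1
    rw [res_res, res_smul, res_pullSec q.left (inf_le_right : V z ⊓ V z' ≤ V z')] at h2
    exact (((he z').res (inf_le_right : V z ⊓ V z' ≤ V z')).pullSec q.left).ext (h1.symm.trans h2)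
  have hf0 : f z₀ ≠ 0 := by
    intro h0
    apply hs
    refine res_ext _ (fun z => q.left ⁻¹ᵁ V z) (fun _ => le_top) ?_ fun z => ?_
    · rw [← Scheme.Hom.preimage_iSup, hV]
      exact le_rfl
    · rw [hf, Eig.eq_zero_of_eq_zero V g hne hcomp h0 z, zero_smul, map_zero]
  obtain ⟨f', χ, hf'c, hf'0, hf'χ⟩ := Eig.exists_eigen i hk V g hne z₀ haff hcomp hf0
  obtain ⟨c, hc, hcu, hcχ⟩ := Eig2.exists_char i hk hNN hf'0 (fun n x => hf'χ n z₀ x)
  let b : ∀ z : J, Γ(A.left, V z) := fun z => fp (Eig2.sl z.1.1) (f' z)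
  let C : ∀ z : J, Γ(G.left, q.left ⁻¹ᵁ V z) := fun z => val c (rp i hk z.1.1)
  have hb : ∀ z, f' z = C z * (q.left.app (V z)).hom (b z) := fun z =>
    Eig2.eq_mul i hk z.1.1 (fun n x => by rw [hf'χ, hcχ])
  have hC : ∀ z, IsUnit (C z) := fun z =>
    (hcu.map ((rp i hk z.1.1).left.appTop.hom)).map ((q.left ⁻¹ᵁ V z).topIso.hom.hom)
  have hrel := Eig2.rel q.left hinj V g hf'c b hb hC (fun z z' => hh i hk c z.1.1 z'.1.1)
    (fun z z' => hu i hk hc z.1.1 z'.1.1)
  have hb0 : b z₀ ≠ 0 := by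
    intro h0
    apply hf'0
    rw [hb, h0, map_zero, mul_zero]
  -- the inverse character
  obtain ⟨c', hcc'⟩ := hcu.exists_right_inv
  have hc' : IsMul c' := by
    intro T x y
    have h1 : IsUnit ((x * y).left.appTop c) := hcu.map (x * y).left.appTop.hom
    apply h1.mul_left_cancel
    have h2 : (x * y).left.appTop c * (x * y).left.appTop c' = 1 := by
      rw [← map_mul, hcc', map_one]
    have h3 : x.left.appTop c * x.left.appTop c' = 1 := by
      rw [← map_mul, hcc', map_one]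
    have h4 : y.left.appTop c * y.left.appTop c' = 1 := by
      rw [← map_mul, hcc', map_one]
    rw [h2, hc T x y, _root_.mul_mul_mul_comm, h3, h4, _root_.mul_one]
  have hcu' : IsUnit c' := IsUnit.of_mul_eq_one c (by rw [mul_comm, hcc'])
  obtain ⟨R, r, hr, hr'⟩ := exists_R i hk hc' hcu' 1
  have hR : PicF.IsInvertible R := by
    rw [isInvertible_iff]
    intro x
    have hx : x ∈ ⨆ p : LS q, p.V := by rw [hcov]; trivial
    obtain ⟨p, hp⟩ := TopologicalSpace.Opens.mem_iSup.1 hx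
    exact ⟨p.V, r p, hp, hr p⟩
  have hinv : ∀ x : 𝟙_ (Over (Spec (CommRingCat.of k))) ⟶ A, pl (tr x) (Grpsch.PicGrp.mk R hR) = Grpsch.PicGrp.mk R hR := by
    intro x
    have hq : LocallyOfFiniteType q.left := by
      have : LocallyOfFiniteType (q.left ≫ A.hom) := by rw [Over.w]; infer_instance
      exact locallyOfFiniteType_of_comp q.left A.hom
    obtain ⟨y, rfl⟩ := K410.LocEx.exists_lift_pt q x
    obtain ⟨e⟩ := R_tra i hk hcov 1 r hr hr' y
    exact (pull_mk _ hR).trans (mk_congr e)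
  refine ⟨R, hR, hinv, ?_⟩
  refine TensSec.exists_tmul_ne_zero V hV (fun z => r z.1.1) (fun z => hr _) e he b
    (fun z z' => hh i hk c z.1.1 z'.1.1) (fun z z' => hh i hk c' z.1.1 z'.1.1 ^ 1) g hg hrel (fun z z' => hr' _ _)
    (fun z z' => ?_) z₀ hb0
  rw [pow_one]
  change val c' (wp i hk z.1.1 z'.1.1) * val c (wp i hk z.1.1 z'.1.1) = 1
  rw [val, val, ← map_mul, ← map_mul, mul_comm, hcc', map_one, map_one]

theorem tr_comp_inv (x : 𝟙_ (Over (Spec (CommRingCat.of k))) ⟶ A) : tr x⁻¹ ≫ tr x = 𝟙 A := by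
  rw [comp_tr, tr, _root_.mul_assoc, GrpObj.comp_inv, inv_mul_cancel, _root_.mul_one]

include hk in
/-- **Nondegenerate modules whose pull-back has a nonzero section are ample.** -/
theorem isAmple_of_section (hNN : IsReduced (N ⊗ N).left)
    (hinj : ∀ U : A.left.Opens, Function.Injective (q.left.app U))
    (hcov : ⨆ p : LS q, p.V = ⊤) [IsProper A.hom] [GeometricallyIntegral A.hom] {M : A.left.Modules}
    (hM : PicF.IsInvertible M) (hnd : K524.Index.ND (Grpsch.PicGrp.mk M hM))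
    (s : Γ((Scheme.Modules.pullback q.left).obj M, ⊤)) (hs : s ≠ 0) : CohB1.IsAmple M := by
  obtain ⟨R, hR, hinv, τ, hτ⟩ := exists_twist i hk hNN hinj hcov hM s hs
  have hfin : Set.Finite {x : 𝟙_ (Over (Spec (CommRingCat.of k))) ⟶ A |
      pl (tr x) (Grpsch.PicGrp.mk M hM) = Grpsch.PicGrp.mk M hM} := by
    unfold K524.Index.ND at hnd
    convert hnd using 2
    ext x
    unfold K506.Transl.phi
    rw [mul_inv_eq_one]
  obtain ⟨x, hx⟩ := K512.PhiSurj.exists_eq (Grpsch.PicGrp.mk M hM) (Grpsch.PicGrp.mk R hR) hfin hinv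
  have hM' : PicF.IsInvertible ((Scheme.Modules.pullback (tr x).left).obj M) := isInvertible_pullback (tr x).left hM
  rw [mul_comm, mk_mul_mk, show pl (K512.Phi.tr x) (Grpsch.PicGrp.mk M hM) = Grpsch.PicGrp.mk _ hM' from pull_mk _ hM,
    mk_eq_iff] at hx
  obtain ⟨φ⟩ := hx
  have hσ : φ.inv.app ⊤ τ ≠ 0 := by
    intro h0
    apply hτ
    have h1 : φ.hom.app ⊤ (φ.inv.app ⊤ τ) = τ := by
      have h2 : φ.inv ≫ φ.hom = 𝟙 _ := φ.inv_hom_id
      have h3 := congrArg (fun t => t.app ⊤ τ) h2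
      exact h3
    rw [← h1, h0, map_zero]
  have hρ : pullSec (tr x⁻¹).left (φ.inv.app ⊤ τ) ≠ 0 := by
    intro h0
    apply hσ
    apply K410.SecCore.pullSec_injective (tr x⁻¹).left (app_tr_injective x⁻¹) hM' ⊤
    change pullSec (tr x⁻¹).left (φ.inv.app ⊤ τ) = pullSec (tr x⁻¹).left 0
    rw [h0]
    have := pullSec_smul (tr x⁻¹).left (0 : Γ(A.left, ⊤)) (0 : Γ((Scheme.Modules.pullback (tr x).left).obj M, ⊤))
    rw [zero_smul, map_zero, zero_smul] at this
    exact this.symm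
  have hψ : Nonempty ((Scheme.Modules.pullback (tr x⁻¹).left).obj ((Scheme.Modules.pullback (tr x).left).obj M) ≅ M) := by
    rw [← mk_eq_iff (isInvertible_pullback (tr x⁻¹).left hM') hM, ← pull_mk _ hM', ← pull_mk _ hM, ← pull_comp,
      ← Over.comp_left, tr_comp_inv, Over.id_left, pull_id]
  obtain ⟨ψ⟩ := hψ
  let ρ : Γ(M, ⊤) := ψ.hom.app ⊤ (pullSec (tr x⁻¹).left (φ.inv.app ⊤ τ))
  have hρ' : ρ ≠ 0 := by
    intro h0
    apply hρ
    have h1 : ψ.inv.app ⊤ ρ = pullSec (tr x⁻¹).left (φ.inv.app ⊤ τ) := by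
      have h2 : ψ.hom ≫ ψ.inv = 𝟙 _ := ψ.hom_inv_id
      exact congrArg (fun t => t.app ⊤ (pullSec (tr x⁻¹).left (φ.inv.app ⊤ τ))) h2
    rw [← h1, h0, map_zero]
    rfl
  refine S12003.result k A M hM (homOf ρ) (fun h => hρ' ?_) ((K524.Index.nd_iff hM).1 hnd)
  have h2 := congrArg (fun t => sec t ⊤) h
  simp only [sec_homOf, res_refl] at h2
  exact h2

end K413.EffAmp
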