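import Groth.Agent.AlgGrp.K413.EvPt
import Groth.Agent.AlgGrp.K413.CommEig
import Groth.Agent.Sga3B.RadOpen.Coef

/-!
# Eigenvectors in spaces of compatible families of functions

`q : G ⟶ A` a homomorphism with commutative affine kernel `N`, `A = ⋃ V z`, `g z z'` functions on the overlaps. A
nonzero compatible family of functions `f z` on `q⁻¹ (V z)` can be replaced by an eigenvector for the translations by
the points of `N`.
-/

set_option autoImplicit false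
set_option linter.unusedSectionVars false
universe u
open CategoryTheory MonoidalCategory CartesianMonoidalCategory MonObj GrpObj AlgebraicGeometry Limits

namespace K413.Eig

open Groth.Agent K410.LocSec K410.LocSys K413.EvPt
open Groth.Agent.Fdesc.LocGen

/-- compatible families of functions -/
def Compat {X S : Scheme.{u}} (q : X ⟶ S) {J : Type u} (V : J → S.Opens) (g : ∀ z z', Γ(S, V z ⊓ V z'))
    (f : ∀ z, Γ(X, q ⁻¹ᵁ V z)) : Prop :=
  ∀ z z', ores (q.preimage_mono (inf_le_left : V z ⊓ V z' ≤ V z)) (f z) * (q.app (V z ⊓ V z')).hom (g z z') =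
    ores (q.preimage_mono (inf_le_right : V z ⊓ V z' ≤ V z')) (f z')

variable {k : Type u} [Field k] {N G A : Over (Spec (CommRingCat.of k))} [GrpObj N] [GrpObj G] [GrpObj A]
  (i : N ⟶ G) {q : G ⟶ A} [IsMonHom i] [IsMonHom q] (hk : AlgGrp.IsKernel i q)

/-- translation by a point of the kernel -/
noncomputable abbrev tk (n : 𝟙_ (Over (Spec (CommRingCat.of k))) ⟶ N) (W : A.left.Opens) :
    ov G (q.left ⁻¹ᵁ W) ⟶ ov G (q.left ⁻¹ᵁ W) := rs (tr (n ≫ i)) (ker_le i hk n W)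

theorem comp_tk_inc {T : Over (Spec (CommRingCat.of k))} {W : A.left.Opens} (x : T ⟶ ov G (q.left ⁻¹ᵁ W))
    (n : 𝟙_ (Over (Spec (CommRingCat.of k))) ⟶ N) :
    (x ≫ tk i hk n W) ≫ inc G _ = (x ≫ inc G _) * (toUnit T ≫ n ≫ i) := by
  rw [Category.assoc, tk, rs_inc, ← Category.assoc, comp_tr]

theorem tk_inc {W : A.left.Opens} (x : 𝟙_ (Over (Spec (CommRingCat.of k))) ⟶ ov G (q.left ⁻¹ᵁ W))
    (n : 𝟙_ (Over (Spec (CommRingCat.of k))) ⟶ N) :
    (x ≫ tk i hk n W) ≫ inc G _ = (x ≫ inc G _) * (n ≫ i) := by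
  rw [comp_tk_inc, toUnit_unique (toUnit (𝟙_ (Over (Spec (CommRingCat.of k))))) (𝟙 _), Category.id_comp]

theorem tk_mul {W : A.left.Opens} (x : 𝟙_ (Over (Spec (CommRingCat.of k))) ⟶ ov G (q.left ⁻¹ᵁ W))
    (n m : 𝟙_ (Over (Spec (CommRingCat.of k))) ⟶ N) :
    (x ≫ tk i hk n W) ≫ tk i hk m W = x ≫ tk i hk (n * m) W := by
  apply K410.LocSec.hom_ext
  rw [tk_inc, tk_inc, tk_inc, MonObj.mul_comp, _root_.mul_assoc]

theorem tk_one {W : A.left.Opens} (x : 𝟙_ (Over (Spec (CommRingCat.of k))) ⟶ ov G (q.left ⁻¹ᵁ W)) :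
    x ≫ tk i hk 1 W = x := by
  apply K410.LocSec.hom_ext
  rw [tk_inc, MonObj.one_comp, _root_.mul_one]

theorem tk_comm [IsCommMonObj G] {W : A.left.Opens} (x : 𝟙_ (Over (Spec (CommRingCat.of k))) ⟶ ov G (q.left ⁻¹ᵁ W))
    (n m : 𝟙_ (Over (Spec (CommRingCat.of k))) ⟶ N) :
    (x ≫ tk i hk n W) ≫ tk i hk m W = (x ≫ tk i hk m W) ≫ tk i hk n W := by
  apply K410.LocSec.hom_ext
  rw [tk_inc, tk_inc, tk_inc, tk_inc]
  exact mul_right_comm _ _ _

theorem tk_res {W W' : A.left.Opens} (_h : W' ≤ W) (h' : q.left ⁻¹ᵁ W' ≤ (𝟙 G : G ⟶ G).left ⁻¹ᵁ (q.left ⁻¹ᵁ W))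
    (n : 𝟙_ (Over (Spec (CommRingCat.of k))) ⟶ N) :
    rs (𝟙 G) h' ≫ tk i hk n W = tk i hk n W' ≫ rs (𝟙 G) h' := by
  apply K410.LocSec.hom_ext
  simp only [Category.assoc, tk, rs_inc, rs_inc_assoc, Category.id_comp, Category.comp_id]

theorem tk_qr (W : A.left.Opens) (n : 𝟙_ (Over (Spec (CommRingCat.of k))) ⟶ N) :
    tk i hk n W ≫ qr W = qr (q := q) W := by
  apply K410.LocSec.hom_ext
  rw [Category.assoc, tk, qr, rs_inc, rs_inc_assoc, tr_comp_q, Category.assoc, ker_comp hk, comp_tr,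
    MonObj.comp_one, MonObj.comp_one, _root_.mul_one]

variable {J : Type u} (V : J → A.left.Opens) (g : ∀ z z', Γ(A.left, V z ⊓ V z'))

/-- Translates of compatible families are compatible. -/
theorem Compat.tk [IsAlgClosed k] [LocallyOfFiniteType G.hom] [IsReduced G.left] {f : ∀ z, Γ(G.left, q.left ⁻¹ᵁ V z)}
    (hf : Compat q.left V g f) (n : 𝟙_ (Over (Spec (CommRingCat.of k))) ⟶ N) :
    Compat q.left V g (fun z => fp (Eig.tk i hk n (V z)) (f z)) := by
  intro z z'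
  apply ev_ext
  intro x
  have h1 : q.left ⁻¹ᵁ (V z ⊓ V z') ≤ (𝟙 G : G ⟶ G).left ⁻¹ᵁ (q.left ⁻¹ᵁ V z) :=
    q.left.preimage_mono inf_le_left
  have h2 : q.left ⁻¹ᵁ (V z ⊓ V z') ≤ (𝟙 G : G ⟶ G).left ⁻¹ᵁ (q.left ⁻¹ᵁ V z') :=
    q.left.preimage_mono inf_le_right
  have h3 := congrArg (ev (x ≫ Eig.tk i hk n (V z ⊓ V z'))) (hf z z')
  rw [map_mul, ev_ores _ h1, ev_ores _ h2, ev_app, Category.assoc, Category.assoc, Category.assoc] at h3
  rw [map_mul, ev_ores _ h1, ev_ores _ h2, ev_app, ev_fp, ev_fp, Category.assoc, Category.assoc,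
    tk_res i hk inf_le_left, tk_res i hk inf_le_right, ← h3]
  have h4 := tk_qr i hk (V z ⊓ V z') n
  rw [qr] at h4
  rw [h4]

/-- the index set of values -/
abbrev Idx (q : G ⟶ A) (V : J → A.left.Opens) : Type u :=
  Σ z : J, (𝟙_ (Over (Spec (CommRingCat.of k))) ⟶ ov G (q.left ⁻¹ᵁ V z))

/-- the translation operators -/
noncomputable def T (n : 𝟙_ (Over (Spec (CommRingCat.of k))) ⟶ N) : (Idx q V → k) →ₗ[k] (Idx q V → k) :=
  LinearMap.funLeft k k (fun s => ⟨s.1, s.2 ≫ tk i hk n (V s.1)⟩)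

theorem T_apply (n : 𝟙_ (Over (Spec (CommRingCat.of k))) ⟶ N) (F : Idx q V → k) (z : J)
    (x : 𝟙_ (Over (Spec (CommRingCat.of k))) ⟶ ov G (q.left ⁻¹ᵁ V z)) :
    T i hk V n F ⟨z, x⟩ = F ⟨z, x ≫ tk i hk n (V z)⟩ := rfl

/-- constants -/
noncomputable def kst (X : Over (Spec (CommRingCat.of k))) (W : X.left.Opens) : k →+* Γ(X.left, W) :=
  W.topIso.hom.hom.comp ((ov X W).hom.appTop.hom.comp (Scheme.ΓSpecIso (CommRingCat.of k)).inv.hom)

theorem evg_hom {X : Over (Spec (CommRingCat.of k))} (x : 𝟙_ (Over (Spec (CommRingCat.of k))) ⟶ X) (a : k) :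
    evg x (X.hom.appTop ((Scheme.ΓSpecIso (CommRingCat.of k)).inv a)) = a := by
  simp only [evg, RingHom.comp_apply]
  have h1 : x.left ≫ X.hom = 𝟙 _ := Over.w x
  have h2 : X.hom.appTop ≫ x.left.appTop = 𝟙 _ := by
    rw [← Scheme.Hom.comp_appTop, h1]
    exact Scheme.Hom.id_appTop
  have h3 : x.left.appTop.hom (X.hom.appTop ((Scheme.ΓSpecIso (CommRingCat.of k)).inv a)) =
      (Scheme.ΓSpecIso (CommRingCat.of k)).inv a := congr($h2 _)
  rw [h3]
  exact congr($((Scheme.ΓSpecIso (CommRingCat.of k)).inv_hom_id) a)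

theorem ev_kst {X : Over (Spec (CommRingCat.of k))} {W : X.left.Opens}
    (x : 𝟙_ (Over (Spec (CommRingCat.of k))) ⟶ ov X W) (a : k) : ev x (kst X W a) = a := by
  simp only [ev, kst, RingHom.comp_apply]
  have h : W.topIso.inv.hom (W.topIso.hom.hom ((ov X W).hom.appTop.hom ((Scheme.ΓSpecIso (CommRingCat.of k)).inv.hom a))) =
      (ov X W).hom.appTop.hom ((Scheme.ΓSpecIso (CommRingCat.of k)).inv.hom a) := congr($(W.topIso.hom_inv_id) _)
  refine (congrArg (evg x) h).trans ?_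
  exact evg_hom x a

section

variable [IsAlgClosed k] [LocallyOfFiniteType G.hom] [IsReduced G.left]

theorem ores_kst {W W' : G.left.Opens} (h : W' ≤ W) (a : k) : ores h (kst G W a) = kst G W' a := by
  apply ev_ext
  intro x
  rw [ev_ores h (by simpa using h), ev_kst, ev_kst]

/-- the space of compatible families, in terms of values -/
def FF : Submodule k (Idx q V → k) where
  carrier := {F | ∃ f, Compat q.left V g f ∧ ∀ z x, F ⟨z, x⟩ = ev x (f z)}
  add_mem' := by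
    rintro F F' ⟨f, hf, hF⟩ ⟨f', hf', hF'⟩
    refine ⟨fun z => f z + f' z, fun z z' => ?_, fun z x => ?_⟩
    · rw [map_add, map_add, add_mul, hf z z', hf' z z']
    · rw [map_add, ← hF, ← hF']; rfl
  zero_mem' := ⟨fun z => 0, fun z z' => by rw [map_zero, map_zero, zero_mul], fun z x => by rw [map_zero]; rfl⟩
  smul_mem' := by
    rintro a F ⟨f, hf, hF⟩
    refine ⟨fun z => kst G _ a * f z, fun z z' => ?_, fun z x => ?_⟩
    · rw [map_mul, map_mul, ores_kst, ores_kst, _root_.mul_assoc, hf z z']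
    · rw [map_mul, ev_kst, ← hF]; rfl

theorem mem_FF {F : Idx q V → k} :
    F ∈ FF (q := q) V g ↔ ∃ f, Compat q.left V g f ∧ ∀ z x, F ⟨z, x⟩ = ev x (f z) := Iff.rfl

theorem T_mem {F : Idx q V → k} (hF : F ∈ FF V g) (n : 𝟙_ (Over (Spec (CommRingCat.of k))) ⟶ N) :
    T i hk V n F ∈ FF V g := by
  obtain ⟨f, hf, hF⟩ := hF
  refine ⟨_, Compat.tk i hk V g hf n, fun z x => ?_⟩
  rw [T_apply, hF, ev_fp]

end

theorem eq_zero_of_eq_zero [IsIntegral G.left] (hne : ∀ z, (q.left ⁻¹ᵁ V z : Set G.left).Nonempty)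
    {f : ∀ z, Γ(G.left, q.left ⁻¹ᵁ V z)} (hf : Compat q.left V g f) {z₀ : J} (h : f z₀ = 0) (z : J) : f z = 0 := by
  have h1 := hf z₀ z
  rw [h, map_zero, zero_mul] at h1
  have hn : Nonempty (q.left ⁻¹ᵁ (V z₀ ⊓ V z) : G.left.Opens) := by
    have h2 := nonempty_preirreducible_inter (q.left ⁻¹ᵁ V z₀).isOpen (q.left ⁻¹ᵁ V z).isOpen (hne z₀) (hne z)
    obtain ⟨x, hx⟩ := h2
    exact ⟨⟨x, hx⟩⟩
  have hinj := map_injective_of_isIntegral G.left
    (homOfLE (q.left.preimage_mono (inf_le_right : V z₀ ⊓ V z ≤ V z)))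
  apply hinj
  rw [map_zero]
  exact h1.symm

/-- the action of the kernel on the inverse image of an open subset -/
theorem exists_act (hk : AlgGrp.IsKernel i q) (W : A.left.Opens) :
    ∃ m : N ⊗ ov G (q.left ⁻¹ᵁ W) ⟶ ov G (q.left ⁻¹ᵁ W),
      m ≫ inc G _ = (snd _ _ ≫ inc G _) * (fst _ _ ≫ i) := by
  refine exists_lift _ _ fun t => ?_
  have h1 : ((snd N (ov G (q.left ⁻¹ᵁ W)) ≫ inc G _) * (fst _ _ ≫ i)) ≫ q = (snd _ _ ≫ inc G _) ≫ q := by
    rw [MonObj.mul_comp, Category.assoc (fst _ _), ker_comp hk, MonObj.comp_one, _root_.mul_one]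
  have h2 : q.left (((snd N (ov G (q.left ⁻¹ᵁ W)) ≫ inc G _) * (fst _ _ ≫ i)).left t) =
      q.left ((snd N (ov G (q.left ⁻¹ᵁ W)) ≫ inc G _).left t) := by
    rw [← Scheme.Hom.comp_apply, ← Scheme.Hom.comp_apply, ← Over.comp_left, ← Over.comp_left, h1]
  change q.left _ ∈ W
  rw [h2]
  exact mem_of_inc (snd N (ov G (q.left ⁻¹ᵁ W))) t

theorem lift_act {W : A.left.Opens} {m : N ⊗ ov G (q.left ⁻¹ᵁ W) ⟶ ov G (q.left ⁻¹ᵁ W)}
    (hm : m ≫ inc G _ = (snd _ _ ≫ inc G _) * (fst _ _ ≫ i))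
    (x : 𝟙_ (Over (Spec (CommRingCat.of k))) ⟶ ov G (q.left ⁻¹ᵁ W))
    (n : 𝟙_ (Over (Spec (CommRingCat.of k))) ⟶ N) : lift n x ≫ m = x ≫ tk i hk n W := by
  apply K410.LocSec.hom_ext
  rw [Category.assoc, hm, tk_inc, MonObj.comp_mul, lift_snd_assoc, lift_fst_assoc]

section

variable [IsAlgClosed k] [LocallyOfFiniteType G.hom] [IsCommMonObj G] [IsAffine N.left]

include hk in
/-- Translates of a function on an affine open subset span a finite-dimensional space. -/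
theorem exists_span {W : A.left.Opens} (hW : IsAffine (ov G (q.left ⁻¹ᵁ W)).left) (f : Γ(G.left, q.left ⁻¹ᵁ W)) :
    ∃ (r : ℕ) (b : Fin r → ((𝟙_ (Over (Spec (CommRingCat.of k))) ⟶ ov G (q.left ⁻¹ᵁ W)) → k)),
      ∀ n : 𝟙_ (Over (Spec (CommRingCat.of k))) ⟶ N, (fun x => ev (x ≫ tk i hk n W) f) ∈ Submodule.span k (Set.range b) := by
  obtain ⟨m, hm⟩ := exists_act i hk W
  have hN : IsAffineHom N.hom := inferInstance
  have hG : IsAffineHom (ov G (q.left ⁻¹ᵁ W)).hom := by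
    have := hW
    infer_instance
  obtain ⟨r, a, b, hab⟩ := Sga3B.RadOpen.exists_sum_fst_snd N (ov G (q.left ⁻¹ᵁ W))
    (m.left.appTop ((q.left ⁻¹ᵁ W).topIso.inv f))
  refine ⟨r, fun j x => evg x (b j), fun n => ?_⟩
  have h1 : (fun x => ev (x ≫ tk i hk n W) f) = ∑ j, evg n (a j) • (fun x => evg x (b j)) := by
    funext x
    rw [← lift_act i hk hm x n]
    change evg (lift n x ≫ m) _ = _
    rw [← evg_appTop]
    refine (congrArg (evg (lift n x)) hab).trans ?_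
    rw [map_sum, Finset.sum_apply]
    refine Finset.sum_congr rfl fun j _ => ?_
    rw [map_mul, evg_appTop, evg_appTop, lift_fst, lift_snd]
    rfl
  rw [h1]
  exact Submodule.sum_mem _ fun j _ => Submodule.smul_mem _ _ (Submodule.subset_span ⟨j, rfl⟩)

/-- **Eigenvectors.** -/
theorem exists_eigen [IsIntegral G.left] (hne : ∀ z, (q.left ⁻¹ᵁ V z : Set G.left).Nonempty) (z₀ : J)
    (hW : IsAffine (ov G (q.left ⁻¹ᵁ (V z₀))).left) {f : ∀ z, Γ(G.left, q.left ⁻¹ᵁ V z)} (hf : Compat q.left V g f)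
    (hf0 : f z₀ ≠ 0) :
    ∃ (f' : ∀ z, Γ(G.left, q.left ⁻¹ᵁ V z)) (χ : (𝟙_ (Over (Spec (CommRingCat.of k))) ⟶ N) → k),
      Compat q.left V g f' ∧ f' z₀ ≠ 0 ∧
      ∀ n z (x : 𝟙_ (Over (Spec (CommRingCat.of k))) ⟶ ov G (q.left ⁻¹ᵁ (V z))),
        ev (x ≫ tk i hk n (V z)) (f' z) = χ n * ev x (f' z) := by
  let F : Idx q V → k := fun s => ev s.2 (f s.1)
  have hF : F ∈ FF V g := ⟨f, hf, fun z x => rfl⟩
  let E : Submodule k (Idx q V → k) := Submodule.span k (Set.range fun n => T i hk V n F)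
  have hE : E ≤ FF V g := by
    rw [Submodule.span_le]
    rintro _ ⟨n, rfl⟩
    exact T_mem i hk V g hF n
  have hst : ∀ n, ∀ v ∈ E, T i hk V n v ∈ E := by
    intro n v hv
    induction hv using Submodule.span_induction with
    | mem v hv =>
      obtain ⟨m, rfl⟩ := hv
      refine Submodule.subset_span ⟨n * m, ?_⟩
      funext ⟨z, x⟩
      change F ⟨z, _⟩ = F ⟨z, (x ≫ tk i hk n (V z)) ≫ tk i hk m (V z)⟩
      rw [tk_mul]
    | zero => rw [map_zero]; exact zero_mem _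
    | add v w _ _ hv hw => rw [map_add]; exact add_mem hv hw
    | smul a v _ hv => rw [map_smul]; exact Submodule.smul_mem _ _ hv
  have hFE : F ∈ E := by
    refine Submodule.subset_span ⟨1, ?_⟩
    funext ⟨z, x⟩
    change F ⟨z, x ≫ tk i hk 1 (V z)⟩ = _
    rw [tk_one]
  have hF0 : F ≠ 0 := by
    intro h
    apply hf0
    apply ev_ext
    intro x
    rw [map_zero]
    exact congrFun h ⟨z₀, x⟩
  have hE0 : E ≠ ⊥ := by
    rw [Submodule.ne_bot_iff]
    exact ⟨F, hFE, hF0⟩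
  let ρ : (Idx q V → k) →ₗ[k] ((𝟙_ (Over (Spec (CommRingCat.of k))) ⟶ ov G (q.left ⁻¹ᵁ (V z₀))) → k) :=
    LinearMap.funLeft k k (fun x => ⟨z₀, x⟩)
  have hρ : ∀ v ∈ FF V g, ρ v = 0 → v = 0 := by
    rintro v ⟨f', hf', hv⟩ h0
    have h1 : f' z₀ = 0 := by
      apply ev_ext
      intro x
      rw [map_zero, ← hv]
      exact congrFun h0 x
    funext ⟨z, x⟩
    rw [hv, eq_zero_of_eq_zero V g hne hf' h1 z, map_zero]
    rfl
  obtain ⟨r, b, hb⟩ := exists_span i hk hW (f z₀)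
  have hfin : FiniteDimensional k E := by
    have : FiniteDimensional k (Submodule.span k (Set.range b)) := FiniteDimensional.span_of_finite k (Set.finite_range b)
    refine CommEig.finite_of_injOn E ρ (fun v hv => hρ v (hE hv)) (Submodule.span k (Set.range b)) ?_
    intro v hv
    induction hv using Submodule.span_induction with
    | mem v hv =>
      obtain ⟨m, rfl⟩ := hv
      exact hb m
    | zero => rw [map_zero]; exact zero_mem _
    | add v w _ _ hv hw => rw [map_add]; exact add_mem hv hw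
    | smul a v _ hv => rw [map_smul]; exact Submodule.smul_mem _ _ hv
  obtain ⟨v, hvE, hv0, hv⟩ := CommEig.exists_eigen (T i hk V) (fun n m F => by
    funext ⟨z, x⟩
    change F ⟨z, (x ≫ tk i hk n (V z)) ≫ tk i hk m (V z)⟩ = F ⟨z, (x ≫ tk i hk m (V z)) ≫ tk i hk n (V z)⟩
    rw [tk_comm]) _ E hfin le_rfl hE0 hst
  choose χ hχ using hv
  obtain ⟨f', hf', hv'⟩ := hE hvE
  refine ⟨f', χ, hf', fun h0 => hv0 ?_, fun n z x => ?_⟩
  · funext ⟨z, x⟩
    rw [hv', eq_zero_of_eq_zero V g hne hf' h0 z, map_zero]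
    rfl
  · rw [← hv', ← hv', ← T_apply i hk V n v z x, hχ]
    rfl

end

end K413.Eig
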