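import Groth.Agent.AlgGrp.K413.LargestOpen
import Groth.Agent.Flat2D.FlatAtPt
import Mathlib.AlgebraicGeometry.Morphisms.FlatMono
import Mathlib.AlgebraicGeometry.Noetherian

/-!
# Flatness of equivariant morphisms spreads by translation
-/

set_option autoImplicit false

universe u

open CategoryTheory MonoidalCategory CartesianMonoidalCategory MonObj GrpObj AlgebraicGeometry Limits

namespace K413.EquivFlat

open Groth.Agent.Sga3C.SchemImage Groth.Agent.Flat2D.FlatAtPt

/-- Flatness at a point descends and ascends along flat base change. -/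
theorem flat_iff_of_isPullback {X' Y' X Y : Scheme.{u}} {g' : X' ⟶ X} {f' : X' ⟶ Y'} {f : X ⟶ Y}
    {g : Y' ⟶ Y} (hc : IsPullback g' f' f g) [Flat g] (x' : X') :
    (f.stalkMap (g' x')).hom.Flat ↔ (f'.stalkMap x').hom.Flat := by
  refine ⟨flat_stalkMap_of_isPullback hc x', fun h => ?_⟩
  have hg' : Flat g' := MorphismProperty.of_isPullback (P := @Flat) hc.flip inferInstance
  apply flat_stalkMap_of_comp g' f x' _ (Flat.stalkMap g' x')
  rw [hc.w]
  exact flat_stalkMap_comp f' g x' h (Flat.stalkMap g _)

variable {S : Scheme.{u}} {G X Y : Over S} [GrpObj G] (aX : AlgGrp.Action G X)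
  (aY : AlgGrp.Action G Y) {f : X ⟶ Y}

/-- Flatness of an equivariant morphism at `x` and at `g x` are equivalent. -/
theorem flat_snd_iff_flat_act (hf : (G ◁ f) ≫ aY.act = aX.act ≫ f) [Flat G.hom]
    (p : (G ⊗ X).left) :
    (f.left.stalkMap ((snd G X).left p)).hom.Flat ↔ (f.left.stalkMap (aX.act.left p)).hom.Flat := by
  have h1 : Flat aY.act.left := ActBasic.act_left_of aY (P := @Flat) inferInstance
  have h2 : Flat (snd G Y).left := inferInstanceAs (Flat (pullback.snd G.hom Y.hom))
  rw [flat_iff_of_isPullback (isPullback_whiskerLeft_left f G).flip p,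
    flat_iff_of_isPullback (LargestOpen.isPullback_act_left aX aY hf).flip p]

/-- An equivariant morphism from `G` flat at the unit is flat: here `Y` is a `G`-scheme, `f : G ⟶ Y`
is equivariant, and `f` is flat at the points of the unit section. -/
theorem flat_of_flat_one [Flat G.hom] {f : G ⟶ Y}
    (hf : (G ◁ f) ≫ aY.act = μ[G] ≫ f)
    (h : ∀ s : (𝟙_ (Over S)).left, (f.left.stalkMap (η[G].left s)).hom.Flat) : Flat f.left := by
  rw [Flat.iff_flat_stalkMap]
  intro x
  have h1 := flat_snd_iff_flat_act (Groth.Agent.Sga3C.Transl.regular G) aY hf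
    ((lift (𝟙 G) (1 : G ⟶ G)).left x)
  have e1 : (snd G G).left ((lift (𝟙 G) (1 : G ⟶ G)).left x) = η[G].left ((toUnit G).left x) := by
    rw [← Saturate.comp_left_apply, lift_snd, Hom.one_def, Saturate.comp_left_apply]
  have e2 : (Groth.Agent.Sga3C.Transl.regular G).act.left ((lift (𝟙 G) (1 : G ⟶ G)).left x) = x := by
    rw [← Saturate.comp_left_apply]
    change (lift (𝟙 G) (1 : G ⟶ G) ≫ μ[G]).left x = x
    have : lift (𝟙 G) (1 : G ⟶ G) ≫ μ[G] = 𝟙 G := by
      rw [← Hom.mul_def, _root_.mul_one]
    rw [this]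
    rfl
  exact flat_stalkMap_congr _ e2 (h1.mp (flat_stalkMap_congr _ e1.symm (h _)))

/-- Over a field, for schemes locally of finite type, a monomorphism `G ⟶ Y` equivariant under `G`
and flat at the unit is an open immersion. -/
theorem isOpenImmersion_of_flat_one {k : Type u} [Field k] {G Y : Over (Spec (CommRingCat.of k))}
    [GrpObj G] [LocallyOfFiniteType G.hom] [LocallyOfFiniteType Y.hom] (aY : AlgGrp.Action G Y)
    {f : G ⟶ Y} [Mono f.left] (hf : (G ◁ f) ≫ aY.act = μ[G] ≫ f)
    (h : ∀ s : (𝟙_ (Over (Spec (CommRingCat.of k)))).left,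
      (f.left.stalkMap (η[G].left s)).hom.Flat) : IsOpenImmersion f.left := by
  have h1 : Flat f.left := flat_of_flat_one aY hf h
  have h2 : IsLocallyNoetherian Y.left := LocallyOfFiniteType.isLocallyNoetherian Y.hom
  have h3 : LocallyOfFiniteType f.left := by
    have : LocallyOfFiniteType (f.left ≫ Y.hom) := by rw [Over.w]; infer_instance
    exact locallyOfFiniteType_of_comp f.left Y.hom
  have h4 : LocallyOfFinitePresentation f.left :=
    LocallyOfFinitePresentation.iff_locallyOfFiniteType.mpr h3
  exact IsOpenImmersion.of_flat_of_mono f.left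

end K413.EquivFlat
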