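import Groth.Prelude.Def_SGA3x
import Mathlib.AlgebraicGeometry.Morphisms.Affine
import Mathlib.RingTheory.TensorProduct.IsBaseChangeFree

/-!
# The product with a scheme over a field is essentially free
-/

set_option autoImplicit false

universe u

open CategoryTheory Limits AlgebraicGeometry

namespace K413.EssFreeField

theorem isField_Γ_Spec (k : Type u) [Field k] : IsField Γ(Spec (CommRingCat.of k), ⊤) :=
  MulEquiv.isField (Field.toIsField k)
    (Scheme.ΓSpecIso (CommRingCat.of k)).commRingCatIsoToRingEquiv.toMulEquiv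

/-- A pushout of rings along a field gives a free module. -/
theorem free_of_isPushout {R A B C : CommRingCat.{u}} (hR : IsField R) {f : R ⟶ A} {g : R ⟶ B}
    {f' : A ⟶ C} {g' : B ⟶ C} (h : IsPushout f g f' g') :
    letI := g'.hom.toAlgebra
    Module.Free B C := by
  let := f.hom.toAlgebra
  let := g.hom.toAlgebra
  let := g'.hom.toAlgebra
  let := f'.hom.toAlgebra
  let := (f ≫ f').hom.toAlgebra
  let : Field R := hR.toField
  have i1 : IsScalarTower R A C := .of_algebraMap_eq' rfl
  have i2 : IsScalarTower R B C := .of_algebraMap_eq' (by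
    change (f ≫ f').hom = (g ≫ g').hom
    rw [h.w])
  have h1 : Algebra.IsPushout R B A C := by
    rw [← CommRingCat.isPushout_iff_isPushout]
    exact h.flip
  have h2 := h1.out
  have : Module.Free R A := inferInstance
  exact h2.free

theorem isEssentiallyFree_snd {k : Type u} [Field k] {Y S : Scheme.{u}}
    (f : Y ⟶ Spec (CommRingCat.of k)) (g : S ⟶ Spec (CommRingCat.of k)) :
    SGA3x.IsEssentiallyFree (pullback.snd f g) := by
  intro s
  obtain ⟨U, hU, hs, -⟩ := exists_isAffineOpen_mem_and_subset (U := (⊤ : S.Opens)) (x := s) trivial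
  have hUa : IsAffine U.toScheme := hU
  refine ⟨U, hs, hU, U, hUa, 𝟙 _, inferInstance, inferInstance, fun x => ?_⟩
  let P := pullback (pullback.snd f g) (𝟙 _ ≫ U.ι)
  let p : P ⟶ Y := pullback.fst (pullback.snd f g) (𝟙 _ ≫ U.ι) ≫ pullback.fst f g
  let q : P ⟶ U := pullback.snd (pullback.snd f g) (𝟙 _ ≫ U.ι)
  have hpq : IsPullback p q f (U.ι ≫ g) := by
    have h1 := IsPullback.of_hasPullback (pullback.snd f g) (𝟙 _ ≫ U.ι)
    have h2 := IsPullback.of_hasPullback f g
    have h3 := h1.flip.paste_vert h2.flip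
    rw [Category.id_comp] at h3
    exact h3.flip
  obtain ⟨W, hW, hx, -⟩ := exists_isAffineOpen_mem_and_subset (U := (⊤ : Y.Opens)) (x := p x) trivial
  have hWa : IsAffine W.toScheme := hW
  let V : P.Opens := p ⁻¹ᵁ W
  have h3 : IsPullback (p ∣_ W) V.ι W.ι p := isPullback_morphismRestrict p W
  have h4 : IsPullback (p ∣_ W) (V.ι ≫ q) (W.ι ≫ f) (U.ι ≫ g) := h3.paste_vert hpq
  have hVa : IsAffine V.toScheme := by
    have : IsAffine (pullback (W.ι ≫ f) (U.ι ≫ g)) := inferInstance
    exact .of_isIso h4.isoPullback.hom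
  refine ⟨V, hx, hVa, ?_⟩
  have h5 := isPushout_appTop_of_isPullback h4
  let := (V.ι ≫ q).appTop.hom.toAlgebra
  have h6 : Module.Free Γ(U.toScheme, ⊤) Γ(V.toScheme, ⊤) :=
    free_of_isPushout (isField_Γ_Spec k) h5
  exact Module.Projective.of_free (R := Γ(U.toScheme, ⊤)) (P := Γ(V.toScheme, ⊤))

end K413.EssFreeField
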