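import Groth.Agent.AlgGrp.K410.LocSys
import Mathlib.AlgebraicGeometry.AlgClosed.Basic

/-!
# Values of local functions at rational points

`fp s`: pull-back of functions along a morphism of open subschemes; `ev x f`: the value of a function on an open
subscheme at a rational point; `ev_ext`: functions on open subschemes of a reduced scheme locally of finite type over
an algebraically closed field are determined by their values.
-/

set_option autoImplicit false
set_option linter.unusedSectionVars false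
universe u
open CategoryTheory MonoidalCategory CartesianMonoidalCategory MonObj GrpObj AlgebraicGeometry Limits

namespace K413.EvPt

open Groth.Agent K410.LocSec K410.LocSys
open Groth.Agent.Fdesc.LocGen

section Fp

variable {B : Scheme.{u}}

/-- pull-back of functions along a morphism of open subschemes -/
noncomputable def fp {X Y : Over B} {W : X.left.Opens} {V : Y.left.Opens} (s : ov X W ⟶ ov Y V) :
    Γ(Y.left, V) →+* Γ(X.left, W) :=
  W.topIso.hom.hom.comp (s.left.appTop.hom.comp V.topIso.inv.hom)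

theorem fp_comp {X Y Z : Over B} {W : X.left.Opens} {V : Y.left.Opens} {U : Z.left.Opens} (s : ov X W ⟶ ov Y V)
    (t : ov Y V ⟶ ov Z U) (f : Γ(Z.left, U)) : fp (s ≫ t) f = fp s (fp t f) := by
  simp only [fp, RingHom.comp_apply]
  have h : V.topIso.inv.hom (V.topIso.hom.hom (t.left.appTop.hom (U.topIso.inv.hom f))) =
      t.left.appTop.hom (U.topIso.inv.hom f) := congr($(V.topIso.hom_inv_id) _)
  rw [h, Over.comp_left, Scheme.Hom.comp_appTop]
  rfl

theorem fp_rs {X Y : Over B} (f : X ⟶ Y) {W : X.left.Opens} {V : Y.left.Opens} (e : W ≤ f.left ⁻¹ᵁ V)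
    (a : Γ(Y.left, V)) : fp (rs f e) a = f.left.appLE V W e a := by
  have h1 : (rs f e).left.appTop = V.topIso.hom ≫ f.left.appLE V W e ≫ W.topIso.inv :=
    Scheme.Hom.resLE_app_top f.left e
  simp only [fp, RingHom.comp_apply]
  rw [h1]
  have h2 : V.topIso.inv ≫ (V.topIso.hom ≫ f.left.appLE V W e ≫ W.topIso.inv) ≫ W.topIso.hom = f.left.appLE V W e := by
    rw [Category.assoc, Category.assoc, Iso.inv_hom_id, Category.comp_id, Iso.inv_hom_id_assoc]
  exact congr($h2 a)

theorem fp_qr {X Y : Over B} (f : X ⟶ Y) {V : Y.left.Opens} (a : Γ(Y.left, V)) :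
    fp (rs f (W := f.left ⁻¹ᵁ V) le_rfl) a = f.left.app V a := by
  rw [fp_rs, Scheme.Hom.appLE_eq_app]

theorem fp_id_rs {X : Over B} {W V : X.left.Opens} (e : W ≤ V) (e' : W ≤ (𝟙 X : X ⟶ X).left ⁻¹ᵁ V)
    (a : Γ(X.left, V)) : fp (rs (𝟙 X) e') a = ores e a := by
  rw [fp_rs]
  have h : (𝟙 X : X ⟶ X).left.appLE V W e' = X.left.presheaf.map (homOfLE e).op := by
    have h1 : ∀ (f : X.left ⟶ X.left) (hf : f = 𝟙 _) (e'' : W ≤ f ⁻¹ᵁ V), f.appLE V W e'' =
        X.left.presheaf.map (homOfLE e).op := by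
      intro f hf e''
      subst hf
      rw [Scheme.Hom.appLE]
      erw [Scheme.Hom.id_app, Category.id_comp]
      rfl
    exact h1 _ (Over.id_left X) e'
  rw [h]
  rfl

theorem fp_val {N X Y : Over B} (c : Γ(N.left, ⊤)) {W : X.left.Opens} {V : Y.left.Opens} (s : ov X W ⟶ ov Y V)
    (y : ov Y V ⟶ N) : fp s (val c y) = val c (s ≫ y) := by
  simp only [fp, val, RingHom.comp_apply]
  have h : V.topIso.inv.hom (V.topIso.hom.hom (y.left.appTop.hom c)) = y.left.appTop.hom c :=
    congr($(V.topIso.hom_inv_id) _)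
  rw [Over.comp_left, Scheme.Hom.comp_appTop]
  exact congrArg (fun t => W.topIso.hom.hom (s.left.appTop.hom t)) h

end Fp

section Ev

variable {k : Type u} [Field k]

/-- The value of a global function at a rational point. -/
noncomputable def evg {X : Over (Spec (CommRingCat.of k))} (x : 𝟙_ (Over (Spec (CommRingCat.of k))) ⟶ X) :
    Γ(X.left, ⊤) →+* k :=
  ((Scheme.ΓSpecIso (CommRingCat.of k)).hom.hom).comp x.left.appTop.hom

theorem evg_appTop {X Y : Over (Spec (CommRingCat.of k))} (x : 𝟙_ (Over (Spec (CommRingCat.of k))) ⟶ X)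
    (f : X ⟶ Y) (a : Γ(Y.left, ⊤)) : evg x (f.left.appTop a) = evg (x ≫ f) a := by
  simp only [evg, RingHom.comp_apply]
  rw [Over.comp_left, Scheme.Hom.comp_appTop]
  rfl

/-- The value of a local function at a rational point. -/
noncomputable def ev {X : Over (Spec (CommRingCat.of k))} {W : X.left.Opens}
    (x : 𝟙_ (Over (Spec (CommRingCat.of k))) ⟶ ov X W) : Γ(X.left, W) →+* k :=
  (evg x).comp W.topIso.inv.hom

theorem ev_fp {X Y : Over (Spec (CommRingCat.of k))} {W : X.left.Opens} {V : Y.left.Opens}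
    (x : 𝟙_ (Over (Spec (CommRingCat.of k))) ⟶ ov X W) (s : ov X W ⟶ ov Y V) (f : Γ(Y.left, V)) :
    ev x (fp s f) = ev (x ≫ s) f := by
  simp only [ev, fp, RingHom.comp_apply]
  have h : W.topIso.inv.hom (W.topIso.hom.hom (s.left.appTop.hom (V.topIso.inv.hom f))) =
      s.left.appTop.hom (V.topIso.inv.hom f) := congr($(W.topIso.hom_inv_id) _)
  rw [h]
  exact evg_appTop x s _

theorem ev_val {N X : Over (Spec (CommRingCat.of k))} {W : X.left.Opens}
    (x : 𝟙_ (Over (Spec (CommRingCat.of k))) ⟶ ov X W) (c : Γ(N.left, ⊤)) (y : ov X W ⟶ N) :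
    ev x (val c y) = evg (x ≫ y) c := by
  simp only [ev, val, RingHom.comp_apply]
  have h : W.topIso.inv.hom (W.topIso.hom.hom (y.left.appTop.hom c)) =
      y.left.appTop.hom c := congr($(W.topIso.hom_inv_id) _)
  refine (congrArg (evg x) h).trans ?_
  exact evg_appTop x y _

theorem ev_app {X Y : Over (Spec (CommRingCat.of k))} (f : X ⟶ Y) {V : Y.left.Opens}
    (x : 𝟙_ (Over (Spec (CommRingCat.of k))) ⟶ ov X (f.left ⁻¹ᵁ V)) (a : Γ(Y.left, V)) :
    ev x (f.left.app V a) = ev (x ≫ rs f le_rfl) a := by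
  rw [← fp_qr, ev_fp]

theorem ev_ores {X : Over (Spec (CommRingCat.of k))} {W V : X.left.Opens} (e : W ≤ V)
    (e' : W ≤ (𝟙 X : X ⟶ X).left ⁻¹ᵁ V)
    (x : 𝟙_ (Over (Spec (CommRingCat.of k))) ⟶ ov X W) (a : Γ(X.left, V)) :
    ev x (ores e a) = ev (x ≫ rs (𝟙 X) e') a := by
  rw [← fp_id_rs e e', ev_fp]

/-- Nonempty open sets have rational points. -/
theorem exists_pt [IsAlgClosed k] (X : Over (Spec (CommRingCat.of k))) [LocallyOfFiniteType X.hom] (W : X.left.Opens)
    (hW : (W : Set X.left).Nonempty) :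
    ∃ x : 𝟙_ (Over (Spec (CommRingCat.of k))) ⟶ X, x.left (IsLocalRing.closedPoint k) ∈ W := by
  have : JacobsonSpace ↥X.left := LocallyOfFiniteType.jacobsonSpace X.hom
  obtain ⟨x, hxW, hx⟩ : ((W : Set X.left) ∩ closedPoints X.left).Nonempty := by
    have h1 : closure ((W : Set X.left) ∩ closedPoints X.left) = closure (W : Set X.left) :=
      JacobsonSpace.closure_inter_closedPoints_eq_closure W.isOpen.isLocallyClosed
    rw [← closure_nonempty_iff, h1, closure_nonempty_iff]
    exact hW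
  refine ⟨Over.homMk (pointOfClosedPoint X.hom x hx) (pointOfClosedPoint_comp X.hom x hx), ?_⟩
  change pointOfClosedPoint X.hom x hx _ ∈ W
  rw [pointOfClosedPoint_apply]
  exact hxW

theorem evg_ne_zero {X : Over (Spec (CommRingCat.of k))} (x : 𝟙_ (Over (Spec (CommRingCat.of k))) ⟶ X)
    (a : Γ(X.left, ⊤)) (h : x.left (IsLocalRing.closedPoint k) ∈ X.left.basicOpen a) : evg x a ≠ 0 := by
  intro h0
  have h1 : x.left.appTop a = 0 := by
    have h2 := congrArg (Scheme.ΓSpecIso (CommRingCat.of k)).inv.hom h0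
    rw [map_zero] at h2
    rw [← h2]
    exact (congr($((Scheme.ΓSpecIso (CommRingCat.of k)).hom_inv_id) (x.left.appTop a))).symm
  have h3 : IsLocalRing.closedPoint k ∈ x.left ⁻¹ᵁ (X.left.basicOpen a) := h
  rw [Scheme.preimage_basicOpen_top, h1, Scheme.basicOpen_zero] at h3
  exact h3

/-- Functions on a reduced scheme locally of finite type over an algebraically closed field are determined by their
values. -/
theorem evg_ext [IsAlgClosed k] {X : Over (Spec (CommRingCat.of k))} [LocallyOfFiniteType X.hom] [IsReduced X.left]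
    {a b : Γ(X.left, ⊤)} (h : ∀ x : 𝟙_ (Over (Spec (CommRingCat.of k))) ⟶ X, evg x a = evg x b) : a = b := by
  rw [← sub_eq_zero]
  by_contra hne
  have h1 : X.left.basicOpen (a - b) ≠ ⊥ := fun h2 => hne ((basicOpen_eq_bot_iff _).1 h2)
  obtain ⟨x, hx⟩ := exists_pt X (X.left.basicOpen (a - b)) (by
    rw [Set.nonempty_iff_ne_empty]
    intro h2
    exact h1 (TopologicalSpace.Opens.ext h2))
  exact evg_ne_zero x _ hx (by rw [map_sub, h, sub_self])

theorem ev_ext [IsAlgClosed k] {X : Over (Spec (CommRingCat.of k))} [LocallyOfFiniteType X.hom] [IsReduced X.left]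
    {W : X.left.Opens} {a b : Γ(X.left, W)} (h : ∀ x : 𝟙_ (Over (Spec (CommRingCat.of k))) ⟶ ov X W, ev x a = ev x b) :
    a = b := by
  have : LocallyOfFiniteType (ov X W).hom := inferInstanceAs (LocallyOfFiniteType (W.ι ≫ X.hom))
  have : IsReduced (ov X W).left := inferInstanceAs (IsReduced (W : Scheme.{u}))
  have h1 : W.topIso.inv.hom a = W.topIso.inv.hom b := evg_ext (X := ov X W) h
  have h2 := congrArg W.topIso.hom.hom h1
  have h3 : ∀ t : Γ(X.left, W), W.topIso.hom.hom (W.topIso.inv.hom t) = t := fun t =>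
    congr($(W.topIso.inv_hom_id) t)
  rwa [h3, h3] at h2

/-- A morphism whose image is contained in an open subset factors. -/
theorem exists_lift {T X : Over (Spec (CommRingCat.of k))} (f : T ⟶ X) (W : X.left.Opens) (h : ∀ t, f.left t ∈ W) :
    ∃ g : T ⟶ ov X W, g ≫ inc X W = f := by
  have h1 : Set.range f.left ⊆ Set.range W.ι := by
    rintro _ ⟨t, rfl⟩
    rw [Scheme.Opens.range_ι]
    exact h t
  refine ⟨Over.homMk (IsOpenImmersion.lift W.ι f.left h1) ?_, ?_⟩
  · change IsOpenImmersion.lift W.ι f.left h1 ≫ W.ι ≫ X.hom = T.hom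
    rw [IsOpenImmersion.lift_fac_assoc, Over.w]
  · ext1
    exact IsOpenImmersion.lift_fac _ _ _

theorem mem_of_inc {T X : Over (Spec (CommRingCat.of k))} {W : X.left.Opens} (g : T ⟶ ov X W) (t : T.left) :
    (g ≫ inc X W).left t ∈ W := by
  change W.ι (g.left t) ∈ W
  exact (g.left t).2

end Ev

end K413.EvPt
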