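import Groth.Agent.Flat2A.MinFlatIdeal
import Mathlib.RingTheory.Nakayama

/-!
# A local homomorphism of Noetherian local rings inducing isomorphisms modulo all powers is flat
-/

set_option autoImplicit false

universe u

open IsLocalRing TensorProduct

namespace K413.FlatOfCompletion

variable {A B : Type u} [CommRing A] [CommRing B] [IsLocalRing A] [IsLocalRing B] [Algebra A B]

/-- From surjectivity modulo squares of the maximal ideal, `m_B = m_A B`. -/
theorem map_maximalIdeal_eq [IsNoetherianRing B] [IsLocalHom (algebraMap A B)]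
    (h : Function.Surjective ((Ideal.Quotient.mk (maximalIdeal B ^ 2)).comp (algebraMap A B))) :
    (maximalIdeal A).map (algebraMap A B) = maximalIdeal B := by
  have hle : (maximalIdeal A).map (algebraMap A B) ≤ maximalIdeal B :=
    ((IsLocalRing.local_hom_TFAE (algebraMap A B)).out 0 2).1 ‹_›
  refine le_antisymm hle ?_
  have h1 : maximalIdeal B ≤ (maximalIdeal A).map (algebraMap A B) ⊔
      maximalIdeal B • maximalIdeal B := by
    intro b hb
    obtain ⟨a, ha⟩ := h (Ideal.Quotient.mk _ b)
    rw [RingHom.comp_apply, Ideal.Quotient.eq] at ha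
    rw [pow_two] at ha
    have hsub : algebraMap A B a - b ∈ maximalIdeal B := Ideal.mul_le_right ha
    have hab : algebraMap A B a ∈ maximalIdeal B := by
      have := Ideal.add_mem _ hsub hb
      rwa [sub_add_cancel] at this
    have haA : a ∈ maximalIdeal A := by
      rw [mem_maximalIdeal, mem_nonunits_iff] at hab ⊢
      exact fun hu => hab (hu.map _)
    have h2 : b = algebraMap A B a - (algebraMap A B a - b) := by ring
    rw [h2]
    exact Ideal.sub_mem _ (Ideal.mem_sup_left (Ideal.mem_map_of_mem _ haA))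
      (Ideal.mem_sup_right (by simpa using ha))
  exact Submodule.le_of_le_smul_of_le_jacobson_bot (IsNoetherian.noetherian _)
    (IsLocalRing.maximalIdeal_le_jacobson _) h1

theorem map_maximalIdeal_pow_eq [IsNoetherianRing B] [IsLocalHom (algebraMap A B)]
    (h : Function.Surjective ((Ideal.Quotient.mk (maximalIdeal B ^ 2)).comp (algebraMap A B))) (n : ℕ) :
    (maximalIdeal A ^ n).map (algebraMap A B) = maximalIdeal B ^ n := by
  rw [Ideal.map_pow, map_maximalIdeal_eq h]

omit [IsLocalRing A] [IsLocalRing B] in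
theorem flat_quotient (I : Ideal A)
    (h1 : Function.Surjective ((Ideal.Quotient.mk (I.map (algebraMap A B))).comp (algebraMap A B)))
    (h2 : ∀ a : A, algebraMap A B a ∈ I.map (algebraMap A B) → a ∈ I) :
    Module.Flat (A ⧸ I) ((A ⧸ I) ⊗[A] B) := by
  let f : (A ⧸ I) →ₐ[A ⧸ I] (A ⧸ I) ⊗[A] B := Algebra.TensorProduct.includeLeft
  -- the map to `B / I B`
  let q : B →ₐ[A] B ⧸ I.map (algebraMap A B) := Ideal.Quotient.mkₐ A _
  let l : (A ⧸ I) →ₐ[A] B ⧸ I.map (algebraMap A B) := Ideal.Quotient.liftₐ I
    ((Ideal.Quotient.mkₐ A _).comp (Algebra.ofId A B)) (by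
      intro a ha
      change Ideal.Quotient.mk _ (algebraMap A B a) = 0
      exact Ideal.Quotient.eq_zero_iff_mem.mpr (Ideal.mem_map_of_mem _ ha))
  let g : (A ⧸ I) ⊗[A] B →ₐ[A] B ⧸ I.map (algebraMap A B) :=
    Algebra.TensorProduct.lift l q (fun _ _ => Commute.all _ _)
  have hinj : Function.Injective f := by
    rw [injective_iff_map_eq_zero]
    intro x hx
    obtain ⟨a, rfl⟩ := Ideal.Quotient.mk_surjective x
    have h3 : g (f (Ideal.Quotient.mk I a)) = 0 := by rw [hx, map_zero]
    have h4 : g (f (Ideal.Quotient.mk I a)) = Ideal.Quotient.mk _ (algebraMap A B a) := by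
      change g ((Ideal.Quotient.mk I a) ⊗ₜ[A] (1 : B)) = _
      rw [Algebra.TensorProduct.lift_tmul, map_one, mul_one]
      rfl
    rw [h4, Ideal.Quotient.eq_zero_iff_mem] at h3
    exact Ideal.Quotient.eq_zero_iff_mem.mpr (h2 a h3)
  have hsurj : Function.Surjective f := by
    intro x
    induction x using TensorProduct.induction_on with
    | zero => exact ⟨0, map_zero _⟩
    | add x y hx hy =>
      obtain ⟨a, rfl⟩ := hx
      obtain ⟨b, rfl⟩ := hy
      exact ⟨a + b, map_add _ _ _⟩
    | tmul x b =>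
      obtain ⟨a, ha⟩ := h1 (Ideal.Quotient.mk _ b)
      rw [RingHom.comp_apply, Ideal.Quotient.eq] at ha
      refine ⟨x * Ideal.Quotient.mk I a, ?_⟩
      change (x * Ideal.Quotient.mk I a) ⊗ₜ[A] (1 : B) = x ⊗ₜ[A] b
      have h5 : (x * Ideal.Quotient.mk I a) = a • x := by
        rw [mul_comm, Algebra.smul_def]; rfl
      rw [h5, TensorProduct.smul_tmul, Algebra.smul_def, mul_one]
      -- elements of `I B` die
      have h6 : ∀ c ∈ I.map (algebraMap A B), x ⊗ₜ[A] c = 0 := by
        intro c hc
        refine Submodule.span_induction (p := fun c _ => x ⊗ₜ[A] c = 0) ?_ ?_ ?_ ?_ hc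
        · rintro _ ⟨i, hi, rfl⟩
          rw [Algebra.algebraMap_eq_smul_one, ← TensorProduct.smul_tmul]
          have : i • x = 0 := by
            obtain ⟨y, rfl⟩ := Ideal.Quotient.mk_surjective x
            rw [Algebra.smul_def]
            change Ideal.Quotient.mk I i * _ = 0
            rw [Ideal.Quotient.eq_zero_iff_mem.mpr hi, zero_mul]
          rw [this, TensorProduct.zero_tmul]
        · exact TensorProduct.tmul_zero _ _
        · intro y z _ _ hy hz
          rw [TensorProduct.tmul_add, hy, hz, add_zero]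
        · intro r y _ hy
          have : x ⊗ₜ[A] (r • y) = ((1 : A ⧸ I) ⊗ₜ[A] r) * (x ⊗ₜ[A] y) := by
            rw [Algebra.TensorProduct.tmul_mul_tmul, one_mul, smul_eq_mul]
          rw [this, hy, mul_zero]
      have h7 := h6 _ ha
      rw [TensorProduct.tmul_sub] at h7
      exact sub_eq_zero.mp h7
  exact Module.Flat.of_linearEquiv
    (LinearEquiv.ofBijective f.toLinearMap ⟨hinj, hsurj⟩).symm

/-- **Main local algebra lemma**. -/
theorem flat_of_bijective [IsNoetherianRing A] [IsNoetherianRing B] [IsLocalHom (algebraMap A B)]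
    (h1 : ∀ n : ℕ, Function.Surjective
      ((Ideal.Quotient.mk (maximalIdeal B ^ (n + 1))).comp (algebraMap A B)))
    (h2 : ∀ (n : ℕ) (a : A), algebraMap A B a ∈ maximalIdeal B ^ (n + 1) →
      a ∈ maximalIdeal A ^ (n + 1)) : Module.Flat A B := by
  refine Groth.Agent.Flat2A.MinFlatIdeal.flat_of_forall_quotient_pow (A := A) (B := B) (N := B)
    fun n hn => ?_
  obtain ⟨n, rfl⟩ := Nat.exists_eq_succ_of_ne_zero hn.ne'
  apply flat_quotient
  · rw [map_maximalIdeal_pow_eq (h1 1)]
    exact h1 n
  · rw [map_maximalIdeal_pow_eq (h1 1)]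
    exact h2 n

end K413.FlatOfCompletion
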