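import Groth.Agent.AlgGrp.K413.GLGeo

/-!
# Diagonal `D(M)` in `GL_m`

`exists_diag`: weights `w : Fin m → M` generating the finite group `M` define a closed subgroup `D(M)` of `GL_m`,
described by the diagonal idempotents of `w`.
-/

set_option autoImplicit false
universe u
open CategoryTheory MonoidalCategory CartesianMonoidalCategory MonObj GrpObj AlgebraicGeometry Limits
open scoped TensorProduct

namespace K413.GLDiag

open Groth.Agent.Sga3B
open Groth.Agent.Books.AffBridge Groth.Agent.Books.DynBasic DSPts AffPts Spread144 BcSpec144 DSAff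
open K413.GLMod K413.IdemConj K413.GLFam K413.GLGeo

section

variable {R : Type u} [CommRing R] {m : ℕ} {G T : Over (Spec (CommRingCat.of R))} [GrpObj G] [GrpObj T]
  {Ψ : Model m G} {M : Type} [AddCommGroup M] [Fintype M] [DecidableEq M] {i : T ⟶ G}
  {sp : Grp.mk T ≅ Grp.mk (Red.DS (Spec (CommRingCat.of R)) M)}
  {E : Multiplicative M → Matrix (Fin m) (Fin m) R}

lemma isMonHom_of_isDesc (h : IsDesc Ψ i sp E) (hE : IsFam E) : IsMonHom i := by
  refine Pts.isMonHom_of_points i fun X x y => Ψ.mat_inj ?_
  rw [Ψ.mat_mul, h, h, h, chr_mul, comb_mul hE]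

omit [DecidableEq M] in
/-- A faithful representation has generating weights. -/
theorem closure_eq_top [Nontrivial R] [Mono i] (h : IsDesc Ψ i sp E) (s : Set (Multiplicative M))
    (hs : ∀ γ, E γ ≠ 0 → γ ∈ s) : Subgroup.closure s = ⊤ := by
  let H := Subgroup.closure s
  let C := MonoidAlgebra R (Multiplicative M ⧸ H)
  let X := SpecOver R C
  let σ : C →ₐ[R] Fn X := (fnSpec (R := R) C).symm.toAlgHom
  have hσ : Function.Injective σ := (fnSpec (R := R) C).symm.injective
  let χ : Multiplicative M →* Fn X :=
    (σ : C →* Fn X).comp ((MonoidAlgebra.of R (Multiplicative M ⧸ H)).comp (QuotientGroup.mk' H))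
  have h1 : comb χ E = comb (1 : Multiplicative M →* Fn X) E := by
    rw [comb, comb]
    refine Finset.sum_congr rfl fun γ _ => ?_
    by_cases h0 : E γ = 0
    · rw [h0]
      ext a b
      simp
    · have h2 : (QuotientGroup.mk' H) γ = 1 :=
        (QuotientGroup.eq_one_iff γ).2 (Subgroup.subset_closure (hs γ h0))
      have h3 : χ γ = 1 := by
        change σ (MonoidAlgebra.of R _ (QuotientGroup.mk' H γ)) = 1
        rw [h2, map_one, map_one]
      rw [h3]
      rfl
  have h2 : ptC sp X χ ≫ i = ptC sp X 1 ≫ i := Ψ.mat_inj (by rw [h, h, chr_ptC, chr_ptC, h1])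
  have h3 : χ = 1 := by
    rw [← chr_ptC sp X χ, (cancel_mono i).1 h2, chr_ptC]
  rw [eq_top_iff]
  intro γ _
  have h4 : σ (MonoidAlgebra.of R _ (QuotientGroup.mk' H γ)) = 1 := DFunLike.congr_fun h3 γ
  have h5 : MonoidAlgebra.of R _ (QuotientGroup.mk' H γ) = MonoidAlgebra.of R _ 1 := by
    rw [map_one]
    exact hσ (h4.trans (map_one σ).symm)
  exact (QuotientGroup.eq_one_iff γ).1 (MonoidAlgebra.of_injective h5)

end

section

variable {k : Type u} [CommRing k] {m : ℕ} {M : Type} [AddCommGroup M] [Fintype M] [DecidableEq M]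

/-- **Diagonal subgroups.** -/
theorem exists_diag (w : Fin m → Multiplicative M) (hw : Subgroup.closure (Set.range w) = ⊤) :
    ∃ i : Red.DS (Spec (CommRingCat.of k)) M ⟶ SpecOver k (CoordGrp.GLn m k),
      IsMonHom i ∧ IsClosedImmersion i.left ∧
        IsDesc (ofGLn k m) i (Iso.refl (Grp.mk (Red.DS (Spec (CommRingCat.of k)) M))) (diagI k w) := by
  let C := MonoidAlgebra k (Multiplicative M)
  let U : Matrix (Fin m) (Fin m) C := Matrix.diagonal fun a => MonoidAlgebra.of k _ (w a)
  let V : Matrix (Fin m) (Fin m) C := Matrix.diagonal fun a => MonoidAlgebra.of k _ (w a)⁻¹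
  have hUV : U * V = 1 := by
    rw [Matrix.diagonal_mul_diagonal, ← Matrix.diagonal_one]
    congr 1
    funext a
    rw [← map_mul, mul_inv_cancel, map_one]
  obtain ⟨q, hq⟩ := exists_matC (k := k) U V hUV
  have hq' : matC q = comb (MonoidAlgebra.of k (Multiplicative M)) (diagI k w) := by
    rw [hq]
    refine Matrix.ext fun a b => ?_
    rw [comb_apply]
    by_cases hab : a = b
    · subst hab
      rw [show U a a = MonoidAlgebra.of k _ (w a) from Matrix.diagonal_apply_eq _ _, Finset.sum_eq_single (w a)]
      · simp [diagI]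
      · intro γ _ hγ
        have h1 : w a ≠ γ := fun h => hγ h.symm
        simp [diagI, h1]
      · intro hn
        exact absurd (Finset.mem_univ _) hn
    · rw [show U a b = 0 from Matrix.diagonal_apply_ne _ hab]
      refine (Finset.sum_eq_zero fun γ _ => ?_).symm
      simp [diagI, hab]
  let i : Red.DS (Spec (CommRingCat.of k)) M ⟶ SpecOver k (CoordGrp.GLn m k) := dsTo k M ≫ specMap k q
  have hi : IsDesc (ofGLn k m) i (Iso.refl (Grp.mk (Red.DS (Spec (CommRingCat.of k)) M))) (diagI k w) := by
    intro X t
    have h1 : t ≫ i = affPt X ((chAlg (fnChar t)).comp q) := by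
      rw [← affPt_specMap, ← comp_dsTo, Category.assoc]
    have h2 : chr (Iso.refl (Grp.mk (Red.DS (Spec (CommRingCat.of k)) M))) t = fnChar t :=
      congrArg fnChar (Category.comp_id t)
    rw [h1, ofGLn_affPt, matC_comp, hq', comb_map, h2]
    congr 1
    refine MonoidHom.ext fun γ => ?_
    exact MonoidAlgebra.lift_of _ _
  refine ⟨i, isMonHom_of_isDesc hi (isFam_diagI k w), ?_, hi⟩
  have hsurj : Function.Surjective q := by
    let P : Subgroup (Multiplicative M) :=
      { carrier := {γ | MonoidAlgebra.of k (Multiplicative M) γ ∈ q.range}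
        mul_mem' := fun {a b} ha hb => by
          change MonoidAlgebra.of k (Multiplicative M) (a * b) ∈ q.range
          rw [map_mul]
          exact mul_mem ha hb
        one_mem' := by
          change MonoidAlgebra.of k (Multiplicative M) 1 ∈ q.range
          rw [map_one]
          exact one_mem _
        inv_mem' := fun {a} ha => by
          change MonoidAlgebra.of k (Multiplicative M) a⁻¹ ∈ q.range
          have h1 : a⁻¹ = a ^ (Fintype.card (Multiplicative M) - 1) := by
            rw [eq_comm]
            apply eq_inv_of_mul_eq_one_left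
            rw [← pow_succ, Nat.sub_add_cancel Fintype.card_pos, pow_card_eq_one]
          rw [h1, map_pow]
          exact pow_mem ha _ }
    have hP : P = ⊤ := by
      rw [eq_top_iff, ← hw, Subgroup.closure_le]
      rintro _ ⟨a, rfl⟩
      refine ⟨CoordGrp.GLn.X a a, ?_⟩
      exact (congrFun (congrFun hq a) a).trans (Matrix.diagonal_apply_eq _ _)
    intro x
    change x ∈ q.range
    induction x using MonoidAlgebra.induction_linear with
    | zero => exact zero_mem _
    | add x y hx hy => exact add_mem hx hy
    | single γ r =>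
      have h1 : γ ∈ P := by rw [hP]; trivial
      have h2 : (MonoidAlgebra.single γ r : MonoidAlgebra k (Multiplicative M)) =
          r • MonoidAlgebra.of k (Multiplicative M) γ := by
        rw [MonoidAlgebra.of_apply, MonoidAlgebra.smul_single, smul_eq_mul, _root_.mul_one]
      rw [h2]
      exact Subalgebra.smul_mem _ h1 r
  have h1 : IsClosedImmersion (specMap k q).left :=
    IsClosedImmersion.spec_of_surjective _ hsurj
  have h2 : IsIso (dsTo k M).left := inferInstanceAs (IsIso ((Over.forget _).map (dsTo k M)))
  exact inferInstanceAs (IsClosedImmersion ((dsTo k M).left ≫ (specMap k q).left))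

end

end K413.GLDiag
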