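import Mathlib.LinearAlgebra.Matrix.Rank
import Mathlib.LinearAlgebra.Matrix.ToLin
import Mathlib.LinearAlgebra.FreeModule.Finite.Matrix
import Mathlib.Tactic

/-!
# Conjugacy of complete families of orthogonal idempotent matrices

* `exists_conj_of_rank`: two complete orthogonal families of idempotent matrices over a field with the same ranks
  are conjugate.
* `sum_rank`: the ranks of a complete orthogonal family sum to the size.
* `rank_map`: the rank of a matrix does not change under an extension of fields.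
* `exists_conj_descent`: families over `k` that are conjugate over `K` are conjugate over `k`.
* `exists_conj_diag`: a complete orthogonal family is conjugate to a diagonal one.
-/

set_option autoImplicit false

namespace K413.IdemConj

open Matrix

variable {k : Type*} [Field k] {ι : Type*} [Fintype ι] [DecidableEq ι] {Γ : Type*} [Fintype Γ] [DecidableEq Γ]

/-- Idempotent matrices of the same rank are (Murray--von Neumann) equivalent. -/
lemma exists_equiv_of_rank (E F : Matrix ι ι k) (hE : E * E = E) (hF : F * F = F) (h : E.rank = F.rank) :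
    ∃ A B : Matrix ι ι k, A * B = F ∧ B * A = E ∧ A * E = A ∧ F * A = A ∧ B * F = B ∧ E * B = B := by
  let e : LinearMap.range E.mulVecLin ≃ₗ[k] LinearMap.range F.mulVecLin :=
    LinearEquiv.ofFinrankEq _ _ h
  let a : (ι → k) →ₗ[k] (ι → k) :=
    (LinearMap.range F.mulVecLin).subtype ∘ₗ e.toLinearMap ∘ₗ E.mulVecLin.rangeRestrict
  let b : (ι → k) →ₗ[k] (ι → k) :=
    (LinearMap.range E.mulVecLin).subtype ∘ₗ e.symm.toLinearMap ∘ₗ F.mulVecLin.rangeRestrict
  have hE' : ∀ v, E.mulVecLin (E.mulVecLin v) = E.mulVecLin v := fun v => by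
    rw [mulVecLin_apply, mulVecLin_apply, mulVec_mulVec, hE]
  have hF' : ∀ v, F.mulVecLin (F.mulVecLin v) = F.mulVecLin v := fun v => by
    rw [mulVecLin_apply, mulVecLin_apply, mulVec_mulVec, hF]
  have hEr : ∀ x : LinearMap.range E.mulVecLin, E.mulVecLin.rangeRestrict x.1 = x := by
    rintro ⟨_, v, rfl⟩
    exact Subtype.ext (hE' v)
  have hFr : ∀ x : LinearMap.range F.mulVecLin, F.mulVecLin.rangeRestrict x.1 = x := by
    rintro ⟨_, v, rfl⟩
    exact Subtype.ext (hF' v)
  have key : ∀ (x : (ι → k) →ₗ[k] (ι → k)) (M : Matrix ι ι k), x = M.mulVecLin → LinearMap.toMatrix' x = M := by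
    rintro _ M rfl
    exact LinearMap.toMatrix'_toLin' M
  have h0 : ∀ M : Matrix ι ι k, LinearMap.toMatrix' M.mulVecLin = M := fun M => key _ M rfl
  refine ⟨LinearMap.toMatrix' a, LinearMap.toMatrix' b, ?_, ?_, ?_, ?_, ?_, ?_⟩
  · rw [← LinearMap.toMatrix'_comp]
    refine key _ _ (LinearMap.ext fun v => ?_)
    change (e (E.mulVecLin.rangeRestrict (e.symm (F.mulVecLin.rangeRestrict v)).1)).1 = _
    rw [hEr, LinearEquiv.apply_symm_apply]
    rfl
  · rw [← LinearMap.toMatrix'_comp]
    refine key _ _ (LinearMap.ext fun v => ?_)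
    change (e.symm (F.mulVecLin.rangeRestrict (e (E.mulVecLin.rangeRestrict v)).1)).1 = _
    rw [hFr, LinearEquiv.symm_apply_apply]
    rfl
  · conv_lhs => rw [← h0 E, ← LinearMap.toMatrix'_comp]
    congr 1
    refine LinearMap.ext fun v => ?_
    change (e (E.mulVecLin.rangeRestrict (E.mulVecLin v))).1 = (e (E.mulVecLin.rangeRestrict v)).1
    have : E.mulVecLin.rangeRestrict (E.mulVecLin v) = E.mulVecLin.rangeRestrict v := hEr ⟨_, v, rfl⟩
    rw [this]
  · conv_lhs => rw [← h0 F, ← LinearMap.toMatrix'_comp]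
    congr 1
    refine LinearMap.ext fun v => ?_
    exact congrArg Subtype.val (hFr (e (E.mulVecLin.rangeRestrict v)))
  · conv_lhs => rw [← h0 F, ← LinearMap.toMatrix'_comp]
    congr 1
    refine LinearMap.ext fun v => ?_
    change (e.symm (F.mulVecLin.rangeRestrict (F.mulVecLin v))).1 = (e.symm (F.mulVecLin.rangeRestrict v)).1
    have : F.mulVecLin.rangeRestrict (F.mulVecLin v) = F.mulVecLin.rangeRestrict v := hFr ⟨_, v, rfl⟩
    rw [this]
  · conv_lhs => rw [← h0 E, ← LinearMap.toMatrix'_comp]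
    congr 1
    refine LinearMap.ext fun v => ?_
    exact congrArg Subtype.val (hEr (e.symm (F.mulVecLin.rangeRestrict v)))

/-- a complete family of orthogonal idempotent matrices -/
structure IsFam {R : Type*} [CommRing R] (E : Γ → Matrix ι ι R) : Prop where
  mul : ∀ γ δ, E γ * E δ = if γ = δ then E γ else 0
  sum : ∑ γ, E γ = 1

lemma IsFam.mul_self {R : Type*} [CommRing R] {E : Γ → Matrix ι ι R} (h : IsFam E) (γ : Γ) :
    E γ * E γ = E γ := by rw [h.mul, if_pos rfl]

lemma IsFam.mul_ne {R : Type*} [CommRing R] {E : Γ → Matrix ι ι R} (h : IsFam E) {γ δ : Γ} (hn : γ ≠ δ) :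
    E γ * E δ = 0 := by rw [h.mul, if_neg hn]

lemma IsFam.map {R S : Type*} [CommRing R] [CommRing S] {E : Γ → Matrix ι ι R} (h : IsFam E) (f : R →+* S) :
    IsFam fun γ => (E γ).map f where
  mul γ δ := by
    rw [← Matrix.map_mul, h.mul]
    split_ifs
    · rfl
    · ext i j
      exact map_zero f
  sum := by
    have h1 := congrArg f.mapMatrix h.sum
    rw [map_sum, map_one] at h1
    exact h1

/-- Families with the same ranks are conjugate. -/
theorem exists_conj_of_rank {E F : Γ → Matrix ι ι k} (hE : IsFam E) (hF : IsFam F)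
    (h : ∀ γ, (E γ).rank = (F γ).rank) :
    ∃ U V : Matrix ι ι k, U * V = 1 ∧ V * U = 1 ∧ ∀ γ, U * E γ = F γ * U := by
  choose A B hAB hBA hAE hFA hBF hEB using fun γ =>
    exists_equiv_of_rank (E γ) (F γ) (hE.mul_self γ) (hF.mul_self γ) (h γ)
  have h1 : ∀ γ δ, γ ≠ δ → A γ * B δ = 0 := fun γ δ hn => by
    rw [← hAE γ, ← hEB δ, Matrix.mul_assoc, ← Matrix.mul_assoc (E γ), hE.mul_ne hn, Matrix.zero_mul,
      Matrix.mul_zero]
  have h2 : ∀ γ δ, γ ≠ δ → B γ * A δ = 0 := fun γ δ hn => by
    rw [← hBF γ, ← hFA δ, Matrix.mul_assoc, ← Matrix.mul_assoc (F γ), hF.mul_ne hn, Matrix.zero_mul,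
      Matrix.mul_zero]
  refine ⟨∑ γ, A γ, ∑ γ, B γ, ?_, ?_, fun γ => ?_⟩
  · rw [Finset.sum_mul, ← hF.sum]
    refine Finset.sum_congr rfl fun γ _ => ?_
    rw [Finset.mul_sum, Finset.sum_eq_single γ, hAB]
    · intro δ _ hn
      exact h1 _ _ (Ne.symm hn)
    · intro hn
      exact absurd (Finset.mem_univ _) hn
  · rw [Finset.sum_mul, ← hE.sum]
    refine Finset.sum_congr rfl fun γ _ => ?_
    rw [Finset.mul_sum, Finset.sum_eq_single γ, hBA]
    · intro δ _ hn
      exact h2 _ _ (Ne.symm hn)
    · intro hn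
      exact absurd (Finset.mem_univ _) hn
  · rw [Finset.sum_mul, Finset.mul_sum, Finset.sum_eq_single γ, Finset.sum_eq_single γ, hAE, hFA]
    · intro δ _ hn
      rw [← hFA δ, ← Matrix.mul_assoc, hF.mul_ne (Ne.symm hn), Matrix.zero_mul]
    · intro hn
      exact absurd (Finset.mem_univ _) hn
    · intro δ _ hn
      rw [← hAE δ, Matrix.mul_assoc, hE.mul_ne hn, Matrix.mul_zero]
    · intro hn
      exact absurd (Finset.mem_univ _) hn

/-- The ranks of a family sum to the size. -/
theorem sum_rank {E : Γ → Matrix ι ι k} (hE : IsFam E) : ∑ γ, (E γ).rank = Fintype.card ι := by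
  let f : (ι → k) →ₗ[k] (∀ γ, LinearMap.range (E γ).mulVecLin) :=
    LinearMap.pi fun γ => (E γ).mulVecLin.rangeRestrict
  let g : (∀ γ, LinearMap.range (E γ).mulVecLin) →ₗ[k] (ι → k) :=
    ∑ γ, (LinearMap.range (E γ).mulVecLin).subtype ∘ₗ LinearMap.proj γ
  have hg : ∀ x, g x = ∑ γ, (x γ).1 := by
    intro x
    simp [g]
  have hgf : ∀ v, g (f v) = v := by
    intro v
    rw [hg]
    change ∑ γ, (E γ).mulVec v = v
    rw [← Matrix.sum_mulVec, hE.sum, Matrix.one_mulVec]
  have hfg : ∀ x, f (g x) = x := by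
    intro x
    funext γ
    apply Subtype.ext
    change (E γ).mulVec (g x) = _
    rw [hg, Matrix.mulVec_sum, Finset.sum_eq_single γ]
    · obtain ⟨v, hv⟩ := (x γ).2
      rw [← hv, mulVecLin_apply, mulVec_mulVec, hE.mul_self]
    · intro δ _ hn
      obtain ⟨v, hv⟩ := (x δ).2
      rw [← hv, mulVecLin_apply, mulVec_mulVec, hE.mul_ne (Ne.symm hn), zero_mulVec]
    · intro hn
      exact absurd (Finset.mem_univ _) hn
  let e : (ι → k) ≃ₗ[k] (∀ γ, LinearMap.range (E γ).mulVecLin) :=
    LinearEquiv.ofLinearMap f g (LinearMap.ext hfg) (LinearMap.ext hgf)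
  have h1 := e.finrank_eq
  rw [Module.finrank_fintype_fun_eq_card, Module.finrank_pi_fintype] at h1
  exact h1.symm

/-- the diagonal idempotent of a set of indices -/
def diagI (R : Type*) [CommRing R] (w : ι → Γ) (γ : Γ) : Matrix ι ι R :=
  Matrix.diagonal fun i => if w i = γ then 1 else 0

omit [Fintype ι] [Fintype Γ] in
lemma diagI_map {R S : Type*} [CommRing R] [CommRing S] (f : R →+* S) (w : ι → Γ) (γ : Γ) :
    (diagI R w γ).map f = diagI S w γ := by
  rw [diagI, Matrix.diagonal_map (map_zero f), diagI]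
  congr 1
  funext i
  change f (if w i = γ then 1 else 0) = _
  split_ifs
  · exact map_one f
  · exact map_zero f

lemma isFam_diagI (R : Type*) [CommRing R] (w : ι → Γ) : IsFam (diagI R w) where
  mul γ δ := by
    rw [diagI, diagI, Matrix.diagonal_mul_diagonal]
    split_ifs with h
    · subst h
      congr 1
      funext i
      split_ifs <;> simp
    · rw [← Matrix.diagonal_zero]
      congr 1
      funext i
      by_cases h1 : w i = γ
      · have h2 : w i ≠ δ := fun h2 => h (h1.symm.trans h2)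
        rw [if_neg h2, mul_zero]
      · rw [if_neg h1, zero_mul]
  sum := by
    ext i j
    rw [Matrix.sum_apply]
    simp only [diagI, Matrix.diagonal_apply, Matrix.one_apply]
    split_ifs with h
    · simp
    · simp

omit [Fintype Γ] in
lemma rank_diagI (K : Type*) [Field K] (w : ι → Γ) (γ : Γ) :
    (diagI K w γ).rank = Fintype.card {i // w i = γ} := by
  classical
  rw [diagI, Matrix.rank_diagonal]
  refine Fintype.card_congr (Equiv.subtypeEquivRight fun i => ?_)
  by_cases h : w i = γ <;> simp [h]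

/-- The rank of an idempotent matrix does not change under an extension of fields. -/
theorem rank_map_of_idem {K : Type*} [Field K] (f : k →+* K) (E : Matrix ι ι k) (hE : E * E = E) :
    (E.map f).rank = E.rank := by
  classical
  obtain ⟨s, -, hs⟩ := Finset.exists_subset_card_eq (s := (Finset.univ : Finset ι)) (n := E.rank)
    (by rw [Finset.card_univ]; exact E.rank_le_card_width)
  let w : ι → Bool := fun i => decide (i ∈ s)
  have hc : Fintype.card {i // w i = true} = E.rank := by
    rw [← hs, ← Fintype.card_coe]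
    exact Fintype.card_congr (Equiv.subtypeEquivRight fun i => by simp [w])
  have h1 : (diagI k w true).rank = E.rank := by rw [rank_diagI, hc]
  obtain ⟨A, B, hAB, hBA, -, -, -, -⟩ := exists_equiv_of_rank E (diagI k w true) hE
    ((isFam_diagI k w).mul_self true) h1.symm
  have hAB' : A.map f * B.map f = diagI K w true := by
    rw [← Matrix.map_mul, hAB, diagI_map]
  have hBA' : B.map f * A.map f = E.map f := by
    rw [← Matrix.map_mul, hBA]
  have hD : (diagI K w true).rank = E.rank := by rw [rank_diagI, hc]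
  apply le_antisymm
  · have h2 : E.map f = B.map f * (diagI K w true * A.map f) := by
      rw [← hAB', Matrix.mul_assoc, hBA', ← Matrix.mul_assoc, hBA', ← Matrix.map_mul, hE]
    rw [h2, ← hD]
    exact (Matrix.rank_mul_le_right _ _).trans (Matrix.rank_mul_le_left _ _)
  · have h2 : diagI K w true = A.map f * (E.map f * B.map f) := by
      rw [← hBA', Matrix.mul_assoc, hAB', ← Matrix.mul_assoc, hAB', (isFam_diagI K w).mul_self]
    rw [← hD, h2]
    exact (Matrix.rank_mul_le_right _ _).trans (Matrix.rank_mul_le_left _ _)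

/-- Conjugate idempotents have the same rank. -/
lemma rank_eq_of_conj {E F U V : Matrix ι ι k} (hUV : U * V = 1) (hVU : V * U = 1) (h : U * E = F * U) :
    E.rank = F.rank := by
  apply le_antisymm
  · have h1 : E = V * (F * U) := by rw [← h, ← Matrix.mul_assoc, hVU, Matrix.one_mul]
    conv_lhs => rw [h1]
    exact (Matrix.rank_mul_le_right _ _).trans (Matrix.rank_mul_le_left _ _)
  · have h1 : F = U * (E * V) := by rw [← Matrix.mul_assoc, h, Matrix.mul_assoc, hUV, Matrix.mul_one]
    conv_lhs => rw [h1]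
    exact (Matrix.rank_mul_le_right _ _).trans (Matrix.rank_mul_le_left _ _)

/-- **Descent.** Families over `k` which are conjugate over an extension are conjugate over `k`. -/
theorem exists_conj_descent {K : Type*} [Field K] (f : k →+* K) {E F : Γ → Matrix ι ι k} (hE : IsFam E)
    (hF : IsFam F) {U V : Matrix ι ι K} (hUV : U * V = 1) (hVU : V * U = 1)
    (h : ∀ γ, U * (E γ).map f = (F γ).map f * U) :
    ∃ U V : Matrix ι ι k, U * V = 1 ∧ V * U = 1 ∧ ∀ γ, U * E γ = F γ * U := by
  refine exists_conj_of_rank hE hF fun γ => ?_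
  rw [← rank_map_of_idem f (E γ) (hE.mul_self γ), ← rank_map_of_idem f (F γ) (hF.mul_self γ)]
  exact rank_eq_of_conj hUV hVU (h γ)

/-- **Diagonalisation.** -/
theorem exists_conj_diag {E : Γ → Matrix ι ι k} (hE : IsFam E) :
    ∃ (w : ι → Γ) (U V : Matrix ι ι k), U * V = 1 ∧ V * U = 1 ∧ (∀ γ, U * E γ = diagI k w γ * U) ∧
      ∀ γ, (E γ).rank = Fintype.card {i // w i = γ} := by
  have h1 : Fintype.card ι = Fintype.card (Σ γ, Fin (E γ).rank) := by
    rw [Fintype.card_sigma, ← sum_rank hE]
    simp
  let e : ι ≃ (Σ γ, Fin (E γ).rank) := Fintype.equivOfCardEq h1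
  let w : ι → Γ := fun i => (e i).1
  have h2 : ∀ γ, (E γ).rank = Fintype.card {i // w i = γ} := by
    intro γ
    have h3 : Fintype.card {i // w i = γ} = Fintype.card {x : Σ γ, Fin (E γ).rank // x.1 = γ} :=
      Fintype.card_congr (e.subtypeEquiv fun i => Iff.rfl)
    rw [h3, Fintype.card_congr (Equiv.sigmaSubtype γ), Fintype.card_fin]
  obtain ⟨U, V, hUV, hVU, h⟩ := exists_conj_of_rank hE (isFam_diagI k w) fun γ => by rw [rank_diagI, h2]
  exact ⟨w, U, V, hUV, hVU, h, h2⟩

end K413.IdemConj
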