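import Groth.Agent.AlgGrp.K413.GLMod
import Groth.Agent.AlgGrp.K413.IdemConj

/-!
# Diagonalisable subgroups of `GL_m` and families of idempotents

`exists_fam`: a homomorphism from `D(M)`, `M` finite, to a group with matrix points is given by a complete orthogonal
family of idempotent matrices over the base.
-/

set_option autoImplicit false
universe u
open CategoryTheory MonoidalCategory CartesianMonoidalCategory MonObj GrpObj AlgebraicGeometry Limits
open scoped TensorProduct

namespace K413.GLFam

open Groth.Agent.Sga3B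
open Groth.Agent.Books.AffBridge Groth.Agent.Books.DynBasic DSPts AffPts Spread144 BcSpec144 DSAff
open K413.GLMod K413.IdemConj

section Comb

variable {R : Type*} [CommRing R] {C : Type*} [CommRing C] [Algebra R C] {D : Type*} [CommRing D] [Algebra R D]
  {Γ : Type*} [CommGroup Γ] [Fintype Γ] [DecidableEq Γ] {N : Type*} [Fintype N] [DecidableEq N]

/-- the matrix `∑ χ(γ) E_γ` -/
noncomputable def comb (χ : Γ →* C) (E : Γ → Matrix N N R) : Matrix N N C :=
  ∑ γ, χ γ • (E γ).map (algebraMap R C)

omit [DecidableEq Γ] [Fintype N] [DecidableEq N] in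
lemma comb_apply (χ : Γ →* C) (E : Γ → Matrix N N R) (i j : N) :
    comb χ E i j = ∑ γ, χ γ * algebraMap R C (E γ i j) := by
  rw [comb, Matrix.sum_apply]
  rfl

omit [DecidableEq Γ] [Fintype N] [DecidableEq N] in
lemma comb_map (χ : Γ →* C) (E : Γ → Matrix N N R) (f : C →ₐ[R] D) :
    (comb χ E).map f = comb ((f : C →* D).comp χ) E := by
  ext i j
  rw [Matrix.map_apply, comb_apply, comb_apply, map_sum]
  refine Finset.sum_congr rfl fun γ _ => ?_
  rw [map_mul, AlgHom.commutes]
  rfl

omit [Fintype N] [DecidableEq Γ] in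
lemma comb_one {E : Γ → Matrix N N R} (h : ∑ γ, E γ = 1) : comb (1 : Γ →* C) E = 1 := by
  have h1 : comb (1 : Γ →* C) E = (∑ γ, E γ).map (algebraMap R C) := by
    ext i j
    rw [comb_apply, Matrix.map_apply, Matrix.sum_apply, map_sum]
    simp
  rw [h1, h]
  ext i j
  rw [Matrix.map_apply, Matrix.one_apply, Matrix.one_apply]
  split_ifs <;> simp

lemma comb_mul {E : Γ → Matrix N N R} (h : IsFam E) (χ ψ : Γ →* C) :
    comb χ E * comb ψ E = comb (χ * ψ) E := by
  rw [comb, comb, comb, Finset.sum_mul]
  refine Finset.sum_congr rfl fun γ _ => ?_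
  rw [Finset.mul_sum, Finset.sum_eq_single γ]
  · rw [Matrix.smul_mul, Matrix.mul_smul, ← Matrix.map_mul, h.mul_self, smul_smul]
    rfl
  · intro δ _ hn
    rw [Matrix.smul_mul, Matrix.mul_smul, ← Matrix.map_mul, h.mul_ne (Ne.symm hn)]
    have : (0 : Matrix N N R).map (algebraMap R C) = 0 := by ext i j; exact map_zero (algebraMap R C)
    rw [this, smul_zero, smul_zero]
  · intro hn
    exact absurd (Finset.mem_univ _) hn

omit [DecidableEq Γ] [Fintype N] [DecidableEq N] in
/-- the coefficients of the universal combination -/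
lemma comb_of_coeff (E : Γ → Matrix N N R) (i j : N) (γ : Γ) :
    (comb (MonoidAlgebra.of R Γ) E i j).coeff γ = E γ i j := by
  classical
  rw [comb_apply, MonoidAlgebra.coeff_sum, Finsupp.finsetSum_apply, Finset.sum_eq_single γ]
  · rw [MonoidAlgebra.of_apply]
    simp
  · intro δ _ hn
    rw [MonoidAlgebra.of_apply]
    simp [hn]
  · intro hn
    exact absurd (Finset.mem_univ _) hn

omit [DecidableEq Γ] [Fintype N] [DecidableEq N] in
lemma comb_of_injective {E F : Γ → Matrix N N R} (h : comb (MonoidAlgebra.of R Γ) E = comb (MonoidAlgebra.of R Γ) F) :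
    E = F := by
  funext γ
  ext i j
  rw [← comb_of_coeff E, h, comb_of_coeff]

omit [DecidableEq Γ] [Fintype N] [DecidableEq N] in
/-- every matrix over the group algebra is a combination -/
lemma eq_comb (P : Matrix N N (MonoidAlgebra R Γ)) :
    P = comb (MonoidAlgebra.of R Γ) fun γ => P.map fun x => x.coeff γ := by
  ext i j : 2
  ext γ : 2
  rw [comb_of_coeff]
  rfl

/-- a family of matrices whose combinations multiply is orthogonal -/
lemma isFam_of_comb {E : Γ → Matrix N N R}
    (h1 : comb (1 : Γ →* R) E = 1)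
    (h2 : comb ((MonoidAlgebra.of R (Γ × Γ)).comp (MonoidHom.inl Γ Γ)) E *
      comb ((MonoidAlgebra.of R (Γ × Γ)).comp (MonoidHom.inr Γ Γ)) E =
      comb ((MonoidAlgebra.of R (Γ × Γ)).comp (MonoidHom.inl Γ Γ) *
        (MonoidAlgebra.of R (Γ × Γ)).comp (MonoidHom.inr Γ Γ)) E) : IsFam E where
  mul γ δ := by
    ext i j
    have h3 := congrFun (congrFun h2 i) j
    have h4 := congrArg (fun x => x.coeff (γ, δ)) h3
    simp only [Matrix.mul_apply, comb_apply, MonoidAlgebra.coeff_sum, Finsupp.finsetSum_apply] at h4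
    have e1 : ∀ l, ((∑ γ, ((MonoidAlgebra.of R (Γ × Γ)).comp (MonoidHom.inl Γ Γ)) γ *
        algebraMap R (MonoidAlgebra R (Γ × Γ)) (E γ i l)) *
        (∑ γ, ((MonoidAlgebra.of R (Γ × Γ)).comp (MonoidHom.inr Γ Γ)) γ *
        algebraMap R (MonoidAlgebra R (Γ × Γ)) (E γ l j))).coeff (γ, δ) = E γ i l * E δ l j := by
      intro l
      rw [Finset.sum_mul, MonoidAlgebra.coeff_sum, Finsupp.finsetSum_apply, Finset.sum_eq_single γ]
      · rw [Finset.mul_sum, MonoidAlgebra.coeff_sum, Finsupp.finsetSum_apply, Finset.sum_eq_single δ]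
        · simp [MonoidAlgebra.single_mul_single, MonoidAlgebra.of_apply]
        · intro b _ hb
          simp [MonoidAlgebra.single_mul_single, MonoidAlgebra.of_apply, hb]
        · intro hn
          exact absurd (Finset.mem_univ _) hn
      · intro b _ hb
        rw [Finset.mul_sum, MonoidAlgebra.coeff_sum, Finsupp.finsetSum_apply]
        refine Finset.sum_eq_zero fun c _ => ?_
        simp [MonoidAlgebra.single_mul_single, MonoidAlgebra.of_apply, hb]
      · intro hn
        exact absurd (Finset.mem_univ _) hn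
    rw [Finset.sum_congr rfl fun l _ => e1 l] at h4
    rw [Matrix.mul_apply, h4]
    by_cases hγ : γ = δ
    · subst hγ
      rw [if_pos rfl, Finset.sum_eq_single γ]
      · simp [MonoidAlgebra.single_mul_single, MonoidAlgebra.of_apply]
      · intro b _ hb
        simp [MonoidAlgebra.single_mul_single, MonoidAlgebra.of_apply, hb]
      · intro hn
        exact absurd (Finset.mem_univ _) hn
    · rw [if_neg hγ, Matrix.zero_apply]
      refine Finset.sum_eq_zero fun b _ => ?_
      have h5 : ¬ (b = γ ∧ b = δ) := fun ⟨h, h'⟩ => hγ (h.symm.trans h')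
      have h6 : (b, b) ≠ (γ, δ) := fun h => h5 (Prod.mk.inj h)
      simp [MonoidAlgebra.single_mul_single, MonoidAlgebra.of_apply]
      rw [Finsupp.single_eq_of_ne (Ne.symm h6)]
  sum := by
    rw [← h1]
    ext i j
    rw [comb_apply, Matrix.sum_apply]
    simp

end Comb

end K413.GLFam
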