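import Groth.Agent.AlgGrp.K413.GLFam
import Groth.Agent.Sga3B.Trans894
import Groth.Agent.Sga3B.Parab.DSHom
import Groth.Agent.Sga3B.DSRigid
import Groth.Prelude.Def_AGF

/-!
# Diagonalisable subgroups of `GL_m`: points and families of idempotents

* `exists_fam`: a homomorphism from `D(M)`, `M` finite, to a group with matrix points is given by a complete orthogonal
  family of idempotent matrices over the base (`IsDesc`).
* `exists_conj`: conjugate families give conjugate subgroups; `conj_fam` the converse over a field.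
-/

set_option autoImplicit false
universe u
open CategoryTheory MonoidalCategory CartesianMonoidalCategory MonObj GrpObj AlgebraicGeometry Limits
open scoped TensorProduct

namespace K413.GLGeo

open Groth.Agent.Sga3B
open Groth.Agent.Books.AffBridge Groth.Agent.Books.DynBasic DSPts AffPts Spread144 BcSpec144 DSAff
open K413.GLMod K413.IdemConj K413.GLFam

section Points

variable {R : Type u} [CommRing R] {T : Over (Spec (CommRingCat.of R))} [GrpObj T] {M : Type} [AddCommGroup M]
  (sp : Grp.mk T ≅ Grp.mk (Red.DS (Spec (CommRingCat.of R)) M))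

/-- the character of a point -/
noncomputable abbrev chr {X : Over (Spec (CommRingCat.of R))} (t : X ⟶ T) : Multiplicative M →* Fn X :=
  fnChar (t ≫ sp.hom.hom.hom)

/-- the point with a given character -/
noncomputable def ptC (X : Over (Spec (CommRingCat.of R))) (χ : Multiplicative M →* Fn X) : X ⟶ T :=
  (dsEquiv X M χ : X ⟶ Red.DS (Spec (CommRingCat.of R)) M) ≫ sp.inv.hom.hom

lemma sp_hom_inv : sp.hom.hom.hom ≫ sp.inv.hom.hom = 𝟙 _ := congrArg (fun f => f.hom.hom) sp.hom_inv_id

lemma sp_inv_hom : sp.inv.hom.hom ≫ sp.hom.hom.hom = 𝟙 _ := congrArg (fun f => f.hom.hom) sp.inv_hom_id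

lemma chr_ptC (X : Over (Spec (CommRingCat.of R))) (χ : Multiplicative M →* Fn X) : chr sp (ptC sp X χ) = χ := by
  rw [chr, ptC, Category.assoc, sp_inv_hom, Category.comp_id]
  exact dsChar_dsEquiv _

lemma ptC_chr {X : Over (Spec (CommRingCat.of R))} (t : X ⟶ T) : ptC sp X (chr sp t) = t := by
  have h1 : (dsEquiv X M (chr sp t) : X ⟶ Red.DS (Spec (CommRingCat.of R)) M) = t ≫ sp.hom.hom.hom :=
    dsEquiv_dsChar _
  rw [ptC, h1, Category.assoc, sp_hom_inv, Category.comp_id]

lemma chr_injective {X : Over (Spec (CommRingCat.of R))} {t t' : X ⟶ T} (h : chr sp t = chr sp t') : t = t' := by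
  rw [← ptC_chr sp t, h, ptC_chr]

lemma chr_mul {X : Over (Spec (CommRingCat.of R))} (t t' : X ⟶ T) : chr sp (t * t') = chr sp t * chr sp t' := by
  rw [chr, chr, chr, ← fnChar_mul]
  congr 1
  exact MonObj.mul_comp _ _ _

lemma chr_one (X : Over (Spec (CommRingCat.of R))) : chr sp (1 : X ⟶ T) = 1 := by
  have h := chr_mul sp (1 : X ⟶ T) 1
  rw [_root_.mul_one] at h
  refine MonoidHom.ext fun γ => ?_
  have h1 := DFunLike.congr_fun h γ
  rw [MonoidHom.mul_apply] at h1
  have h2 : IsUnit (chr sp (1 : X ⟶ T) γ) := (Group.isUnit γ).map _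
  have h3 := h2.mul_left_cancel (b := chr sp (1 : X ⟶ T) γ) (c := 1) (by rw [_root_.mul_one]; exact h1.symm)
  rw [h3]
  rfl

lemma chr_comp {X X' : Over (Spec (CommRingCat.of R))} (h : X' ⟶ X) (t : X ⟶ T) :
    chr sp (h ≫ t) = ((fnMap h : Fn X →ₐ[R] Fn X') : Fn X →* Fn X').comp (chr sp t) := by
  rw [chr, chr, fnMap_fnChar, Category.assoc]

/-- the universal point -/
noncomputable def univ : SpecOver R (MonoidAlgebra R (Multiplicative M)) ⟶ T := ptC sp _ (univChar R M)

lemma comp_univ {X : Over (Spec (CommRingCat.of R))} (t : X ⟶ T) : affPt X (chAlg (chr sp t)) ≫ univ sp = t := by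
  apply chr_injective sp
  rw [chr_comp, univ, chr_ptC]
  refine MonoidHom.ext fun γ => ?_
  have h1 := DFunLike.congr_fun (fnMap_affPt X (chAlg (R := R) (chr sp t))) (MonoidAlgebra.of R _ γ)
  rw [chAlg, MonoidAlgebra.lift_of] at h1
  exact h1

end Points

section Desc

variable {R : Type u} [CommRing R] {m : ℕ} {G T : Over (Spec (CommRingCat.of R))} [GrpObj G] [GrpObj T]
  (Ψ : Model m G) {M : Type} [AddCommGroup M] [Fintype M]

/-- `i : T ⟶ G` is described by the family `E`. -/
def IsDesc (i : T ⟶ G) (sp : Grp.mk T ≅ Grp.mk (Red.DS (Spec (CommRingCat.of R)) M))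
    (E : Multiplicative M → Matrix (Fin m) (Fin m) R) : Prop :=
  ∀ (X : Over (Spec (CommRingCat.of R))) (t : X ⟶ T), Ψ.mat (t ≫ i) = comb (chr sp t) E

variable (i : T ⟶ G) (sp : Grp.mk T ≅ Grp.mk (Red.DS (Spec (CommRingCat.of R)) M))

lemma matrix_map_map {A B C : Type*} {m : ℕ} (P : Matrix (Fin m) (Fin m) A) (f : A → B) (g : B → C) :
    (P.map f).map g = P.map (fun x => g (f x)) := rfl

theorem exists_desc : ∃ E, IsDesc Ψ i sp E := by
  let P : Matrix (Fin m) (Fin m) (MonoidAlgebra R (Multiplicative M)) :=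
    (Ψ.mat (univ sp ≫ i)).map (fnSpec (R := R) (MonoidAlgebra R (Multiplicative M)))
  refine ⟨fun γ => P.map fun x => x.coeff γ, fun X t => ?_⟩
  have h1 : Ψ.mat (t ≫ i) = P.map (chAlg (R := R) (chr sp t)) := by
    conv_lhs => rw [← comp_univ sp t]
    rw [Category.assoc, Ψ.mat_comp]
    ext a b
    simp only [Matrix.map_apply, P]
    have h2 := DFunLike.congr_fun (fnMap_affPt X (chAlg (R := R) (chr sp t)))
      (fnSpec (R := R) _ (Ψ.mat (univ sp ≫ i) a b))
    rw [← h2]
    exact (congrArg (fnMap _) ((fnSpec (R := R) (MonoidAlgebra R (Multiplicative M))).symm_apply_apply _)).symm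
  rw [h1]
  conv_lhs => rw [eq_comb P]
  rw [comb_map]
  congr 1
  refine MonoidHom.ext fun γ => ?_
  exact MonoidAlgebra.lift_of _ _

variable {Ψ i sp}

lemma IsDesc.isFam [DecidableEq M] [IsMonHom i] {E : Multiplicative M → Matrix (Fin m) (Fin m) R}
    (h : IsDesc Ψ i sp E) : IsFam E := by
  have key : ∀ (C : Type u) [CommRing C] [Algebra R C] (χ ψ : Multiplicative M →* C),
      comb χ E * comb ψ E = comb (χ * ψ) E := by
    intro C _ _ χ ψ
    let s : C →ₐ[R] Fn (SpecOver R C) := (fnSpec (R := R) C).symm.toAlgHom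
    have h1 := h _ (ptC sp _ ((s : C →* Fn (SpecOver R C)).comp χ) * ptC sp _ ((s : C →* Fn (SpecOver R C)).comp ψ))
    rw [MonObj.mul_comp, Ψ.mat_mul, h, h, chr_mul, chr_ptC, chr_ptC] at h1
    have h2 : ((s : C →* Fn (SpecOver R C)).comp χ) * ((s : C →* Fn (SpecOver R C)).comp ψ) = (s : C →* Fn (SpecOver R C)).comp (χ * ψ) := by
      refine MonoidHom.ext fun γ => ?_
      exact (map_mul s _ _).symm
    rw [h2, ← comb_map, ← comb_map, ← comb_map] at h1
    have h3 : (comb χ E).map s * (comb ψ E).map s = (comb χ E * comb ψ E).map s := by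
      ext a b
      simp only [Matrix.mul_apply, Matrix.map_apply, map_sum, map_mul]
    rw [h3] at h1
    ext a b
    exact (fnSpec (R := R) C).symm.injective (congrFun (congrFun h1 a) b)
  have key1 : comb (1 : Multiplicative M →* R) E = 1 := by
    let s : R →ₐ[R] Fn (SpecOver R R) := (fnSpec (R := R) R).symm.toAlgHom
    have h1 := h _ (1 : SpecOver R R ⟶ T)
    rw [MonObj.one_comp, Ψ.mat_one, chr_one] at h1
    have h2 : (1 : Multiplicative M →* Fn (SpecOver R R)) = (s : R →* Fn (SpecOver R R)).comp 1 := by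
      refine MonoidHom.ext fun γ => ?_
      exact (map_one s).symm
    rw [h2, ← comb_map] at h1
    ext a b
    apply (fnSpec (R := R) R).symm.injective
    refine (congrFun (congrFun h1 a) b).symm.trans ?_
    rw [Matrix.one_apply, Matrix.one_apply]
    split_ifs
    · exact (map_one _).symm
    · exact (map_zero _).symm
  exact isFam_of_comb key1 (key _ _ _)

/-- Conjugate families give conjugate subgroups. -/
theorem exists_conj {T' : Over (Spec (CommRingCat.of R))} [GrpObj T'] {j : T' ⟶ G}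
    {sq : Grp.mk T' ≅ Grp.mk (Red.DS (Spec (CommRingCat.of R)) M)}
    {E F : Multiplicative M → Matrix (Fin m) (Fin m) R} (hE : IsDesc Ψ i sp E) (hF : IsDesc Ψ j sq F)
    {U V : Matrix (Fin m) (Fin m) R} (hUV : U * V = 1) (h : ∀ γ, U * E γ = F γ * U) :
    ∃ (g : 𝟙_ (Over (Spec (CommRingCat.of R))) ⟶ G) (φ : T ≅ T'), AGF.conjBy g i = φ.hom ≫ j := by
  let X₀ := 𝟙_ (Over (Spec (CommRingCat.of R)))
  have hm : ∀ (X : Over (Spec (CommRingCat.of R))) (A B : Matrix (Fin m) (Fin m) R), A * B = 1 →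
      A.map (algebraMap R (Fn X)) * B.map (algebraMap R (Fn X)) = 1 := by
    intro X A B hAB
    rw [← Matrix.map_mul, hAB]
    ext a b
    rw [Matrix.map_apply, Matrix.one_apply, Matrix.one_apply]
    split_ifs <;> simp
  obtain ⟨g, hg⟩ := Ψ.exists_mat (X := X₀) (U.map (algebraMap R _)) (V.map (algebraMap R _)) (hm X₀ U V hUV)
  let F' : Grp.mk T ≅ Grp.mk T' := sp ≪≫ sq.symm
  let φ : T ≅ T' := RedIso.und F'
  refine ⟨g, φ, Ψ.mat_inj ?_⟩
  have hgT : Ψ.mat (toUnit T ≫ g) = U.map (algebraMap R _) := by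
    rw [Ψ.mat_comp, hg]
    ext a b
    exact (fnMap (toUnit T)).commutes _
  have hgT' : Ψ.mat (toUnit T ≫ g)⁻¹ = V.map (algebraMap R _) :=
    Ψ.mat_inv_eq _ (by rw [hgT]; exact hm T U V hUV)
  rw [AGF.conjBy, Ψ.mat_mul, Ψ.mat_mul, hgT, hgT', hF]
  have h1 := hE T (𝟙 T)
  rw [Category.id_comp] at h1
  have h2 : chr sq φ.hom = chr sp (𝟙 T) := by
    have h2 : (F' ≪≫ sq).hom = sp.hom := by simp [F']
    have h3 := congrArg (fun f => f.hom.hom) h2
    rw [chr, chr, Category.id_comp]
    exact congrArg fnChar h3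
  rw [h1, h2]
  have h3 : U.map (algebraMap R (Fn T)) * comb (chr sp (𝟙 T)) E =
      comb (chr sp (𝟙 T)) F * U.map (algebraMap R (Fn T)) := by
    rw [comb, comb, Finset.mul_sum, Finset.sum_mul]
    refine Finset.sum_congr rfl fun γ _ => ?_
    rw [Matrix.mul_smul, Matrix.smul_mul, ← Matrix.map_mul, ← Matrix.map_mul, h]
  rw [h3, Matrix.mul_assoc, hm T U V hUV, Matrix.mul_one]

end Desc

section Bc

variable {R : Type u} [CommRing R] {K : Type u} [CommRing K] [Algebra R K] {m : ℕ}
  {G T : Over (Spec (CommRingCat.of R))} [GrpObj G] [GrpObj T]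
  (Ψ : Model m G) {M : Type} [AddCommGroup M] [Fintype M]

omit [GrpObj T] [AddCommGroup M] in
lemma comb_idK [CommGroup M] (X : Over (Spec (CommRingCat.of K))) (χ : M →* Fn ((Over.map (fK R K)).obj X)) (χ' : M →* Fn X)
    (h : ((idK (R := R) X : Fn X →ₐ[K] _) : Fn X →* Fn ((Over.map (fK R K)).obj X)).comp χ' = χ)
    (E : M → Matrix (Fin m) (Fin m) R) :
    comb χ E = (comb χ' fun γ => (E γ).map (algebraMap R K)).map (idK (R := R) X) := by
  subst h
  refine Matrix.ext fun a b => ?_
  rw [Matrix.map_apply, comb_apply, comb_apply, map_sum]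
  refine Finset.sum_congr rfl fun γ _ => ?_
  rw [map_mul, AlgHom.commutes, IsScalarTower.algebraMap_apply R K]
  rfl

/-- the matrix of a point of the base change, from the matrix of the point it comes from -/
lemma bc_mat_eq (Ψ : Model m G) {X : Over (Spec (CommRingCat.of K))} (x : X ⟶ Red.bc (fK R K) G)
    (P : Matrix (Fin m) (Fin m) (Fn X))
    (h : Ψ.mat ((DSPts.bcEquiv (fK R K) X G).symm x) = P.map (idK (R := R) X)) : (Ψ.bc K).mat x = P := h

theorem IsDesc.bc {i : T ⟶ G} {sp : Grp.mk T ≅ Grp.mk (Red.DS (Spec (CommRingCat.of R)) M)}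
    {E : Multiplicative M → Matrix (Fin m) (Fin m) R} (h : IsDesc Ψ i sp E) :
    IsDesc (G := Red.bc (fK R K) G) (T := Red.bc (fK R K) T) (Ψ.bc K) ((Over.pullback (fK R K)).map i)
      (BcTor144.spK (fK R K) sp) (fun γ => (E γ).map (algebraMap R K)) := by
  intro X t
  have h1 : ((idK (R := R) X : Fn X →ₐ[K] _) : Fn X →* Fn ((Over.map (fK R K)).obj X)).comp
      (chr (BcTor144.spK (fK R K) sp) t) = chr sp ((DSPts.bcEquiv (fK R K) X T).symm t) := by
    refine MonoidHom.ext fun γ => ?_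
    exact DFunLike.congr_fun (BcTor144.dsChar_spK (fK R K) sp t) γ
  have h2 := comb_idK X _ _ h1 E
  have h3 := h _ ((DSPts.bcEquiv (fK R K) X T).symm t)
  rw [h2, ← DsBc.symm_comp] at h3
  exact bc_mat_eq Ψ _ _ h3

end Bc

section Field

variable {K : Type u} [Field K] {m : ℕ}

/-- Isomorphisms of diagonalisable groups over a field come from isomorphisms of the character groups. -/
lemma exists_addEquiv {M N : Type} [AddCommGroup M] [AddCommGroup N]
    (φ : Red.DS (Spec (CommRingCat.of K)) M ⟶ Red.DS (Spec (CommRingCat.of K)) N) [IsMonHom φ] [IsIso φ] :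
    ∃ h : N ≃+ M, φ = Red.DSmap _ h.toAddMonoidHom := by
  have h1 : IsMonHom (asIso φ).hom := ‹_›
  have h2 : IsMonHom (asIso φ).inv := inferInstance
  obtain ⟨y, hy⟩ := Parab.DSHom.exists_DSmap φ
  obtain ⟨z, hz⟩ := Parab.DSHom.exists_DSmap (asIso φ).inv
  have h3 : ∀ (M : Type) [AddCommGroup M] (θ : M →+ M), Red.DSmap (Spec (CommRingCat.of K)) θ = 𝟙 _ →
      ∀ m, θ m = m := by
    intro M _ θ hθ m
    have h4 := congr(InfConj.univPt K M ≫ $hθ)
    rw [Category.comp_id] at h4
    have h5 := congr(dsChar $h4)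
    rw [dsChar_DSmap] at h5
    have h6 : (dsChar (InfConj.univPt K M) :
      Multiplicative M →* Γ((InfConj.pt K (MonoidAlgebra K (Multiplicative M))).left, ⊤)) =
      (InfConj.gPt K (MonoidAlgebra K (Multiplicative M))).toMonoidHom.comp (MonoidAlgebra.of K (Multiplicative M)) :=
      (dsChar_dsEquiv _)
    rw [h6] at h5
    have h7 := congr($h5 (Multiplicative.ofAdd m))
    have h8 : MonoidAlgebra.of K (Multiplicative M) (Multiplicative.ofAdd (θ m)) =
        MonoidAlgebra.of K (Multiplicative M) (Multiplicative.ofAdd m) :=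
      DSRigid.gPt_injective (R := K) (MonoidAlgebra K (Multiplicative M)) h7
    exact Multiplicative.ofAdd.injective (MonoidAlgebra.of_injective h8)
  have h4 : ∀ m, z (y m) = m := by
    refine h3 N (z.comp y) ?_
    rw [← Trans894.DSmap_comp, ← hy, ← hz]
    exact (asIso φ).inv_hom_id
  have h5 : ∀ m, y (z m) = m := by
    refine h3 M (y.comp z) ?_
    rw [← Trans894.DSmap_comp, ← hy, ← hz]
    exact (asIso φ).hom_inv_id
  exact ⟨{ y with invFun := z, left_inv := h4, right_inv := h5 }, hy⟩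

variable {G T T' : Over (Spec (CommRingCat.of K))} [GrpObj G] [GrpObj T] [GrpObj T']
  (Ψ : Model m G) {M : Type} [AddCommGroup M] [Fintype M] [DecidableEq M]

omit [Fintype M] [DecidableEq M] in
/-- the effect on characters of an isomorphism -/
lemma exists_chr (sp : Grp.mk T ≅ Grp.mk (Red.DS (Spec (CommRingCat.of K)) M))
    (sq : Grp.mk T' ≅ Grp.mk (Red.DS (Spec (CommRingCat.of K)) M)) (φ : T ≅ T') (hφ : IsMonHom φ.hom) :
    ∃ α : M ≃+ M, ∀ (X : Over (Spec (CommRingCat.of K))) (t : X ⟶ T) (γ : M),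
      chr sq (t ≫ φ.hom) (Multiplicative.ofAdd γ) = chr sp t (Multiplicative.ofAdd (α γ)) := by
  let F : Grp.mk T ≅ Grp.mk T' := Grp.mkIso' φ
  let ψ := sp.symm ≪≫ F ≪≫ sq
  have h1 : IsMonHom (RedIso.und ψ).hom := inferInstanceAs (IsMonHom ψ.hom.hom.hom)
  obtain ⟨α, hα⟩ := exists_addEquiv (RedIso.und ψ).hom
  refine ⟨α, fun X t γ => ?_⟩
  have h2 : φ.hom ≫ sq.hom.hom.hom = sp.hom.hom.hom ≫ Red.DSmap (Spec (CommRingCat.of K)) α.toAddMonoidHom := by
    rw [← hα]
    have h3 : sp.hom ≫ ψ.hom = F.hom ≫ sq.hom := by simp [ψ]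
    exact (congrArg (fun f => f.hom.hom) h3).symm
  rw [chr, Category.assoc, h2, ← Category.assoc]
  exact DFunLike.congr_fun (dsChar_DSmap α.toAddMonoidHom (t ≫ sp.hom.hom.hom)) (Multiplicative.ofAdd γ)

lemma algebraMap_unit_bijective :
    Function.Bijective (algebraMap K (Fn (𝟙_ (Over (Spec (CommRingCat.of K)))))) := by
  have h1 : (𝟙_ (Over (Spec (CommRingCat.of K)))).hom.appTop = 𝟙 _ := by
    exact Scheme.Hom.id_appTop
  have h2 : algebraMap K (Fn (𝟙_ (Over (Spec (CommRingCat.of K))))) =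
      (Scheme.ΓSpecIso (CommRingCat.of K)).inv.hom := by
    have h3 := algebraMap_fn (𝟙_ (Over (Spec (CommRingCat.of K))))
    have h4 : (Scheme.ΓSpecIso (CommRingCat.of K)).inv ≫ (𝟙_ (Over (Spec (CommRingCat.of K)))).hom.appTop =
        (Scheme.ΓSpecIso (CommRingCat.of K)).inv := by
      refine Eq.trans ?_ (Category.comp_id _)
      exact congrArg _ h1
    exact congrArg CommRingCat.Hom.hom (h3.trans h4)
  rw [h2]
  exact (Scheme.ΓSpecIso (CommRingCat.of K)).symm.commRingCatIsoToRingEquiv.bijective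

variable {Ψ} {i : T ⟶ G} {sp : Grp.mk T ≅ Grp.mk (Red.DS (Spec (CommRingCat.of K)) M)} {j : T' ⟶ G}
  {sq : Grp.mk T' ≅ Grp.mk (Red.DS (Spec (CommRingCat.of K)) M)}
  {E F : Multiplicative M → Matrix (Fin m) (Fin m) K}

omit [DecidableEq M] in
/-- Conjugate subgroups have conjugate families, up to an automorphism of the group of characters. -/
theorem conj_fam [IsMonHom i] [IsMonHom j] [Mono j] (hE : IsDesc Ψ i sp E) (hF : IsDesc Ψ j sq F)
    (g : 𝟙_ (Over (Spec (CommRingCat.of K))) ⟶ G) (φ : T ≅ T') (h : AGF.conjBy g i = φ.hom ≫ j) :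
    ∃ (α : M ≃+ M) (U V : Matrix (Fin m) (Fin m) K), U * V = 1 ∧ V * U = 1 ∧
      ∀ γ : M, U * E (Multiplicative.ofAdd (α γ)) = F (Multiplicative.ofAdd γ) * U := by
  have hφ : IsMonHom φ.hom := by
    refine Pts.isMonHom_of_points φ.hom fun X x y => ?_
    rw [← cancel_mono j, MonObj.mul_comp (x ≫ φ.hom) (y ≫ φ.hom) j]
    simp only [Category.assoc, ← h]
    have h1 : ∀ t : X ⟶ T, t ≫ AGF.conjBy g i = (toUnit X ≫ g) * (t ≫ i) * (toUnit X ≫ g)⁻¹ := by
      intro t
      rw [AGF.conjBy, MonObj.comp_mul, MonObj.comp_mul, GrpObj.comp_inv, ← Category.assoc,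
        toUnit_unique (t ≫ toUnit T) (toUnit X)]
    rw [h1, h1, h1, MonObj.mul_comp]
    group
  obtain ⟨α, hα⟩ := exists_chr sp sq φ hφ
  obtain ⟨U, hU⟩ : ∃ U : Matrix (Fin m) (Fin m) K, U.map (algebraMap K _) = Ψ.mat g := by
    choose U hU using fun a b => algebraMap_unit_bijective.2 (Ψ.mat g a b)
    exact ⟨Matrix.of U, Matrix.ext hU⟩
  obtain ⟨V, hV⟩ : ∃ V : Matrix (Fin m) (Fin m) K, V.map (algebraMap K _) = Ψ.mat g⁻¹ := by
    choose V hV using fun a b => algebraMap_unit_bijective.2 (Ψ.mat g⁻¹ a b)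
    exact ⟨Matrix.of V, Matrix.ext hV⟩
  have hinj : ∀ A B : Matrix (Fin m) (Fin m) K, A.map (algebraMap K (Fn (𝟙_ (Over (Spec (CommRingCat.of K)))))) =
      B.map (algebraMap K _) → A = B := fun A B hAB =>
    Matrix.ext fun a b => algebraMap_unit_bijective.1 (congrFun (congrFun hAB a) b)
  have hone : (1 : Matrix (Fin m) (Fin m) K).map (algebraMap K (Fn (𝟙_ (Over (Spec (CommRingCat.of K)))))) = 1 := by
    ext a b
    rw [Matrix.map_apply, Matrix.one_apply, Matrix.one_apply]
    split_ifs <;> simp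
  refine ⟨α, U, V, ?_, ?_, ?_⟩
  · apply hinj
    rw [Matrix.map_mul, hU, hV, Ψ.mat_mul_inv, hone]
  · apply hinj
    rw [Matrix.map_mul, hU, hV, Ψ.mat_inv_mul, hone]
  · -- evaluate on the universal point
    let C := MonoidAlgebra K (Multiplicative M)
    let X := SpecOver K C
    let s : C →ₐ[K] Fn X := (fnSpec (R := K) C).symm.toAlgHom
    have hs : Function.Injective s := (fnSpec (R := K) C).symm.injective
    have h1 : Ψ.mat (univ sp ≫ AGF.conjBy g i) = Ψ.mat (univ sp ≫ φ.hom ≫ j) := by rw [h]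
    have hg : Ψ.mat (toUnit X ≫ g) = U.map (algebraMap K (Fn X)) := by
      rw [Ψ.mat_comp, ← hU]
      ext a b
      exact (fnMap (toUnit X)).commutes _
    have h2 : univ sp ≫ AGF.conjBy g i = (toUnit X ≫ g) * (univ sp ≫ i) * (toUnit X ≫ g)⁻¹ := by
      rw [AGF.conjBy, MonObj.comp_mul, MonObj.comp_mul, GrpObj.comp_inv, ← Category.assoc,
        toUnit_unique (univ sp ≫ toUnit T) (toUnit X)]
    rw [h2, ← Category.assoc, Ψ.mat_mul, Ψ.mat_mul, hE, hF, hg] at h1
    have h3 := congrArg (· * Ψ.mat (toUnit X ≫ g)) h1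
    simp only [Matrix.mul_assoc, Ψ.mat_inv_mul, Matrix.mul_one] at h3
    rw [hg] at h3
    -- the characters
    have h4 : chr sp (univ sp) = (s : C →* Fn X).comp (MonoidAlgebra.of K (Multiplicative M)) := chr_ptC _ _ _
    have h5 : comb (chr sq (univ sp ≫ φ.hom)) F =
        comb (chr sp (univ sp)) (fun γ => F (Multiplicative.ofAdd (α.symm γ.toAdd))) := by
      rw [comb, comb]
      let β : Multiplicative M ≃ Multiplicative M := AddEquiv.toMultiplicative α
      refine Fintype.sum_equiv β _ _ fun γ => ?_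
      have h6 := hα X (univ sp) γ.toAdd
      rw [ofAdd_toAdd] at h6
      rw [h6]
      have h7 : (β γ).toAdd = α γ.toAdd := rfl
      rw [h7, AddEquiv.symm_apply_apply, ofAdd_toAdd]
      rfl
    rw [h5, h4, ← comb_map, ← comb_map] at h3
    have h6 : U.map (algebraMap K (Fn X)) = (U.map (algebraMap K C)).map s := by
      ext a b
      exact (s.commutes _).symm
    rw [h6] at h3
    have h7 : ∀ A B : Matrix (Fin m) (Fin m) C, A.map s * B.map s = (A * B).map s := by
      intro A B
      ext a b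
      simp only [Matrix.mul_apply, Matrix.map_apply, map_sum, map_mul]
    rw [h7, h7] at h3
    have h8 : U.map (algebraMap K C) * comb (MonoidAlgebra.of K (Multiplicative M)) E =
        comb (MonoidAlgebra.of K (Multiplicative M)) (fun γ => F (Multiplicative.ofAdd (α.symm γ.toAdd))) *
          U.map (algebraMap K C) := Matrix.ext fun a b => hs (congrFun (congrFun h3 a) b)
    have h9 : ∀ (E : Multiplicative M → Matrix (Fin m) (Fin m) K),
        U.map (algebraMap K C) * comb (MonoidAlgebra.of K (Multiplicative M)) E =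
          comb (MonoidAlgebra.of K (Multiplicative M)) fun γ => U * E γ := by
      intro E
      rw [comb, comb, Finset.mul_sum]
      refine Finset.sum_congr rfl fun γ _ => ?_
      rw [Matrix.mul_smul, ← Matrix.map_mul]
    have h10 : ∀ (E : Multiplicative M → Matrix (Fin m) (Fin m) K),
        comb (MonoidAlgebra.of K (Multiplicative M)) E * U.map (algebraMap K C) =
          comb (MonoidAlgebra.of K (Multiplicative M)) fun γ => E γ * U := by
      intro E
      rw [comb, comb, Finset.sum_mul]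
      refine Finset.sum_congr rfl fun γ _ => ?_
      rw [Matrix.smul_mul, ← Matrix.map_mul]
    rw [h9, h10] at h8
    have h11 := comb_of_injective h8
    intro γ
    have h12 := congrFun h11 (Multiplicative.ofAdd (α γ))
    simp only [toAdd_ofAdd, AddEquiv.symm_apply_apply] at h12
    exact h12

omit [DecidableEq M] in
/-- change of the splitting by an automorphism of the characters -/
lemma IsDesc.twist {K : Type u} [CommRing K] {G T' : Over (Spec (CommRingCat.of K))} [GrpObj G] [GrpObj T']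
    {Ψ : Model m G} {j : T' ⟶ G} {sq : Grp.mk T' ≅ Grp.mk (Red.DS (Spec (CommRingCat.of K)) M)}
    {F : Multiplicative M → Matrix (Fin m) (Fin m) K} (hF : IsDesc Ψ j sq F) (α : M ≃+ M) :
    IsDesc Ψ j (sq ≪≫ Trans894.DSiso (Spec (CommRingCat.of K)) α)
      (fun γ => F (Multiplicative.ofAdd (α γ.toAdd))) := by
  intro X t
  rw [hF, comb, comb]
  let β : Multiplicative M ≃ Multiplicative M := AddEquiv.toMultiplicative α
  refine (Fintype.sum_equiv β _ _ fun γ => ?_).symm
  have h1 : t ≫ (sq ≪≫ Trans894.DSiso (Spec (CommRingCat.of K)) α).hom.hom.hom =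
      (t ≫ sq.hom.hom.hom) ≫ Red.DSmap (Spec (CommRingCat.of K)) α.toAddMonoidHom := (Category.assoc _ _ _).symm
  have h2 : chr (sq ≪≫ Trans894.DSiso (Spec (CommRingCat.of K)) α) t γ = chr sq t (β γ) := by
    rw [chr, h1]
    exact DFunLike.congr_fun (dsChar_DSmap α.toAddMonoidHom (t ≫ sq.hom.hom.hom)) γ
  rw [h2]
  rfl

end Field

end K413.GLGeo
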