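import Groth.Agent.Sga3B.BcTor144
import Groth.Prelude.Def_GLin4
import Groth.Prelude.Def_CoactBr
import Mathlib.LinearAlgebra.Matrix.NonsingularInverse

/-!
# Group schemes with matrix points

`Model m G`: the points of `G` with values in an `R`-scheme `X` are the invertible `m × m` matrices over `Fn X`,
naturally in `X`. Instances: `Spec (GLn m k)` (`ofGLn`), base changes (`bc`).
-/

set_option autoImplicit false
universe u
open CategoryTheory MonoidalCategory CartesianMonoidalCategory MonObj GrpObj AlgebraicGeometry Limits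
open scoped TensorProduct

namespace K413.GLMod

open Groth.Agent.Sga3B
open Groth.Agent.Books.AffBridge Groth.Agent.Books.DynBasic DSPts AffPts Spread144 BcSpec144 DSAff
open CoordGrp

variable {R : Type u} [CommRing R]

/-- The points of `G` are the invertible matrices. -/
structure Model (m : ℕ) (G : Over (Spec (CommRingCat.of R))) [GrpObj G] where
  /-- the matrix of a point -/
  mat : ∀ {X : Over (Spec (CommRingCat.of R))}, (X ⟶ G) → Matrix (Fin m) (Fin m) (Fn X)
  mat_mul : ∀ {X : Over (Spec (CommRingCat.of R))} (x y : X ⟶ G), mat (x * y) = mat x * mat y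
  mat_inj : ∀ {X : Over (Spec (CommRingCat.of R))} {x y : X ⟶ G}, mat x = mat y → x = y
  mat_comp : ∀ {X X' : Over (Spec (CommRingCat.of R))} (h : X' ⟶ X) (x : X ⟶ G),
    mat (h ≫ x) = (mat x).map (fnMap h)
  exists_mat : ∀ {X : Over (Spec (CommRingCat.of R))} (U V : Matrix (Fin m) (Fin m) (Fn X)),
    U * V = 1 → ∃ x, mat x = U

namespace Model

variable {m : ℕ} {G : Over (Spec (CommRingCat.of R))} [GrpObj G] (Ψ : Model m G)

lemma mat_one (X : Over (Spec (CommRingCat.of R))) : Ψ.mat (1 : X ⟶ G) = 1 := by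
  obtain ⟨x, hx⟩ := Ψ.exists_mat (X := X) 1 1 (one_mul 1)
  have h1 : x * x = x := Ψ.mat_inj (by rw [Ψ.mat_mul, hx, _root_.one_mul])
  have h2 : x = 1 := mul_eq_left.1 h1
  rw [← h2, hx]

lemma mat_mul_inv {X : Over (Spec (CommRingCat.of R))} (x : X ⟶ G) : Ψ.mat x * Ψ.mat x⁻¹ = 1 := by
  rw [← Ψ.mat_mul, mul_inv_cancel, mat_one]

lemma mat_inv_mul {X : Over (Spec (CommRingCat.of R))} (x : X ⟶ G) : Ψ.mat x⁻¹ * Ψ.mat x = 1 := by
  rw [← Ψ.mat_mul, inv_mul_cancel, mat_one]

lemma mat_inv_eq {X : Over (Spec (CommRingCat.of R))} (x : X ⟶ G) {V : Matrix (Fin m) (Fin m) (Fn X)}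
    (h : Ψ.mat x * V = 1) : Ψ.mat x⁻¹ = V := by
  have h1 := congrArg (Ψ.mat x⁻¹ * ·) h
  simp only [← Matrix.mul_assoc, mat_inv_mul, Matrix.one_mul, Matrix.mul_one] at h1
  exact h1.symm

end Model

section GLn

variable {k : Type u} [CommRing k] {m : ℕ} {C : Type u} [CommRing C] [Algebra k C]

/-- the matrix of a ring-valued point -/
noncomputable def matC (g : GLn m k →ₐ[k] C) : Matrix (Fin m) (Fin m) C := Matrix.of fun i j => g (GLn.X i j)

lemma matC_mul (g h : WithConv (GLn m k →ₐ[k] C)) : matC (g * h).ofConv = matC g.ofConv * matC h.ofConv := by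
  ext i j
  rw [Matrix.mul_apply]
  change (g * h) (GLn.X i j) = _
  rw [AlgHom.convMul_apply, GLn.comul_X, map_sum]
  simp [matC]

lemma matC_det (g : GLn m k →ₐ[k] C) : g GLn.det = (matC g).det := by
  rw [GLn.det_eq, AlgHom.map_det]
  rfl

lemma matC_inj {g h : GLn m k →ₐ[k] C} (e : matC g = matC h) : g = h := by
  refine GLn.algHom_ext (fun i j => congrFun (congrFun e i) j) ?_
  have h5 : IsUnit (g GLn.det) := (IsUnit.of_mul_eq_one _ (GLn.det_mul_Dinv (n := m) (k := k))).map g
  apply h5.mul_left_cancel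
  have h4 : g GLn.det = h GLn.det := by rw [matC_det, matC_det, e]
  rw [← map_mul, GLn.det_mul_Dinv, map_one, h4, ← map_mul, GLn.det_mul_Dinv, map_one]

lemma matC_comp {D : Type u} [CommRing D] [Algebra k D] (f : C →ₐ[k] D) (g : GLn m k →ₐ[k] C) :
    matC (f.comp g) = (matC g).map f := rfl

lemma exists_matC (U V : Matrix (Fin m) (Fin m) C) (h : U * V = 1) : ∃ g : GLn m k →ₐ[k] C, matC g = U := by
  have h1 : U.det * V.det = 1 := by rw [← Matrix.det_mul, h, Matrix.det_one]
  refine ⟨GLn.pt m k U V.det h1, ?_⟩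
  ext i j
  exact GLn.pt_X U _ h1 i j

variable (k m) in
/-- **The points of `Spec (GLn m k)`.** -/
noncomputable def ofGLn : Model m (SpecOver k (GLn m k)) where
  mat {X} x := matC ((affEquiv X).symm x).ofConv
  mat_mul {X} x y := by rw [map_mul, matC_mul]
  mat_inj {X} x y h := (affEquiv X).symm.injective (WithConv.ofConv_injective (matC_inj h))
  mat_comp {X X'} h x := by
    obtain ⟨g, rfl⟩ := (affEquiv X).surjective x
    rw [affEquiv_apply, comp_affPt]
    have h1 : affPt X' ((fnMap h).comp g.ofConv) = affEquiv X' (WithConv.toConv ((fnMap h).comp g.ofConv)) := rfl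
    have h2 : affPt X g.ofConv = affEquiv X g := rfl
    rw [h1, h2, MulEquiv.symm_apply_apply, MulEquiv.symm_apply_apply]
    rfl
  exists_mat {X} U V h := by
    obtain ⟨g, hg⟩ := exists_matC (k := k) U V h
    exact ⟨affEquiv X (WithConv.toConv g), by rw [MulEquiv.symm_apply_apply]; exact hg⟩

lemma ofGLn_affPt {X : Over (Spec (CommRingCat.of k))} (g : GLn m k →ₐ[k] Fn X) :
    (ofGLn k m).mat (affPt X g) = matC g := by
  change matC ((affEquiv X).symm (affEquiv X (WithConv.toConv g))).ofConv = _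
  rw [MulEquiv.symm_apply_apply]

end GLn

section Bc

variable {K : Type u} [CommRing K] [Algebra R K] {m : ℕ} {G : Over (Spec (CommRingCat.of R))} [GrpObj G]

/-- **Base change.** -/
noncomputable def Model.bc (Ψ : Model m G) (K : Type u) [CommRing K] [Algebra R K] :
    Model m (Red.bc (fK R K) G) where
  mat {X} x := (Ψ.mat ((DSPts.bcEquiv (fK R K) X G).symm x) : Matrix (Fin m) (Fin m) (Fn X))
  mat_mul {X} x y := by
    rw [map_mul]
    exact Ψ.mat_mul _ _
  mat_inj {X} x y h := (DSPts.bcEquiv (fK R K) X G).symm.injective (Ψ.mat_inj h)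
  mat_comp {X X'} h x := by
    rw [← bcEquiv_symm_naturality]
    exact Ψ.mat_comp _ _
  exists_mat {X} U V h := by
    obtain ⟨x, hx⟩ := Ψ.exists_mat (X := (Over.map (fK R K)).obj X) U V h
    exact ⟨DSPts.bcEquiv (fK R K) X G x, by rw [MulEquiv.symm_apply_apply]; exact hx⟩

lemma Model.bc_mat (Ψ : Model m G) {X : Over (Spec (CommRingCat.of K))} (x : X ⟶ Red.bc (fK R K) G) :
    (Ψ.bc K).mat x = Ψ.mat ((DSPts.bcEquiv (fK R K) X G).symm x) := rfl

end Bc

end K413.GLMod
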