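import Groth.Agent.Books.AffBridge
import Mathlib.AlgebraicGeometry.Morphisms.QuasiFinite
import Mathlib.AlgebraicGeometry.ResidueField
import Mathlib.FieldTheory.IsAlgClosed.AlgebraicClosure

/-!
# Points with values in algebraically closed extensions

* `exists_geomPt`: every point of a scheme over `k` comes from an algebraically closed extension of `k`.
* `surjective_of_geomPts`.
* `isFinite_of_subsingleton`: a one point scheme of finite type over a field is finite.
-/

set_option autoImplicit false
universe u
open CategoryTheory MonoidalCategory CartesianMonoidalCategory MonObj GrpObj AlgebraicGeometry Limits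

namespace K413.GeomPt

open Groth.Agent.Books.AffBridge

variable {k : Type u} [Field k]

theorem exists_geomPt (Y : Over (Spec (CommRingCat.of k))) (y : Y.left) :
    ∃ (Ω : Type u) (_ : Field Ω) (_ : IsAlgClosed Ω) (_ : Algebra k Ω) (z : SpecOver k Ω ⟶ Y),
      y ∈ Set.range z.left := by
  let κ := Y.left.residueField y
  let Ω := AlgebraicClosure κ
  let p : Spec (CommRingCat.of Ω) ⟶ Y.left :=
    Spec.map (CommRingCat.ofHom (algebraMap κ Ω)) ≫ Y.left.fromSpecResidueField y
  let φ : k →+* Ω := (Spec.preimage (p ≫ Y.hom)).hom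
  let := φ.toAlgebra
  have hφ : Spec.map (CommRingCat.ofHom (algebraMap k Ω)) = p ≫ Y.hom := Spec.map_preimage _
  refine ⟨Ω, inferInstance, inferInstance, inferInstance, Over.homMk p hφ.symm, ?_⟩
  obtain ⟨x⟩ : Nonempty (Spec (CommRingCat.of Ω)) := inferInstance
  refine ⟨x, ?_⟩
  change p x = y
  rw [Scheme.Hom.comp_apply]
  exact Scheme.fromSpecResidueField_apply _ _

theorem surjective_of_geomPts {X Y : Over (Spec (CommRingCat.of k))} (f : X ⟶ Y)
    (h : ∀ (Ω : Type u) [Field Ω] [IsAlgClosed Ω] [Algebra k Ω] (y : SpecOver k Ω ⟶ Y),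
      ∃ x : SpecOver k Ω ⟶ X, x ≫ f = y) : Surjective f.left := by
  constructor
  intro y
  obtain ⟨Ω, _, _, _, z, t, rfl⟩ := exists_geomPt Y y
  obtain ⟨x, rfl⟩ := h Ω z
  exact ⟨x.left t, (Scheme.Hom.comp_apply _ _ _).symm⟩

theorem isFinite_of_subsingleton {P : Scheme.{u}} (f : P ⟶ Spec (CommRingCat.of k)) [LocallyOfFiniteType f]
    [QuasiCompact f] [Subsingleton P] : IsFinite f := by
  have h1 : LocallyQuasiFinite f := by
    rw [locallyQuasiFinite_iff_isDiscrete_preimage_singleton]
    intro x
    exact (Set.subsingleton_of_subsingleton).isDiscrete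
  exact IsFinite.of_locallyQuasiFinite f

end K413.GeomPt
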