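import Groth.Agent.AlgGrp.K413.Saturate
import Mathlib.AlgebraicGeometry.Morphisms.Flat
import Mathlib.AlgebraicGeometry.Morphisms.UniversallyOpen
import Mathlib.CategoryTheory.MorphismProperty.Descent

/-!
# The largest open subset of the target over which an equivariant morphism has a local property
-/

set_option autoImplicit false

universe u

open CategoryTheory MonoidalCategory CartesianMonoidalCategory MonObj GrpObj AlgebraicGeometry Limits

namespace K413.LargestOpen

/-- Properties local at the target over a union of opens. -/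
theorem morphismRestrict_iSup {P : MorphismProperty Scheme.{u}} [IsZariskiLocalAtTarget P]
    {X Y : Scheme.{u}} (y : Y ⟶ X) {I : Type*} (W : I → X.Opens) (h : ∀ i, P (y ∣_ W i)) :
    P (y ∣_ (⨆ i, W i)) := by
  refine IsZariskiLocalAtTarget.of_iSup_eq_top (fun i => (⨆ i, W i).ι ⁻¹ᵁ (W i)) ?_ fun i => ?_
  · rw [eq_top_iff]
    rintro ⟨x, hx⟩ _
    obtain ⟨i, hi⟩ := TopologicalSpace.Opens.mem_iSup.1 hx
    exact TopologicalSpace.Opens.mem_iSup.2 ⟨i, hi⟩
  · have e1 := morphismRestrictRestrict y (⨆ i, W i) ((⨆ i, W i).ι ⁻¹ᵁ (W i))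
    have e2 : (⨆ i, W i).ι ''ᵁ ((⨆ i, W i).ι ⁻¹ᵁ (W i)) = W i := by
      rw [Scheme.Hom.image_preimage_eq_opensRange_inf, Scheme.Opens.opensRange_ι]
      exact inf_eq_right.2 (le_iSup W i)
    refine (P.arrow_mk_iso_iff (e1 ≪≫ morphismRestrictEq y e2)).2 (h i)

/-- The largest open subset over which `f` has the property `P`. -/
noncomputable def largest (P : MorphismProperty Scheme.{u}) {X Y : Scheme.{u}} (f : X ⟶ Y) : Y.Opens :=
  ⨆ V : {V : Y.Opens // P (f ∣_ V)}, V.1

theorem prop_largest (P : MorphismProperty Scheme.{u}) [IsZariskiLocalAtTarget P]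
    {X Y : Scheme.{u}} (f : X ⟶ Y) : P (f ∣_ largest P f) :=
  morphismRestrict_iSup f _ fun V => V.2

theorem le_largest {P : MorphismProperty Scheme.{u}} {X Y : Scheme.{u}} {f : X ⟶ Y} {V : Y.Opens}
    (h : P (f ∣_ V)) : V ≤ largest P f :=
  le_iSup (fun V : {V : Y.Opens // P (f ∣_ V)} => V.1) ⟨V, h⟩

variable {S : Scheme.{u}} {G X Y : Over S} [GrpObj G] (aX : AlgGrp.Action G X)
  (aY : AlgGrp.Action G Y) {f : X ⟶ Y}

open Groth.Agent.Sga3C.SchemImage

/-- The equivariance square of an equivariant morphism is cartesian. -/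
theorem isPullback_act (hf : (G ◁ f) ≫ aY.act = aX.act ≫ f) :
    IsPullback (G ◁ f) aX.act aY.act f := by
  have h1 := isPullback_whiskerLeft f G
  have h2 : IsPullback (ActBasic.flipHom aX) (G ◁ f) (G ◁ f) (ActBasic.flipHom aY) := by
    have w : ActBasic.flipHom aX ≫ (G ◁ f) = (G ◁ f) ≫ ActBasic.flipHom aY := by
      ext1
      · simp [ActBasic.flipHom, comp_inv]
      · simp only [Category.assoc, whiskerLeft_snd, ActBasic.flipHom_snd,
          ActBasic.flipHom_snd_assoc, hf]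
    have i1 : IsIso (ActBasic.flipHom aX) := (ActBasic.flipIso aX).isIso_hom
    have i2 : IsIso (ActBasic.flipHom aY) := (ActBasic.flipIso aY).isIso_hom
    exact IsPullback.of_horiz_isIso ⟨w⟩
  have h3 := h2.paste_horiz h1.flip
  rw [ActBasic.flipHom_snd, ActBasic.flipHom_snd] at h3
  exact h3.flip

theorem isPullback_act_left (hf : (G ◁ f) ≫ aY.act = aX.act ≫ f) :
    IsPullback (G ◁ f).left aX.act.left aY.act.left f.left :=
  (isPullback_act aX aY hf).map (Over.forget S)

/-- The restriction of a base change to an open mapping into `V` is a base change of the restriction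
to `V`. -/
theorem exists_isPullback_restrict {X Y X' Y' : Scheme.{u}} {f : X ⟶ Y} {f' : X' ⟶ Y'} {gX : X' ⟶ X}
    {gY : Y' ⟶ Y} (h : IsPullback f' gX gY f) {V : Y.Opens} {W : Y'.Opens} (q : W.toScheme ⟶ V)
    (hq : q ≫ V.ι = W.ι ≫ gY) :
    ∃ r : (f' ⁻¹ᵁ W).toScheme ⟶ (f ⁻¹ᵁ V), IsPullback (f' ∣_ W) r q (f ∣_ V) := by
  have h1 : IsPullback (f' ∣_ W) ((f' ⁻¹ᵁ W).ι ≫ gX) (W.ι ≫ gY) f :=
    (isPullback_morphismRestrict f' W).paste_vert h
  have h2 := isPullback_morphismRestrict f V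
  refine ⟨h2.lift (f' ∣_ W ≫ q) ((f' ⁻¹ᵁ W).ι ≫ gX) (by rw [Category.assoc, hq, h1.w]), ?_⟩
  refine IsPullback.of_bot (v₂₁ := (f ⁻¹ᵁ V).ι) (v₂₂ := V.ι) (h₃₁ := f) ?_ ?_ h2
  · rw [h2.lift_snd, hq]
    exact h1
  · rw [h2.lift_fst]

/-- The stability of the largest open. -/
theorem sat_largest_le (P : MorphismProperty Scheme.{u}) [IsZariskiLocalAtTarget P]
    [P.IsStableUnderBaseChange] [P.DescendsAlong (@Flat ⊓ @Surjective ⊓ @UniversallyOpen)]
    (hf : (G ◁ f) ≫ aY.act = aX.act ≫ f) (hG1 : Flat G.hom) (hG2 : UniversallyOpen G.hom) :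
    Saturate.sat aY (largest P f.left : Set Y.left) ⊆ (largest P f.left : Set Y.left) := by
  set V := largest P f.left with hV
  let V' : Y.left.Opens := ⟨Saturate.sat aY V, Saturate.isOpen_sat aY hG2 V.2⟩
  change V' ≤ V
  apply le_largest
  let W : (G ⊗ Y).left.Opens := (snd G Y).left ⁻¹ᵁ V
  let q : W.toScheme ⟶ V := (snd G Y).left ∣_ V
  have hq : q ≫ V.ι = W.ι ≫ (snd G Y).left := morphismRestrict_ι _ _
  have hq' : ∀ x : W, (W.ι ≫ aY.act.left) x ∈ V' := fun x => ⟨W.ι x, x.2, rfl⟩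
  let q' : W.toScheme ⟶ V' := IsOpenImmersion.lift V'.ι (W.ι ≫ aY.act.left) (by
    rintro _ ⟨x, rfl⟩
    rw [Scheme.Opens.range_ι]
    exact hq' x)
  have hq'ι : q' ≫ V'.ι = W.ι ≫ aY.act.left := IsOpenImmersion.lift_fac _ _ _
  have hp : IsPullback q' (𝟙 W.toScheme) V'.ι (W.ι ≫ aY.act.left) :=
    IsOpenImmersion.isPullback_lift_id _ _ _
  have hfl : Flat aY.act.left := ActBasic.act_left_of aY (P := @Flat) hG1
  have huo : UniversallyOpen aY.act.left := ActBasic.act_left_of aY (P := @UniversallyOpen) hG2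
  have h1 : Flat q' := MorphismProperty.of_isPullback (P := @Flat) hp.flip inferInstance
  have h2 : UniversallyOpen q' :=
    MorphismProperty.of_isPullback (P := @UniversallyOpen) hp.flip inferInstance
  have h3 : Surjective q' := by
    constructor
    rintro ⟨y, p, hp1, hp2⟩
    refine ⟨⟨p, hp1⟩, ?_⟩
    apply V'.ι.isOpenEmbedding.injective
    rw [← Scheme.Hom.comp_apply, hq'ι]
    exact hp2
  obtain ⟨r, hr⟩ := exists_isPullback_restrict (isPullback_whiskerLeft_left f G) q hq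
  obtain ⟨r', hr'⟩ := exists_isPullback_restrict (isPullback_act_left aX aY hf) q' hq'ι
  have h4 : P ((G ◁ f).left ∣_ W) := P.of_isPullback hr.flip (prop_largest P f.left)
  exact MorphismProperty.of_isPullback_of_descendsAlong
    (Q := @Flat ⊓ @Surjective ⊓ @UniversallyOpen) hr'.flip.flip ⟨⟨h1, h3⟩, h2⟩ h4

end K413.LargestOpen
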