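import Groth.Agent.Sga3.H809.Main
import Groth.Agent.Sga3B.BcSpec144
import Mathlib.FieldTheory.Perfect
import Mathlib.FieldTheory.IsAlgClosed.Basic

/-!
# Powers of the characteristic on the points of a group of multiplicative type

`bijective_pow`: the `p ^ r`-th power is bijective on the points of a group of multiplicative type with values in an
algebraically closed field of characteristic `p`.
-/

set_option autoImplicit false

universe u v

open TensorProduct WithConv

namespace K413.MultPow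

open Groth.Agent.Sga3B.Spread144 Groth.Agent.Sga3B.BcSpec144

lemma pow_apply_groupLike {k : Type*} [CommRing k] {B : Type*} [CommRing B] [Bialgebra k B] {C : Type*} [CommRing C]
    [Algebra k C] (f : WithConv (B →ₐ[k] C)) (n : ℕ) (x : B) (hx : IsGroupLikeElem k x) :
    (f ^ n).ofConv x = (f.ofConv x) ^ n := by
  induction n with
  | zero =>
    rw [pow_zero, pow_zero]
    change algebraMap k C (CoalgebraStruct.counit (R := k) x) = 1
    rw [hx.counit_eq_one, map_one]
  | succ n ih =>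
    rw [pow_succ, pow_succ, ← ih]
    change (f ^ n * f) x = _
    rw [AlgHom.convMul_apply, hx.comul_eq_tmul_self]
    simp

variable {k : Type u} [Field k] {D : Type u} [CommRing D] [HopfAlgebra k D] [Algebra.FiniteType k D]
  {Ω : Type u} [Field Ω] [IsAlgClosed Ω] [Algebra k Ω]

theorem bijective_pow (h : SGA3b.IsMultTypeConst k D) (p : ℕ) [Fact p.Prime] [CharP k p] (r : ℕ) :
    Function.Bijective (fun g : WithConv (D →ₐ[k] Ω) => g ^ (p ^ r)) := by
  obtain ⟨M, _, ⟨e⟩⟩ := Groth.Agent.Sga3.H809.Main.isDiag_of_isMultTypeConst k Ω D h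
  have hchar : CharP Ω p := charP_of_injective_algebraMap (algebraMap k Ω).injective p
  have hgl : ∀ m : M, IsGroupLikeElem Ω (MonoidAlgebra.of Ω M m) := fun m => MonoidAlgebra.isGroupLikeElem_of m
  have h1 : Function.Bijective (resPt k D Ω Ω) := ⟨resPt_injective, resPt_surjective⟩
  have hpow : ∀ (f : Ω ⊗[k] D →ₐ[Ω] Ω) (n : ℕ) (m : M),
      (toConv f ^ n).ofConv (e.symm (MonoidAlgebra.of Ω M m)) = (f (e.symm (MonoidAlgebra.of Ω M m))) ^ n := by
    intro f n m
    exact pow_apply_groupLike (toConv f) n _ ((hgl m).map (e.symm : MonoidAlgebra Ω M →ₐc[Ω] Ω ⊗[k] D))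
  have hext : ∀ f f' : Ω ⊗[k] D →ₐ[Ω] Ω,
      (∀ m : M, f (e.symm (MonoidAlgebra.of Ω M m)) = f' (e.symm (MonoidAlgebra.of Ω M m))) → f = f' := by
    intro f f' hff
    have h2 : f.comp (e.symm : MonoidAlgebra Ω M →ₐc[Ω] Ω ⊗[k] D).toAlgHom =
        f'.comp (e.symm : MonoidAlgebra Ω M →ₐc[Ω] Ω ⊗[k] D).toAlgHom := by
      apply MonoidAlgebra.algHom_ext
      · intro m
        exact hff m
      · ext
    apply AlgHom.ext
    intro x
    have h3 := DFunLike.congr_fun h2 (e x)
    have h4 : e.symm (e x) = x := e.symm_apply_apply x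
    change f (e.symm (e x)) = f' (e.symm (e x)) at h3
    rwa [h4] at h3
  constructor
  · intro g g' hgg
    obtain ⟨f, rfl⟩ := h1.2 g
    obtain ⟨f', rfl⟩ := h1.2 g'
    simp only [← map_pow] at hgg
    have h2 := h1.1 hgg
    congr 1
    apply WithConv.ofConv_injective
    apply hext
    intro m
    have h3 := DFunLike.congr_fun (congrArg WithConv.ofConv h2) (e.symm (MonoidAlgebra.of Ω M m))
    have h4 := hpow f.ofConv (p ^ r) m
    have h5 := hpow f'.ofConv (p ^ r) m
    have h6 : (f.ofConv (e.symm (MonoidAlgebra.of Ω M m))) ^ (p ^ r) =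
        (f'.ofConv (e.symm (MonoidAlgebra.of Ω M m))) ^ (p ^ r) := by
      rw [← h4, ← h5]
      exact h3
    exact (iterateFrobenius_inj Ω p r) h6
  · intro g
    obtain ⟨f, rfl⟩ := h1.2 g
    let χ : M →* Ω := ((f.ofConv : Ω ⊗[k] D →* Ω).comp
      ((e.symm : MonoidAlgebra Ω M →ₐc[Ω] Ω ⊗[k] D) : MonoidAlgebra Ω M →* Ω ⊗[k] D)).comp (MonoidAlgebra.of Ω M)
    let σ : Ω ≃+* Ω := iterateFrobeniusEquiv Ω p r
    let χ' : M →* Ω := (σ.symm : Ω →* Ω).comp χ
    let f' : Ω ⊗[k] D →ₐ[Ω] Ω := (MonoidAlgebra.lift Ω Ω M χ').comp (e : Ω ⊗[k] D →ₐc[Ω] MonoidAlgebra Ω M).toAlgHom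
    refine ⟨resPt k D Ω Ω (toConv f'), ?_⟩
    simp only [← map_pow]
    congr 1
    apply WithConv.ofConv_injective
    apply hext
    intro m
    rw [hpow]
    have h2 : f' (e.symm (MonoidAlgebra.of Ω M m)) = σ.symm (χ m) := by
      change MonoidAlgebra.lift Ω Ω M χ' (e (e.symm (MonoidAlgebra.of Ω M m))) = _
      have h3 : e (e.symm (MonoidAlgebra.of Ω M m)) = MonoidAlgebra.of Ω M m := e.apply_symm_apply _
      rw [h3, MonoidAlgebra.lift_of]
      rfl
    rw [h2, ← iterateFrobenius_def, ← coe_iterateFrobeniusEquiv]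
    exact σ.apply_symm_apply _

end K413.MultPow
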