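import Groth.Agent.Sga3.H793.MultPart
import Mathlib.Algebra.CharP.Lemmas

/-!
# Powers of the characteristic and the multiplicative part

`exists_pow_kill`: `A` a commutative and cocommutative Hopf algebra of finite type over a field of characteristic `p`;
there is `r` such that `g ^ (p ^ r)` kills the ideal of the largest subgroup of multiplicative type, for every point
`g`: the `p ^ r`-th power map of `G` factors through the multiplicative part.
-/

set_option autoImplicit false

universe u v

open TensorProduct HopfRep WithConv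

namespace K413.UnipKill

open Groth.Agent.Sga3A.ComodBasic Groth.Agent.Sga3A.ComodUnip Groth.Agent.Sga3.H793.UnipPart
open Groth.Agent.Sga3.H793.MultPart

section

variable {k : Type u} {A : Type v} [Field k] [CommRing A] [Bialgebra k A]

theorem pow_apply_of_mem_soc {C : Type*} [CommRing C] [Algebra k C] (π : WithConv (A →ₗ[k] C))
    (h1 : π.ofConv 1 = 0) (n : ℕ) (a : A) (ha : a ∈ soc k A A n) : (π ^ n).ofConv a = 0 := by
  induction n generalizing a with
  | zero =>
    rw [mem_soc_zero] at ha
    rw [ha, map_zero]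
  | succ n ih =>
    rw [mem_soc_succ_iff] at ha
    obtain ⟨t, ht⟩ := ha
    rw [pow_succ]
    change LinearMap.mul' k C (TensorProduct.map (π ^ n).ofConv π.ofConv (CoalgebraStruct.comul (R := k) a)) = 0
    have h2 : CoalgebraStruct.comul (R := k) a = a ⊗ₜ[k] (1 : A) + (soc k A A n).subtype.rTensor A t := by
      rw [ht]
      abel
    rw [h2, map_add, map_add, TensorProduct.map_tmul, h1, TensorProduct.tmul_zero, map_zero, zero_add]
    clear ht h2
    induction t with
    | zero => simp
    | add x y hx hy => rw [map_add, map_add, map_add, hx, hy, add_zero]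
    | tmul x y =>
      rw [LinearMap.rTensor_tmul, TensorProduct.map_tmul, Submodule.subtype_apply, ih _ x.2,
        TensorProduct.zero_tmul, map_zero]

/-- In characteristic `p`, the power `g ^ (p ^ r)` of a point is trivial on the `n`-th step, `n ≤ p ^ r`. -/
theorem pow_char_apply {C : Type*} [CommRing C] [Algebra k C] (p : ℕ) (hp : p.Prime) [CharP k p]
    (g : WithConv (A →ₐ[k] C)) (r n : ℕ) (hn : n ≤ p ^ r) (a : A) (ha : a ∈ soc k A A n) :
    (g ^ (p ^ r)).ofConv a = algebraMap k C (CoalgebraStruct.counit (R := k) a) := by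
  let G : WithConv (A →ₗ[k] C) := toConv g.ofConv.toLinearMap
  let π : WithConv (A →ₗ[k] C) := G - 1
  have hπ1 : π.ofConv 1 = 0 := by
    change g.ofConv 1 - algebraMap k C (CoalgebraStruct.counit (R := k) (1 : A)) = 0
    rw [map_one, Bialgebra.counit_one, map_one, sub_self]
  have h1 : toConv (g ^ (p ^ r)).ofConv.toLinearMap = G ^ (p ^ r) := AlgHom.toLinearMap_convPow g _
  have h2 : G = 1 + π := by rw [add_sub_cancel]
  obtain ⟨s, hs⟩ := (Commute.one_left π).exists_add_pow_prime_pow_eq hp r
  have h3 : ((p : ℕ) : WithConv (A →ₗ[k] C)) = 0 := by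
    have h4 : ((p : ℕ) : WithConv (A →ₗ[k] C)) = algebraMap k _ (p : k) := (map_natCast _ p).symm
    rw [h4, CharP.cast_eq_zero, map_zero]
  rw [← h2, h3, zero_mul, zero_mul, zero_mul, add_zero, one_pow] at hs
  have h4 : (π ^ (p ^ r)).ofConv a = 0 := pow_apply_of_mem_soc π hπ1 _ a (soc_mono hn ha)
  have h5 : (g ^ (p ^ r)).ofConv a = (G ^ (p ^ r)).ofConv a := by
    rw [← h1]
    rfl
  rw [h5, hs]
  change (1 : WithConv (A →ₗ[k] C)).ofConv a + (π ^ (p ^ r)).ofConv a = _
  rw [h4, add_zero]
  rfl

end

section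

variable {k : Type u} [Field k] {A : Type u} [CommRing A] [HopfAlgebra k A] [Coalgebra.IsCocomm k A]
  [Algebra.FiniteType k A]

omit [Coalgebra.IsCocomm k A] in
variable (k A) in
/-- the step of the filtration generating the ideal of the multiplicative part -/
theorem exists_step : ∃ n : ℕ, multIdeal k A ≤ Ideal.span {b : A | b ∈ soc k A A n ∧
    CoalgebraStruct.counit (R := k) b = 0} := by
  have : IsNoetherianRing A := Algebra.FiniteType.isNoetherianRing k A
  let J : ℕ →o Ideal A := ⟨fun n => Ideal.span {b : A | b ∈ soc k A A n ∧ CoalgebraStruct.counit (R := k) b = 0},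
    fun m n h => Ideal.span_mono fun b hb => ⟨soc_mono h hb.1, hb.2⟩⟩
  obtain ⟨n, hn⟩ := monotone_stabilizes_iff_noetherian.2 (inferInstance : IsNoetherian A A) J
  refine ⟨n, Ideal.span_le.2 ?_⟩
  rintro b ⟨⟨m, hm⟩, hb⟩
  have h1 : b ∈ J (max n m) := Ideal.subset_span ⟨soc_mono (le_max_right _ _) hm, hb⟩
  rw [← hn _ (le_max_left _ _)] at h1
  exact h1

variable (k A) in
/-- **The power map factors through the multiplicative part.** -/
theorem exists_pow_kill (p : ℕ) (hp : p.Prime) [CharP k p] : ∃ r : ℕ, ∀ (C : Type u) [CommRing C] [Algebra k C]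
    (g : WithConv (A →ₐ[k] C)), ∀ a ∈ multIdeal k A, (g ^ (p ^ r)).ofConv a = 0 := by
  obtain ⟨n, hn⟩ := exists_step k A
  refine ⟨n, fun C _ _ g a ha => ?_⟩
  have h1 : multIdeal k A ≤ RingHom.ker (g ^ (p ^ n)).ofConv := by
    refine hn.trans (Ideal.span_le.2 ?_)
    rintro b ⟨hb, hb0⟩
    change (g ^ (p ^ n)).ofConv b = 0
    rw [pow_char_apply p hp g n n (Nat.lt_pow_self hp.one_lt).le b hb, hb0, map_zero]
  exact h1 ha

end

end K413.UnipKill
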