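import Groth.Agent.AlgGrp.K413.GeomPt
import Groth.Agent.AlgGrp.K413.UnipKill
import Groth.Agent.AlgGrp.K413.MultPow
import Groth.Agent.Sga3.H829.MultConv
import Groth.Agent.Sga3B.KerGrp
import Groth.Agent.S5433

/-!
# Quasi-complements of the multiplicative part of a commutative affine group
-/

set_option autoImplicit false
universe u
open CategoryTheory MonoidalCategory CartesianMonoidalCategory MonObj GrpObj AlgebraicGeometry Limits
open scoped TensorProduct
open WithConv

namespace K413.QuasiCompl

open Groth.Agent Groth.Agent.Sga3B Groth.Agent.Books.AffBridge Groth.Agent.Sga3.H829.MultConv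
open K413.GeomPt

variable {k : Type u} [Field k]

/-- Criterion with geometric points. -/
theorem of_geomPts {G M H : Over (Spec (CommRingCat.of k))} [GrpObj G] [GrpObj M] [GrpObj H]
    [IsAffine G.left] [LocallyOfFiniteType G.hom] (j : M ⟶ G) [IsClosedImmersion j.left]
    (h : H ⟶ G) [IsClosedImmersion h.left]
    (h1 : ∀ (Ω : Type u) [Field Ω] [IsAlgClosed Ω] [Algebra k Ω] (x : SpecOver k Ω ⟶ G),
      ∃ (m : SpecOver k Ω ⟶ M) (y : SpecOver k Ω ⟶ H), (m ≫ j) * (y ≫ h) = x)
    (h2 : ∀ (Ω : Type u) [Field Ω] [IsAlgClosed Ω] [Algebra k Ω] (m : SpecOver k Ω ⟶ M) (y : SpecOver k Ω ⟶ H),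
      m ≫ j = y ≫ h → m = 1) :
    Surjective ((j ⊗ₘ h) ≫ μ[G]).left ∧ IsFinite (pullback.fst j.left h.left ≫ M.hom) := by
  constructor
  · refine surjective_of_geomPts _ fun Ω _ _ _ x => ?_
    obtain ⟨m, y, hmy⟩ := h1 Ω x
    refine ⟨lift m y, ?_⟩
    rw [← hmy, Hom.mul_def, ← Category.assoc, lift_map]
  · have hMft : LocallyOfFiniteType M.hom := by
      rw [← Over.w j]; infer_instance
    have hMa : IsAffine M.left := isAffine_of_isAffineHom j.left
    have hMh : IsAffineHom M.hom := isAffineHom_of_isAffine _
    have hc : IsClosedImmersion (pullback.fst j.left h.left) := inferInstance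
    have hss : Subsingleton ↥(pullback j.left h.left) := by
      have key : ∀ x : ↥(pullback j.left h.left), pullback.fst j.left h.left x =
          (η[M] : 𝟙_ (Over (Spec (CommRingCat.of k))) ⟶ M).left (IsLocalRing.closedPoint k) := by
        intro x
        let P : Over (Spec (CommRingCat.of k)) := Over.mk (pullback.fst j.left h.left ≫ M.hom)
        let p₁ : P ⟶ M := Over.homMk (pullback.fst j.left h.left) rfl
        let p₂ : P ⟶ H := Over.homMk (pullback.snd j.left h.left) (by
          change pullback.snd j.left h.left ≫ H.hom = pullback.fst j.left h.left ≫ M.hom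
          rw [← Over.w j, ← Over.w h, pullback.condition_assoc])
        have hp : p₁ ≫ j = p₂ ≫ h := by
          ext1
          exact pullback.condition
        obtain ⟨Ω, _, _, _, z, t, hz⟩ := exists_geomPt P x
        have h3 := h2 Ω (z ≫ p₁) (z ≫ p₂) (by rw [Category.assoc, hp, Category.assoc])
        have h4 : (z ≫ p₁).left t = (toUnit (SpecOver k Ω) ≫ η[M]).left t := by
          rw [h3]
          rfl
        rw [Over.comp_left, Over.comp_left, Scheme.Hom.comp_apply, Scheme.Hom.comp_apply, hz] at h4
        refine h4.trans ?_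
        congr 1
        exact Subsingleton.elim (α := PrimeSpectrum k) _ _
      exact ⟨fun x y => (Scheme.Hom.isClosedEmbedding (pullback.fst j.left h.left)).injective
        ((key x).trans (key y).symm)⟩
    exact isFinite_of_subsingleton _

/-- A Hopf algebra whose group of points is commutative is cocommutative. -/
theorem isCocomm_of_points {A : Type u} [CommRing A] [HopfAlgebra k A]
    (h : ∀ (X : Over (Spec (CommRingCat.of k))) (x y : X ⟶ SpecOver k A), x * y = y * x) :
    Coalgebra.IsCocomm k A where
  comm_comp_comul := by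
    let i₁ : WithConv (A →ₐ[k] A ⊗[k] A) := toConv Algebra.TensorProduct.includeLeft
    let i₂ : WithConv (A →ₐ[k] A ⊗[k] A) := toConv Algebra.TensorProduct.includeRight
    have h1 : i₁ * i₂ = i₂ * i₁ := by
      apply WithConv.ofConv_injective
      apply specMap_injective k
      rw [specMap_mul, specMap_mul]
      exact h _ _ _
    ext a
    have h2 := congrArg (fun z : WithConv (A →ₐ[k] A ⊗[k] A) => z.ofConv a) h1
    have h3 : ∀ f g : WithConv (A →ₐ[k] A ⊗[k] A), (f * g).ofConv a =
        Algebra.TensorProduct.lift f.ofConv g.ofConv (fun _ _ => .all _ _) (CoalgebraStruct.comul (R := k) a) :=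
      fun f g => AlgHom.convMul_apply f g a
    simp only [h3] at h2
    have e1 : Algebra.TensorProduct.lift i₁.ofConv i₂.ofConv (fun _ _ => .all _ _) = AlgHom.id k (A ⊗[k] A) := by
      apply Algebra.TensorProduct.ext'
      intro x y
      rw [Algebra.TensorProduct.lift_tmul]
      change (x ⊗ₜ[k] (1 : A)) * ((1 : A) ⊗ₜ[k] y) = _
      rw [Algebra.TensorProduct.tmul_mul_tmul, _root_.mul_one, _root_.one_mul]
      rfl
    have e2 : Algebra.TensorProduct.lift i₂.ofConv i₁.ofConv (fun _ _ => .all _ _) =
        (Algebra.TensorProduct.comm k A A : A ⊗[k] A →ₐ[k] A ⊗[k] A) := by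
      apply Algebra.TensorProduct.ext'
      intro x y
      rw [Algebra.TensorProduct.lift_tmul]
      change ((1 : A) ⊗ₜ[k] x) * (y ⊗ₜ[k] (1 : A)) = _
      rw [Algebra.TensorProduct.tmul_mul_tmul, _root_.mul_one, _root_.one_mul]
      rfl
    rw [e1, e2] at h2
    exact h2.symm

/-- bialgebra maps to Hopf algebras of multiplicative type kill the ideal of the multiplicative part -/
theorem multIdeal_le_ker {A C : Type u} [CommRing A] [HopfAlgebra k A] [Coalgebra.IsCocomm k A] [CommRing C]
    [HopfAlgebra k C] (φ : A →ₐc[k] C) (hC : SGA3b.IsMultTypeConst k C) :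
    ∀ a ∈ Sga3.H793.MultPart.multIdeal k A, φ a = 0 := by
  intro a ha
  have h : Sga3.H793.MultPart.multIdeal k A ≤ RingHom.ker (φ : A →+* C) := by
    refine Ideal.span_le.2 ?_
    rintro b ⟨⟨n, hn⟩, hb⟩
    have h1 := Sga3.H793.UnipPart2.map_mem_soc φ n b hn
    have h2 := Sga3.H793.MultPart.eq_counit_of_mem_soc hC n _ h1
    have h3 : CoalgebraStruct.counit (R := k) (φ b) = 0 := by
      rw [CoalgHomClass.counit_comp_apply φ b]
      exact hb
    rw [h3, map_zero] at h2
    exact h2
  exact h ha

end K413.QuasiCompl
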