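import Groth.Agent.AlgGrp.K413.QuasiCompl

/-!
# Quasi-complements of the multiplicative part of a commutative affine group: the theorem
-/

set_option autoImplicit false
universe u
open CategoryTheory MonoidalCategory CartesianMonoidalCategory MonObj GrpObj AlgebraicGeometry Limits
open scoped TensorProduct
open WithConv

namespace K413.QuasiCompl2

open Groth.Agent Groth.Agent.Sga3B Groth.Agent.Books.AffBridge Groth.Agent.Sga3.H829.MultConv
open K413.GeomPt K413.QuasiCompl

variable {k : Type u} [Field k]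

/-- Being of multiplicative type is invariant under isomorphisms. -/
lemma isMultTypeFT_of_iso {S : Scheme.{u}} {T T' : Over S} [GrpObj T] [GrpObj T'] (e : Grp.mk T ≅ Grp.mk T')
    (h : SGA3x.IsMultTypeFT T) : SGA3x.IsMultTypeFT T' := by
  obtain ⟨S', f, hf, hs, hc, h⟩ := h
  refine ⟨S', f, hf, hs, hc, fun s' => ?_⟩
  obtain ⟨U, hU, M, _, hM, ⟨i⟩⟩ := h s'
  exact ⟨U, hU, M, inferInstance, hM, ⟨(BcIso.bcMapIso (U.ι ≫ f) e).symm ≪≫ i⟩⟩

lemma isMultTypeFT_of_iso' {S : Scheme.{u}} {T T' : Over S} [GrpObj T] [GrpObj T'] (e : T ≅ T') [IsMonHom e.hom]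
    (h : SGA3x.IsMultTypeFT T) : SGA3x.IsMultTypeFT T' :=
  isMultTypeFT_of_iso (Grp.mkIso e (IsMonHom.one_hom e.hom) (IsMonHom.mul_hom e.hom)) h

/-- powers of points -/
lemma specMap_pow {A B : Type u} [CommRing A] [HopfAlgebra k A] [CommRing B] [Algebra k B]
    (g : WithConv (A →ₐ[k] B)) (n : ℕ) : specMap k (g ^ n).ofConv = (specMap k g.ofConv) ^ n := by
  induction n with
  | zero =>
    rw [pow_zero, pow_zero]
    have h1 := specMap_mul k (1 : WithConv (A →ₐ[k] B)) 1
    rw [_root_.one_mul] at h1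
    exact left_eq_mul.1 h1
  | succ n ih => rw [pow_succ, pow_succ, specMap_mul, ih]

lemma specMap_one {A B : Type u} [CommRing A] [HopfAlgebra k A] [CommRing B] [Algebra k B] :
    specMap k (1 : WithConv (A →ₐ[k] B)).ofConv = 1 := by
  have := specMap_pow (1 : WithConv (A →ₐ[k] B)) 0
  rwa [pow_zero, pow_zero] at this

section

variable (G : Over (Spec (CommRingCat.of k))) [GrpObj G] [IsCommMonObj G] [IsAffine G.left]
  [LocallyOfFiniteType G.hom]

theorem exists_chart : ∃ (A : Type u) (_ : CommRing A) (_ : HopfAlgebra k A) (e : G ≅ SpecOver k A),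
    IsMonHom e.hom ∧ Algebra.FiniteType k A ∧ Coalgebra.IsCocomm k A := by
  obtain ⟨A, _, _, e, he⟩ := Books.AffBridge.exists_hopf k G
  have hft : Algebra.FiniteType k A := by
    have h1 : LocallyOfFiniteType (SpecOver k A).hom := by
      rw [← Over.w e.inv]; infer_instance
    have h2 : LocallyOfFiniteType (Spec.map (CommRingCat.ofHom (algebraMap k A))) := h1
    rw [HasRingHomProperty.Spec_iff (P := @LocallyOfFiniteType)] at h2
    exact (RingHom.finiteType_algebraMap).mp h2
  refine ⟨A, inferInstance, inferInstance, e, he, hft, isCocomm_of_points fun X x y => ?_⟩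
  have h1 : (x ≫ e.inv) * (y ≫ e.inv) = (y ≫ e.inv) * (x ≫ e.inv) := mul_comm _ _
  rw [← MonObj.mul_comp, ← MonObj.mul_comp, cancel_mono] at h1
  exact h1

end

section

variable {G : Over (Spec (CommRingCat.of k))} [GrpObj G] [IsCommMonObj G] [IsAffine G.left]
  [LocallyOfFiniteType G.hom]
  {M : Over (Spec (CommRingCat.of k))} [GrpObj M] (j : M ⟶ G) [IsMonHom j] [IsClosedImmersion j.left]
  (hM : SGA3x.IsMultTypeFT M)
  (hMmax : ∀ (M' : Over (Spec (CommRingCat.of k))) [GrpObj M'] (j' : M' ⟶ G) [IsMonHom j']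
      [IsClosedImmersion j'.left], SGA3x.IsMultTypeFT M' → ∃ g : M' ⟶ M, g ≫ j = j')
  {A : Type u} [CommRing A] [HopfAlgebra k A] [Algebra.FiniteType k A] [Coalgebra.IsCocomm k A]
  (e : G ≅ SpecOver k A) [IsMonHom e.hom]

omit [IsCommMonObj G] [IsAffine G.left] [LocallyOfFiniteType G.hom] [IsClosedImmersion j.left] in
include hM hMmax in
/-- The largest subgroup of multiplicative type is the one of `multIdeal`. -/
theorem exists_compare : ∃ (u : SpecOver k (A ⧸ Sga3.H793.MultPart.multIdeal k A) ⟶ M)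
    (v : M ⟶ SpecOver k (A ⧸ Sga3.H793.MultPart.multIdeal k A)), IsMonHom v ∧
    u ≫ j = specMap k (Ideal.Quotient.mkₐ k (Sga3.H793.MultPart.multIdeal k A)) ≫ e.inv ∧
    v ≫ specMap k (Ideal.Quotient.mkₐ k (Sga3.H793.MultPart.multIdeal k A)) ≫ e.inv = j := by
  let J := Sga3.H793.MultPart.multIdeal k A
  have hMT : SGA3b.IsMultTypeConst k (A ⧸ J) := Sga3.H793.MultPart.isMultTypeConst_quotient
  let q : A →ₐc[k] A ⧸ J := Bialgebra.Quotient.mkBialgHom (R := k) J
  have hq : Function.Surjective q := Ideal.Quotient.mk_surjective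
  have i1 : IsMonHom (specMap k (q : A →ₐ[k] A ⧸ J)) := isMonHom_specMap k q
  have i2 : IsClosedImmersion (specMap k (q : A →ₐ[k] A ⧸ J)).left :=
    IsClosedImmersion.spec_of_surjective _ hq
  have i3 : IsMonHom (specMap k (q : A →ₐ[k] A ⧸ J) ≫ e.inv) := inferInstance
  have i4 : IsClosedImmersion (specMap k (q : A →ₐ[k] A ⧸ J) ≫ e.inv).left := by
    rw [Over.comp_left]
    infer_instance
  obtain ⟨u, hu⟩ := hMmax _ (specMap k (q : A →ₐ[k] A ⧸ J) ≫ e.inv) (isMultTypeFT_of_isMultTypeConst hMT)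
  have haff : IsAffineHom M.hom := isAffineHom_of_isMultTypeFT hM
  have haff' : IsAffine M.left := isAffine_of_isAffineHom M.hom
  obtain ⟨B, _, _, eM, heM⟩ := Books.AffBridge.exists_hopf k M
  have i5 : IsMonHom (eM.inv ≫ j ≫ e.hom) := inferInstance
  obtain ⟨φ, hφ⟩ := exists_bialgHom_of_isMonHom k (eM.inv ≫ j ≫ e.hom)
  have hB : SGA3b.IsMultTypeConst k B :=
    isMultTypeConst_of_isMultTypeFT (isMultTypeFT_of_iso' eM hM)
  have hker := multIdeal_le_ker φ hB
  let φ' : A ⧸ J →ₐ[k] B := Ideal.Quotient.liftₐ J (φ : A →ₐ[k] B) hker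
  have h2 : specMap k φ' ≫ specMap k (q : A →ₐ[k] A ⧸ J) = eM.inv ≫ j ≫ e.hom := by
    rw [← specMap_comp, ← hφ]
    rfl
  have h3 : (eM.hom ≫ specMap k φ') ≫ specMap k (q : A →ₐ[k] A ⧸ J) ≫ e.inv = j := by
    rw [Category.assoc, ← Category.assoc (specMap k φ'), h2]
    simp
  have hmono : Mono (specMap k (q : A →ₐ[k] A ⧸ J) ≫ e.inv) := Over.mono_of_mono_left _
  obtain ⟨v, hv⟩ : ∃ v : M ⟶ SpecOver k (A ⧸ J), v ≫ specMap k (q : A →ₐ[k] A ⧸ J) ≫ e.inv = j := ⟨_, h3⟩
  refine ⟨u, v, ?_, hu, hv⟩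
  refine Pts.isMonHom_of_points v fun X x y => ?_
  rw [← cancel_mono (specMap k (q : A →ₐ[k] A ⧸ J) ≫ e.inv), MonObj.mul_comp (x ≫ v) (y ≫ v)]
  have h4 : ∀ z : X ⟶ M, (z ≫ v) ≫ specMap k (q : A →ₐ[k] A ⧸ J) ≫ e.inv = z ≫ j := fun z => by
    rw [Category.assoc, hv]
  rw [h4, h4, h4, MonObj.mul_comp]

include hM hMmax in
/-- positive characteristic -/
theorem exists_charP (p : ℕ) [Fact p.Prime] [CharP k p] :
    ∃ (H : Over (Spec (CommRingCat.of k))) (_ : GrpObj H) (h : H ⟶ G), IsMonHom h ∧ IsClosedImmersion h.left ∧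
      Surjective ((j ⊗ₘ h) ≫ μ[G]).left ∧
      IsFinite (pullback.fst j.left h.left ≫ M.hom) := by
  obtain ⟨A, _, _, e, he, hft, hco⟩ := exists_chart G
  obtain ⟨u, v, hv, huj, hvj⟩ := exists_compare j hM hMmax e
  obtain ⟨r, hr⟩ := K413.UnipKill.exists_pow_kill k A p Fact.out
  let J := Sga3.H793.MultPart.multIdeal k A
  have hMT : SGA3b.IsMultTypeConst k (A ⧸ J) := Sga3.H793.MultPart.isMultTypeConst_quotient
  let q : A →ₐ[k] A ⧸ J := Ideal.Quotient.mkₐ k J
  let N := p ^ r
  let f : G ⟶ G := (𝟙 G) ^ N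
  have hf : ∀ (X : Over (Spec (CommRingCat.of k))) (x : X ⟶ G), x ≫ f = x ^ N := fun X x => by
    rw [MonObj.comp_pow, Category.comp_id]
  have hfm : IsMonHom f := by
    refine Pts.isMonHom_of_points f fun X x y => ?_
    rw [hf, hf, hf, mul_pow]
  obtain ⟨_, hι⟩ := KerGrp.exists_grpObj f
  have hcl : IsClosedImmersion (KerGrp.kerι f).left := by
    have hs : IsSeparated G.hom := inferInstance
    infer_instance
  refine ⟨KerGrp.kerObj f, inferInstance, KerGrp.kerι f, hι, hcl, ?_⟩
  have hjm : Mono j := Over.mono_of_mono_left j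
  have hmul : ∀ (X : Over (Spec (CommRingCat.of k))) (m : X ⟶ M) (n : ℕ), (m ^ n) ≫ j = (m ≫ j) ^ n :=
    fun X m n => MonObj.pow_comp _ _ _
  refine of_geomPts j _ (fun Ω _ _ _ x => ?_) (fun Ω _ _ _ m y hmy => ?_)
  · let g : WithConv (A →ₐ[k] Ω) := toConv (specPreimage k (x ≫ e.hom))
    have hg : specMap k g.ofConv = x ≫ e.hom := specMap_specPreimage k _
    let y0 : WithConv (A ⧸ J →ₐ[k] Ω) := toConv (Ideal.Quotient.liftₐ J (g ^ N).ofConv (hr Ω g))
    obtain ⟨z, hz⟩ := (K413.MultPow.bijective_pow (Ω := Ω) hMT p r).2 y0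
    change z ^ N = y0 at hz
    have h1 : ((specMap k z.ofConv ≫ u) ≫ j) ^ N = x ^ N := by
      rw [Category.assoc, huj, ← cancel_mono e.hom, MonObj.pow_comp, MonObj.pow_comp, ← hg, Category.assoc,
        Category.assoc, Iso.inv_hom_id, Category.comp_id]
      change (specMap k z.ofConv ≫ specMap k q) ^ N = _
      have hqm : IsMonHom (specMap k q) := isMonHom_specMap k (Bialgebra.Quotient.mkBialgHom (R := k) J)
      rw [← MonObj.pow_comp, ← specMap_pow, hz, ← specMap_pow, ← specMap_comp]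
      rfl
    have h2 : (((specMap k z.ofConv ≫ u) ≫ j)⁻¹ * x) ≫ f = 1 := by
      rw [hf, mul_pow, inv_pow, h1, inv_mul_cancel]
    obtain ⟨y, hy⟩ := KerGrp.exists_lift f _ h2
    refine ⟨specMap k z.ofConv ≫ u, y, ?_⟩
    rw [hy, mul_inv_cancel_left]
  · have h1 : (m ≫ j) ^ N = 1 := by
      rw [hmy, ← hf, Category.assoc, KerGrp.kerι_comp, MonObj.comp_one]
    have h2 : m ^ N = 1 := by
      rw [← cancel_mono j, hmul, h1, MonObj.one_comp]
    let z : WithConv (A ⧸ J →ₐ[k] Ω) := toConv (specPreimage k (m ≫ v))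
    have hz : specMap k z.ofConv = m ≫ v := specMap_specPreimage k _
    have h3 : z ^ N = 1 := by
      apply WithConv.ofConv_injective
      apply specMap_injective k
      rw [specMap_pow, hz, specMap_one, ← MonObj.pow_comp, h2, MonObj.one_comp]
    have h4 : z = 1 := (K413.MultPow.bijective_pow (Ω := Ω) hMT p r).1 (by
      change z ^ N = 1 ^ N
      rw [h3, one_pow])
    have h5 : m ≫ v = 1 := by rw [← hz, h4, specMap_one]
    have hqm : IsMonHom (specMap k q ≫ e.inv) := by
      have : IsMonHom (specMap k q) := isMonHom_specMap k (Bialgebra.Quotient.mkBialgHom (R := k) J)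
      infer_instance
    rw [← cancel_mono j, MonObj.one_comp, ← hvj, ← Category.assoc, h5]
    exact MonObj.one_comp _

include hM hMmax in
/-- characteristic zero -/
theorem exists_charZero [CharZero k] :
    ∃ (H : Over (Spec (CommRingCat.of k))) (_ : GrpObj H) (h : H ⟶ G), IsMonHom h ∧ IsClosedImmersion h.left ∧
      Surjective ((j ⊗ₘ h) ≫ μ[G]).left ∧
      IsFinite (pullback.fst j.left h.left ≫ M.hom) := by
  obtain ⟨A, _, _, e, he, hft, hco⟩ := exists_chart G
  obtain ⟨u, v, hv, huj, hvj⟩ := exists_compare j hM hMmax e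
  let J := Sga3.H793.MultPart.multIdeal k A
  have hMT : SGA3b.IsMultTypeConst k (A ⧸ J) := Sga3.H793.MultPart.isMultTypeConst_quotient
  obtain ⟨I, ⟨hI, -, hbij⟩, -⟩ := S5433.result k A J hMT fun I _ h => Sga3.H793.MultPart.multIdeal_le I h
  let q : A →ₐ[k] A ⧸ J := Ideal.Quotient.mkₐ k J
  let w : A →ₐ[k] A ⧸ I := Ideal.Quotient.mkₐ k I
  have hqm : IsMonHom (specMap k q) := isMonHom_specMap k (Bialgebra.Quotient.mkBialgHom (R := k) J)
  have hwm : IsMonHom (specMap k w) := isMonHom_specMap k (Bialgebra.Quotient.mkBialgHom (R := k) I)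
  let h : SpecOver k (A ⧸ I) ⟶ G := specMap k w ≫ e.inv
  have hcl : IsClosedImmersion h.left := by
    have hw : Function.Surjective w := Ideal.Quotient.mk_surjective
    have i2 : IsClosedImmersion (specMap k w).left := IsClosedImmersion.spec_of_surjective _ hw
    rw [Over.comp_left]
    infer_instance
  refine ⟨SpecOver k (A ⧸ I), inferInstance, h, inferInstance, hcl, ?_⟩
  have hjm : Mono j := Over.mono_of_mono_left j
  let ξ : A →ₐ[k] (A ⧸ J) ⊗[k] (A ⧸ I) :=
    (Algebra.TensorProduct.map (Ideal.Quotient.mkₐ k J) (Ideal.Quotient.mkₐ k I)).comp (Bialgebra.comulAlgHom k A)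
  -- products of points
  have hprod : ∀ (Ω : Type u) [Field Ω] [Algebra k Ω] (a : WithConv (A ⧸ J →ₐ[k] Ω)) (b : WithConv (A ⧸ I →ₐ[k] Ω)),
      (toConv (a.ofConv.comp q) * toConv (b.ofConv.comp w) : WithConv (A →ₐ[k] Ω)) =
        toConv ((Algebra.TensorProduct.lift a.ofConv b.ofConv (fun _ _ => .all _ _)).comp ξ) := by
    intro Ω _ _ a b
    apply WithConv.ofConv_injective
    apply AlgHom.ext
    intro x
    change (toConv (a.ofConv.comp q) * toConv (b.ofConv.comp w)) x = _
    rw [AlgHom.convMul_apply]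
    change _ = (Algebra.TensorProduct.lift a.ofConv b.ofConv (fun _ _ => .all _ _))
      (Algebra.TensorProduct.map q w (CoalgebraStruct.comul (R := k) x))
    generalize CoalgebraStruct.comul (R := k) x = t
    induction t with
    | zero => simp
    | add x y hx hy => rw [map_add, hx, hy, map_add, map_add]
    | tmul x y => simp
  refine of_geomPts j h (fun Ω _ _ _ x => ?_) (fun Ω _ _ _ m y hmy => ?_)
  · let g : WithConv (A →ₐ[k] Ω) := toConv (specPreimage k (x ≫ e.hom))
    have hg : specMap k g.ofConv = x ≫ e.hom := specMap_specPreimage k _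
    let ξe : A ≃ₐ[k] (A ⧸ J) ⊗[k] (A ⧸ I) := AlgEquiv.ofBijective ξ hbij
    let g' : (A ⧸ J) ⊗[k] (A ⧸ I) →ₐ[k] Ω := g.ofConv.comp ξe.symm.toAlgHom
    let a : WithConv (A ⧸ J →ₐ[k] Ω) := toConv (g'.comp Algebra.TensorProduct.includeLeft)
    let b : WithConv (A ⧸ I →ₐ[k] Ω) := toConv (g'.comp Algebra.TensorProduct.includeRight)
    have h1 : (toConv (a.ofConv.comp q) * toConv (b.ofConv.comp w) : WithConv (A →ₐ[k] Ω)) = g := by
      rw [hprod]
      apply WithConv.ofConv_injective
      apply AlgHom.ext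
      intro x
      have h2 : Algebra.TensorProduct.lift a.ofConv b.ofConv (fun _ _ => .all _ _) = g' := by
        apply Algebra.TensorProduct.ext'
        intro s t
        rw [Algebra.TensorProduct.lift_tmul]
        change g' (s ⊗ₜ 1) * g' (1 ⊗ₜ t) = _
        rw [← map_mul, Algebra.TensorProduct.tmul_mul_tmul, _root_.mul_one, _root_.one_mul]
      rw [h2]
      change g.ofConv (ξe.symm (ξe x)) = _
      rw [AlgEquiv.symm_apply_apply]
    refine ⟨specMap k a.ofConv ≫ u, specMap k b.ofConv, ?_⟩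
    rw [← cancel_mono e.hom, MonObj.mul_comp, Category.assoc (specMap k a.ofConv), huj]
    simp only [Category.assoc, h, Iso.inv_hom_id, Category.comp_id]
    rw [← hg, ← h1, specMap_mul, ← specMap_comp, ← specMap_comp]
  · let a : WithConv (A ⧸ J →ₐ[k] Ω) := toConv (specPreimage k (m ≫ v))
    have ha : specMap k a.ofConv = m ≫ v := specMap_specPreimage k _
    let b : WithConv (A ⧸ I →ₐ[k] Ω) := toConv (specPreimage k y)
    have hb : specMap k b.ofConv = y := specMap_specPreimage k _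
    have h1 : a.ofConv.comp q = b.ofConv.comp w := by
      apply specMap_injective k
      rw [specMap_comp, specMap_comp, ha, hb, ← cancel_mono e.inv, Category.assoc, Category.assoc, Category.assoc]
      refine Eq.trans ?_ hmy
      rw [← hvj]
    have h2 : (toConv (b.ofConv.comp w) * toConv ((b⁻¹).ofConv.comp w) : WithConv (A →ₐ[k] Ω)) = 1 := by
      apply WithConv.ofConv_injective
      apply specMap_injective k
      rw [specMap_mul, specMap_one]
      change specMap k (b.ofConv.comp w) * specMap k ((b⁻¹).ofConv.comp w) = 1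
      rw [specMap_comp, specMap_comp, ← MonObj.mul_comp, ← specMap_mul, mul_inv_cancel, specMap_one,
        MonObj.one_comp]
    have h3 : (toConv ((1 : WithConv (A ⧸ J →ₐ[k] Ω)).ofConv.comp q) *
        toConv ((1 : WithConv (A ⧸ I →ₐ[k] Ω)).ofConv.comp w) : WithConv (A →ₐ[k] Ω)) = 1 := by
      apply WithConv.ofConv_injective
      apply specMap_injective k
      rw [specMap_mul, specMap_one]
      change specMap k ((1 : WithConv (A ⧸ J →ₐ[k] Ω)).ofConv.comp q) *
        specMap k ((1 : WithConv (A ⧸ I →ₐ[k] Ω)).ofConv.comp w) = 1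
      rw [specMap_comp, specMap_comp, specMap_one, specMap_one, MonObj.one_comp, MonObj.one_comp,
        _root_.one_mul]
    rw [← h1, hprod] at h2
    rw [hprod, ← h2] at h3
    have h4 : Algebra.TensorProduct.lift a.ofConv (b⁻¹).ofConv (fun _ _ => .all _ _) =
        Algebra.TensorProduct.lift (1 : WithConv (A ⧸ J →ₐ[k] Ω)).ofConv
          (1 : WithConv (A ⧸ I →ₐ[k] Ω)).ofConv (fun _ _ => .all _ _) := by
      apply AlgHom.ext
      intro t
      obtain ⟨x, rfl⟩ := hbij.2 t
      exact (DFunLike.congr_fun (congrArg WithConv.ofConv h3) x).symm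
    have h5 : a = 1 := by
      apply WithConv.ofConv_injective
      apply AlgHom.ext
      intro s
      have h6 := DFunLike.congr_fun h4 (s ⊗ₜ 1)
      rw [Algebra.TensorProduct.lift_tmul, Algebra.TensorProduct.lift_tmul, map_one, map_one,
        _root_.mul_one, _root_.mul_one] at h6
      exact h6
    have h6 : m ≫ v = 1 := by rw [← ha, h5, specMap_one]
    have hqe : IsMonHom (specMap k q ≫ e.inv) := inferInstance
    rw [← cancel_mono j, MonObj.one_comp, ← hvj, ← Category.assoc, h6]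
    exact MonObj.one_comp _

end

end K413.QuasiCompl2
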