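import Mathlib.AlgebraicGeometry.ResidueField
import Mathlib.CategoryTheory.Monoidal.Cartesian.Over
import Mathlib.AlgebraicGeometry.Group.Smooth

/-!
# The residue field of a rational point
-/

set_option autoImplicit false

universe u

open CategoryTheory MonoidalCategory CartesianMonoidalCategory AlgebraicGeometry Limits

namespace K413.RatPoint

variable {k : Type u} [Field k]

/-- The canonical map from the spectrum of the residue field at a rational point is the rational
point. -/
theorem fromSpecResidueField_eq {X : Scheme.{u}} (p : X ⟶ Spec (CommRingCat.of k))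
    (e : Spec (CommRingCat.of k) ⟶ X) (he : e ≫ p = 𝟙 _) (s : X)
    (hs : e (IsLocalRing.closedPoint k) = s) :
    X.fromSpecResidueField s = (X.fromSpecResidueField s ≫ p) ≫ e := by
  subst hs
  set s := e (IsLocalRing.closedPoint k)
  let φ : X.residueField s ⟶ CommRingCat.of k := X.descResidueField (Scheme.stalkClosedPointTo e)
  have ha : Spec.map φ ≫ X.fromSpecResidueField s = e :=
    Scheme.descResidueField_stalkClosedPointTo_fromSpecResidueField k X e
  let ψ : CommRingCat.of k ⟶ X.residueField s := Spec.preimage (X.fromSpecResidueField s ≫ p)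
  have hψ : Spec.map ψ = X.fromSpecResidueField s ≫ p := Spec.map_preimage _
  have h1 : Spec.map φ ≫ Spec.map ψ = 𝟙 _ := by
    rw [hψ, ← Category.assoc, ha, he]
  have h2 : ψ ≫ φ = 𝟙 _ := by
    apply Spec.map_injective
    rw [Spec.map_comp, h1, Spec.map_id]
  have h3 : IsIso φ := by
    rw [ConcreteCategory.isIso_iff_bijective]
    refine ⟨RingHom.injective φ.hom, fun y => ⟨ψ y, ?_⟩⟩
    change (ψ ≫ φ) y = y
    rw [h2]
    rfl
  have h4 : Spec.map ψ ≫ Spec.map φ = 𝟙 _ := by
    have : ψ = inv φ := by rw [IsIso.eq_inv_of_inv_hom_id h2]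
    rw [this, ← Spec.map_comp, IsIso.hom_inv_id, Spec.map_id]
  rw [← hψ]
  conv_rhs => rw [← ha]
  rw [← Category.assoc, h4, Category.id_comp]

/-- Version in `Over (Spec k)`. -/
theorem exists_eq_toUnit_comp (X : Over (Spec (CommRingCat.of k)))
    (e : 𝟙_ (Over (Spec (CommRingCat.of k))) ⟶ X) (pt : (𝟙_ (Over (Spec (CommRingCat.of k)))).left) :
    (Over.homMk (X.left.fromSpecResidueField (e.left pt)) :
      Over.mk (X.left.fromSpecResidueField (e.left pt) ≫ X.hom) ⟶ X) =
      toUnit _ ≫ e := by
  ext1
  have h1 : e.left (IsLocalRing.closedPoint k) = e.left pt := by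
    congr 1
    exact Subsingleton.elim (α := ↥(Spec (CommRingCat.of k))) _ _
  exact fromSpecResidueField_eq X.hom e.left (Over.w e) _ h1

end K413.RatPoint
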