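import Groth.Agent.AlgGrp.K410.Core
import Groth.Agent.AlgGrp.K413.EffAmp
import Groth.Agent.AlgGrp.K413.AmpNd
import Groth.Agent.AlgGrp.K413.PicTriv
import Groth.Agent.AlgGrp.K413.BcFin
import Groth.Agent.Flat2B.SmoothGeom
import Groth.Agent.S2327

/-!
# Ample modules on non-proper anti-affine groups have infinite-dimensional spaces of sections
-/

set_option autoImplicit false
set_option linter.unusedSectionVars false
universe u
open CategoryTheory MonoidalCategory CartesianMonoidalCategory MonObj GrpObj AlgebraicGeometry Limits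

namespace K413.SecInf

open Groth.Agent K410.LocSec K410.LocSys
open Groth.Agent.Fdesc.LocGen Groth.Agent.Grpsch.PicGrp

theorem sec_ne_zero {X : Scheme.{u}} [IsIntegral X] {L : X.Modules} (s : Coh.structureModule X ⟶ L) {x : X}
    (hx : x ∈ CohB1.genLocus _ s) : sec s ⊤ ≠ 0 := by
  intro h0
  obtain ⟨U, hxU, hU⟩ := (mem_genLocus_iff s x).1 hx
  have h1 : sec s U = 0 := by rw [← res_sec s (le_top : U ≤ ⊤), h0, map_zero]
  rw [h1] at hU
  have : Nonempty U := ⟨⟨x, hxU⟩⟩
  have h2 : (1 : Γ(X, U)) = 0 := hU.ext (by rw [smul_zero, smul_zero])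
  exact one_ne_zero h2

variable {k : Type u} [Field k]

theorem main_ac [IsAlgClosed k] (G : Over (Spec (CommRingCat.of k))) [GrpObj G] [Smooth G.hom] [QuasiCompact G.hom]
    (hG : IsIso G.hom.appTop) (hnp : ¬ IsProper G.hom) (L : G.left.Modules) (hL : CohB1.IsAmple L) :
    ¬ Module.Finite Γ(G.left, ⊤) Γ(L, ⊤) := by
  obtain ⟨N, A, _, _, i, q, _, _, _, _, _, _, _, _, hk, _, _, _, hF⟩ := K410.Data.exists_data G hG hnp
  have hb := (K414.AntiAffBC.bijective_iff G).2 hG
  obtain ⟨hconn, hcomm⟩ := S3293.result k G hb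
  have hGi : IsIntegral G.left := K399.Basic.isIntegral G
  have hAi : IsIntegral A.left := K399.Basic.isIntegral A
  have hAg : GeometricallyIntegral A.hom := K399.Basic.geometricallyIntegral A
  have hAc : IsCommMonObj A := isCommMonObj_of_isProper_of_geometricallyIntegral A
  have hm : Mono i := K414.Kit.mono_of_closed i
  have hNc : IsCommMonObj N := K399.CommSect.isCommMonObj_of_mono i
  have hcomp : CompactSpace A.left := (quasiCompact_iff_compactSpace A.hom).1 inferInstance
  obtain ⟨p, hp⟩ := K410.LocEx.exists_ls i hk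
  have hcov : ⨆ p : LS q, p.V = ⊤ := by
    have h1 := K410.LocEx.iSup_tra p hp
    rw [eq_top_iff, ← h1]
    exact iSup_le fun y => le_iSup (fun p : LS q => p.V) (p.tra y)
  have hqc : QuasiCompact q.left := K414.Kit.quasiCompact_left q
  have hdom : IsSchemeTheoreticallyDominant q.left := IsSchemeTheoreticallyDominant.of_isDominant q.left
  have hinj : ∀ U : A.left.Opens, Function.Injective (q.left.app U) := fun U => q.left.app_injective U
  have hsep : IsSeparated G.hom := Books.AntiAffine.isSeparated_hom G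
  have hNa : IsAffineHom N.hom := inferInstance
  have hqa : IsAffineHom q.left := K718.Sect.isAffineHom_left i q hk
  have hNr : IsReduced N.left := Flat2B.SmoothGeom.isReduced_of_smooth N.hom
  have hNN : IsReduced (N ⊗ N).left := by
    have : Smooth (N ⊗ N).hom := inferInstanceAs (Smooth (pullback.fst N.hom N.hom ≫ N.hom))
    exact Flat2B.SmoothGeom.isReduced_of_smooth (N ⊗ N).hom
  -- the module comes from the abelian variety
  obtain ⟨d, hd⟩ := PicTriv.exists_pull i q hk (Grpsch.PicGrp.mk L hL.1)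
  obtain ⟨M, hM, rfl⟩ := exists_mk d
  rw [pull_mk, mk_eq_iff] at hd
  obtain ⟨e⟩ := hd
  have hamp : CohB1.IsAmple ((Scheme.Modules.pullback q.left).obj M) :=
    Groth.Agent.Flat2H.FamDict.isAmple_of_iso e.symm hL
  have hnd := AmpNd.nd q hM hamp
  -- a power has a nonzero section
  obtain ⟨n, s, hs, -⟩ := hamp.2.2 (genericPoint G.left)
  have hM' : PicF.IsInvertible (CohB1.tensorPow M (n + 1)) := isInvertible_tensorPow hM (n + 1)
  obtain ⟨φ⟩ : Nonempty (CohB1.tensorPow ((Scheme.Modules.pullback q.left).obj M) (n + 1) ≅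
      (Scheme.Modules.pullback q.left).obj (CohB1.tensorPow M (n + 1))) := by
    rw [← mk_eq_iff (isInvertible_tensorPow hamp.1 (n + 1)) (isInvertible_pullback q.left hM'),
      mk_tensorPow hamp.1, ← pull_mk _ hM', mk_tensorPow hM, map_pow, pull_mk]
  have hs' : sec (s ≫ φ.hom) ⊤ ≠ 0 := by
    intro h0
    apply sec_ne_zero s hs
    have h1 : sec ((s ≫ φ.hom) ≫ φ.inv) ⊤ = φ.inv.app ⊤ (sec (s ≫ φ.hom) ⊤) := sec_comp _ _ _
    rw [h0, map_zero, Category.assoc, φ.hom_inv_id, Category.comp_id] at h1
    exact h1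
  have hnd' : K524.Index.ND (Grpsch.PicGrp.mk _ hM') := by
    rw [mk_tensorPow]
    exact hnd.pow (Nat.succ_pos n)
  have hampM' := EffAmp.isAmple_of_section i hk hNN hinj hcov hM' hnd' _ hs'
  have hAsep : A.left.IsSeparated := by
    constructor
    have h6 : IsSeparated (A.hom ≫ Limits.terminal.from _) := inferInstance
    rwa [Subsingleton.elim (Limits.terminal.from A.left) (A.hom ≫ Limits.terminal.from _)]
  have hampM : CohB1.IsAmple M := (S2327.result A.left M hM (n + 1) (Nat.succ_pos n)).2 hampM'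
  intro hfin
  refine K410.Core.core i q hk hG hF hampM ?_
  let f : Γ(L, ⊤) →ₗ[Γ(G.left, ⊤)] Γ((Scheme.Modules.pullback q.left).obj M, ⊤) :=
    { toFun := fun m => e.inv.app ⊤ m
      map_add' := fun _ _ => map_add _ _ _
      map_smul' := fun a m => Scheme.Modules.Hom.app_smul e.inv a m }
  refine Module.Finite.of_surjective f fun m => ⟨e.hom.app ⊤ m, ?_⟩
  exact congrArg (fun t => t.app ⊤ m) e.hom_inv_id

theorem main (G : Over (Spec (CommRingCat.of k))) [GrpObj G] [Smooth G.hom] [QuasiCompact G.hom]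
    (hG : Function.Bijective ((Scheme.ΓSpecIso (CommRingCat.of k)).inv ≫ G.hom.appTop).hom) (hnc : ¬ IsProper G.hom)
    (L : G.left.Modules) (hL : CohB1.IsAmple L) : ¬ Module.Finite Γ(G.left, ⊤) Γ(L, ⊤) := by
  intro hfin
  let f : Spec (CommRingCat.of (AlgebraicClosure k)) ⟶ Spec (CommRingCat.of k) :=
    Spec.map (CommRingCat.ofHom (algebraMap k (AlgebraicClosure k)))
  have hG' := (K414.AntiAffBC.bijective_iff_bc G f).1 hG
  have hsep : IsSeparated G.hom := Books.AntiAffine.isSeparated_hom G
  have hc : CompactSpace G.left := QuasiCompact.compactSpace_of_compactSpace G.hom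
  have hqs : QuasiSeparatedSpace G.left := quasiSeparatedSpace_of_quasiSeparated G.hom
  have hLq : Coh.IsQCoh L := K524.Kun.isQCoh_of_isInvertible hL.1
  have h1 := BcFin.finite_bc (L := AlgebraicClosure k) G hG hG' L hfin
  have hsm : Smooth (Red.bc f G).hom := inferInstanceAs (Smooth (pullback.snd G.hom f))
  have hqc : QuasiCompact (Red.bc f G).hom := inferInstanceAs (QuasiCompact (pullback.snd G.hom f))
  have hf : IsAffineHom f := inferInstanceAs (IsAffineHom (Spec.map _))
  have hf' : IsAffineHom (pullback.fst G.hom f) := MorphismProperty.pullback_fst _ _ hf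
  have hamp : CohB1.IsAmple ((Scheme.Modules.pullback (pullback.fst G.hom f)).obj L) :=
    Groth.Agent.Sga5.AmpleFib.isAmple_pullback _ hL
  exact main_ac (Red.bc f G) ((K414.AntiAffBC.bijective_iff _).1 hG') (fun h => hnc (BcFin.isProper_of_bc f G h)) _ hamp h1

end K413.SecInf
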