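import Groth.Agent.S3030
import Groth.Agent.S3036
import Groth.Agent.TateLoc.K809.UnitSch
import Groth.Agent.AbVar.K523.KerSq
import Groth.Agent.Grpsch.KerMul

/-!
# Commutative groups over a field embed in smooth commutative groups

* `isPullback_of_cover`: descent of cartesian squares along an fppf covering;
* `isPullback_of_ker`: a morphism of extensions which is the identity on the kernels is cartesian;
* `exists_emb`: if `q : H ⟶ Q₀` is a finite flat homomorphism onto a smooth group, `H` commutative, then `H` is a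
  closed subgroup of a smooth commutative group `G` (`G = (A × H) / ker q` with `ker q` embedded in a smooth affine
  commutative group `A`).
-/

set_option autoImplicit false
universe v u
open CategoryTheory MonoidalCategory CartesianMonoidalCategory MonObj GrpObj AlgebraicGeometry Limits

namespace K413.SmoothEmb

section Cat

variable {C : Type u} [Category.{v} C] [CartesianMonoidalCategory C]

theorem isPullback_whisker {G H : C} (φ : G ⟶ H) (N : C) :
    IsPullback (φ ▷ N) (fst G N) (fst H N) φ := by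
  refine ⟨⟨by simp⟩, ⟨PullbackCone.IsLimit.mk _ (fun s => lift s.snd (s.fst ≫ snd _ _)) ?_ ?_ ?_⟩⟩
  · intro s
    apply CartesianMonoidalCategory.hom_ext
    · simp [s.condition]
    · simp
  · intro s
    simp
  · intro s m h1 h2
    apply CartesianMonoidalCategory.hom_ext
    · simpa using h2
    · simp [← h1]

/-- A morphism of extensions which is the identity on the kernels, outer form. -/
theorem isPullback_outer {N G H Q₀ : C} [GrpObj G] [GrpObj H] [GrpObj Q₀] (i : N ⟶ G) (φ : G ⟶ H) [IsMonHom φ]
    (i₀ : N ⟶ H) (hi : i ≫ φ = i₀) (q₀ : H ⟶ Q₀) [IsMonHom q₀] (h : IsPullback i₀ (toUnit N) q₀ η[Q₀]) :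
    IsPullback ((fst G N * (snd G N ≫ i)) ≫ φ) (fst G N) q₀ (φ ≫ q₀) := by
  have h1 := (isPullback_whisker φ N).paste_horiz (K523.KerSq.isPullback_ker i₀ q₀ h).flip
  have h2 : (φ ▷ N) ≫ (fst H N * (snd H N ≫ i₀)) = (fst G N * (snd G N ≫ i)) ≫ φ := by
    rw [MonObj.comp_mul, MonObj.mul_comp, whiskerRight_fst, whiskerRight_snd_assoc, Category.assoc, hi]
  rwa [h2] at h1

theorem isCommMonObj_of_epi [BraidedCategory C] {G X : C} [GrpObj G] [GrpObj X] [IsCommMonObj G]
    (p : G ⟶ X) [IsMonHom p] [Epi (p ⊗ₘ p)] : IsCommMonObj X := by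
  constructor
  rw [← cancel_epi (p ⊗ₘ p), ← Category.assoc, BraidedCategory.braiding_naturality, Category.assoc,
    ← IsMonHom.mul_hom, IsCommMonObj.mul_comm_assoc]

theorem isCommMonObj_of_mono [BraidedCategory C] {F G : C} [GrpObj F] [GrpObj G] [IsCommMonObj G]
    (i : F ⟶ G) [IsMonHom i] [Mono i] : IsCommMonObj F := by
  constructor
  rw [← cancel_mono i, Category.assoc, IsMonHom.mul_hom, ← Category.assoc, ← BraidedCategory.braiding_naturality,
    Category.assoc, IsCommMonObj.mul_comm]

theorem isMonHom_one (G H : C) [GrpObj G] [GrpObj H] : IsMonHom (1 : G ⟶ H) where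
  one_hom := by
    rw [Hom.one_def, ← Category.assoc, toUnit_unique (η[G] ≫ toUnit G) (𝟙 _), Category.id_comp]
  mul_hom := by
    rw [MonObj.comp_one, ← lift_fst_comp_snd_comp, ← Hom.mul_def, MonObj.comp_one,
      MonObj.comp_one, _root_.mul_one]

/-- A homomorphism with trivial kernel on points is a monomorphism. -/
theorem mono_of_ker {G H : C} [GrpObj G] [GrpObj H] (f : G ⟶ H) [IsMonHom f]
    (h : ∀ (T : C) (x : T ⟶ G), x ≫ f = 1 → x = 1) : Mono f := by
  refine ⟨fun x y hxy => ?_⟩
  have h1 := h _ (x * y⁻¹) (by rw [MonObj.mul_comp, GrpObj.inv_comp, hxy, mul_inv_cancel])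
  exact mul_inv_eq_one.mp h1

end Cat

/-- Descent of cartesian squares along an fppf covering. -/
theorem isPullback_of_cover {P' P X Q' Q Y : Scheme.{u}} {a' : P' ⟶ P} {p' : P' ⟶ Q'} {p : P ⟶ Q} {c' : Q' ⟶ Q}
    (hl : IsPullback a' p' p c') {b : P ⟶ X} {x : X ⟶ Y} {d : Q ⟶ Y} (w : b ≫ x = p ≫ d)
    (ho : IsPullback (a' ≫ b) p' x (c' ≫ d)) [Surjective c'] [Flat c'] [LocallyOfFinitePresentation c'] :
    IsPullback b p x d := by
  let R := pullback x d
  have hR : IsPullback (pullback.fst x d) (pullback.snd x d) x d := IsPullback.of_hasPullback x d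
  let e : P ⟶ R := pullback.lift b p w
  have hR' : IsPullback (pullback.fst (pullback.snd x d) c') (pullback.snd (pullback.snd x d) c')
      (pullback.snd x d) c' := IsPullback.of_hasPullback _ _
  have h2 := hR'.paste_horiz hR
  let e' := ho.isoIsPullback _ _ h2
  have he1 : e'.hom ≫ pullback.fst (pullback.snd x d) c' ≫ pullback.fst x d = a' ≫ b :=
    ho.isoIsPullback_hom_fst _ _ h2
  have he2 : e'.hom ≫ pullback.snd (pullback.snd x d) c' = p' := ho.isoIsPullback_hom_snd _ _ h2
  have h3 : a' ≫ e = e'.hom ≫ pullback.fst (pullback.snd x d) c' := by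
    apply hR.hom_ext
    · rw [Category.assoc, pullback.lift_fst, Category.assoc, he1]
    · rw [Category.assoc, pullback.lift_snd, Category.assoc, pullback.condition, ← Category.assoc, he2, hl.w]
  have h4 : IsPullback a' e'.hom e (pullback.fst (pullback.snd x d) c') := by
    refine IsPullback.of_bot ?_ h3 hR'
    rw [he2, pullback.lift_snd]
    exact hl
  have h5 : (MorphismProperty.isomorphisms Scheme.{u}) e := by
    refine MorphismProperty.of_isPullback_of_descendsAlong (P := MorphismProperty.isomorphisms Scheme.{u})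
      (Q := @Surjective ⊓ @Flat ⊓ @LocallyOfFinitePresentation) h4.flip ?_ ?_
    · exact ⟨⟨inferInstance, inferInstance⟩, inferInstance⟩
    · exact inferInstanceAs (IsIso e'.hom)
  have h6 : IsIso e := h5
  exact IsPullback.of_iso_pullback ⟨w⟩ (asIso e) (pullback.lift_fst _ _ _) (pullback.lift_snd _ _ _)

/-- A morphism of extensions which is the identity on the kernels is cartesian. -/
theorem isPullback_of_ker {S : Scheme.{u}} {N G Q H Q₀ : Over S} [GrpObj G] [GrpObj Q] [GrpObj H] [GrpObj Q₀]
    (i : N ⟶ G) (q : G ⟶ Q) [IsMonHom q] (hq : AlgGrp.IsKernel i q) (i₀ : N ⟶ H) (q₀ : H ⟶ Q₀) [IsMonHom q₀]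
    (hq₀ : AlgGrp.IsKernel i₀ q₀) (φ : G ⟶ H) [IsMonHom φ] (hi : i ≫ φ = i₀) (π : Q ⟶ Q₀) (hπ : q ≫ π = φ ≫ q₀)
    [Surjective q.left] [Flat q.left] [LocallyOfFinitePresentation q.left] :
    IsPullback φ.left q.left q₀.left π.left := by
  have h1 : IsPullback (fst G N * (snd G N ≫ i)).left (fst G N).left q.left q.left :=
    (K523.KerSq.isPullback_left i q hq).flip
  have h2 := (isPullback_outer i φ i₀ hi q₀ hq₀).map (Over.forget S)
  refine isPullback_of_cover h1 (b := φ.left) (x := q₀.left) (d := π.left) ?_ ?_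
  · rw [← Over.comp_left, ← Over.comp_left, hπ]
  · rw [← Over.comp_left, ← Over.comp_left, hπ]
    exact h2

theorem isNormalHom_of_comm {S : Scheme.{u}} {N G : Over S} [GrpObj N] [GrpObj G] [IsCommMonObj G] (i : N ⟶ G) :
    AlgGrp.IsNormalHom i := fun _ g n => ⟨n, by rw [_root_.mul_comm g, mul_inv_cancel_right]⟩

variable {K : Type u} [Field K]

theorem exists_emb (H : Over (Spec (CommRingCat.of K))) [GrpObj H] [IsCommMonObj H]
    [LocallyOfFiniteType H.hom] (Q₀ : Over (Spec (CommRingCat.of K))) [GrpObj Q₀] (q : H ⟶ Q₀) [IsMonHom q]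
    [Smooth Q₀.hom] [Surjective q.left] [Flat q.left] [LocallyOfFinitePresentation q.left] [IsFinite q.left] :
    ∃ (G : Over (Spec (CommRingCat.of K))) (_ : GrpObj G) (_ : IsCommMonObj G) (i : H ⟶ G),
      Smooth G.hom ∧ IsMonHom i ∧ IsClosedImmersion i.left ∧ (QuasiCompact H.hom → QuasiCompact G.hom) := by
  obtain ⟨N, gN, n, hn, hker⟩ := Groth.Agent.Grpsch.KerMul.exists_kernel q
  have hpb : IsPullback n.left (toUnit N).left q.left η[Q₀].left := hker.map (Over.forget _)
  have hnm : Mono n := (MorphismProperty.monomorphisms _).of_isPullback hker.flip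
    (inferInstanceAs (Mono η[Q₀]))
  have hNunit : IsFinite (toUnit N).left := MorphismProperty.of_isPullback hpb ‹_›
  have hNe : (toUnit N).left = N.hom := by simp
  have hNf : IsFinite N.hom := by rw [← hNe]; exact hNunit
  have hNlfp : LocallyOfFinitePresentation N.hom :=
    LocallyOfFinitePresentation.iff_locallyOfFiniteType.mpr inferInstance
  have hNc : IsCommMonObj N := isCommMonObj_of_mono n
  obtain ⟨A, gA, hAc, v, hv, hvm, hAs, hAaff⟩ := K809.UnitSch.exists_emb (CommRingCat.of K) N
  let u : N ⟶ A ⊗ H := lift v⁻¹ n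
  have hu : IsMonHom u := inferInstance
  have hus : u ≫ snd A H = n := lift_snd _ _
  have hum : Mono u := mono_of_mono_fac hus
  have hAHlft : LocallyOfFiniteType (A ⊗ H).hom := by
    have h2 : LocallyOfFiniteType (snd A H).left := inferInstanceAs (LocallyOfFiniteType (pullback.snd A.hom H.hom))
    rw [← Over.w (snd A H)]
    infer_instance
  have hAHqs : QuasiSeparated (A ⊗ H).hom := by
    have : IsLocallyNoetherian (A ⊗ H).left := LocallyOfFiniteType.isLocallyNoetherian (A ⊗ H).hom
    infer_instance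
  have huq : QuasiCompact u.left := by
    have : QuasiCompact (u.left ≫ (A ⊗ H).hom) := by
      rw [Over.w]
      infer_instance
    exact QuasiCompact.of_comp u.left (A ⊗ H).hom
  obtain ⟨Q, gQ, p, hp, hpf, hps, hplfp, hpk, hQsep, hQfl, -⟩ :=
    Groth.Agent.S3030.result K N (A ⊗ H) u (isNormalHom_of_comm u)
  have hnq : n ≫ q = 1 := hker.w.trans Hom.one_def.symm
  obtain ⟨π, hπ, hπc⟩ := K523.KerSq.exists_desc_hom u p hpk (snd A H ≫ q)
    (by rw [← Category.assoc, hus, hnq])
  have hsq : IsPullback (snd A H).left p.left q.left π.left :=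
    isPullback_of_ker u p hpk n q hker (snd A H) hus π hπc
  have hsnd : Smooth (snd A H).left := inferInstanceAs (Smooth (pullback.snd A.hom H.hom))
  have hπs : Smooth π.left := MorphismProperty.of_isPullback_of_descendsAlong (P := @Smooth)
      (Q := @Surjective ⊓ @Flat ⊓ @QuasiCompact) hsq ⟨⟨inferInstance, inferInstance⟩, inferInstance⟩ hsnd
  have hQs : Smooth Q.hom := by
    rw [← Over.w π]
    infer_instance
  have hpfin : IsFinite p.left := MorphismProperty.of_isPullback hsq ‹_›
  let j : H ⟶ Q := lift 1 (𝟙 H) ≫ p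
  have h1A : IsMonHom (1 : H ⟶ A) := isMonHom_one H A
  have hl : IsMonHom (lift (1 : H ⟶ A) (𝟙 H)) := inferInstance
  have hj : IsMonHom j := inferInstance
  have hjm : Mono j := by
    refine mono_of_ker j fun T x hx => ?_
    obtain ⟨z, hz⟩ := K523.KerSq.exists_lift_ker hpk (x ≫ lift 1 (𝟙 H)) (by rw [Category.assoc]; exact hx)
    have h1 : z ≫ v⁻¹ = 1 := by
      have := congr($hz ≫ fst A H)
      rw [Category.assoc, lift_fst, Category.assoc, lift_fst, MonObj.comp_one] at this
      exact this
    have h2 : z ≫ v = 1 := by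
      rw [GrpObj.comp_inv] at h1
      exact inv_eq_one.mp h1
    have h3 : z = 1 := by
      rw [← cancel_mono v, h2, MonObj.one_comp]
    have h4 := congr($hz ≫ snd A H)
    rw [Category.assoc, lift_snd, Category.assoc, lift_snd, Category.comp_id, h3, MonObj.one_comp] at h4
    exact h4.symm
  have hjq : QuasiCompact j.left := by
    have h1 : QuasiCompact (lift (1 : H ⟶ A) (𝟙 H)).left := by
      have h2 : QuasiCompact ((lift (1 : H ⟶ A) (𝟙 H)).left ≫ (snd A H).left) := by
        rw [← Over.comp_left, lift_snd, Over.id_left]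
        infer_instance
      have h3 : QuasiSeparated (snd A H).left := inferInstanceAs (QuasiSeparated (pullback.snd A.hom H.hom))
      exact QuasiCompact.of_comp _ (snd A H).left
    rw [Over.comp_left]
    infer_instance
  have hjc : IsClosedImmersion j.left := Groth.Agent.S3036.result K H Q j
  have hepi : Epi (p ⊗ₘ p) := by
    have f2 : Flat (p ⊗ₘ p).left :=
      Groth.Agent.Sga3C.QuotProps.tensorHom_left_of (@Flat) p p ‹_› ‹_›
    have hsc : MorphismProperty.IsStableUnderComposition (@Surjective : MorphismProperty Scheme.{u}) :=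
      ⟨fun _ _ hf hg => ⟨hg.1.comp hf.1⟩⟩
    have s2 : Surjective (p ⊗ₘ p).left :=
      Groth.Agent.Sga3C.QuotProps.tensorHom_left_of (@Surjective : MorphismProperty Scheme.{u}) p p ‹_› ‹_›
    exact Groth.Agent.Sga3C.QuotProps.epi_of_flat_surjective (p ⊗ₘ p)
  have hQc : IsCommMonObj Q := isCommMonObj_of_epi p
  refine ⟨Q, gQ, hQc, j, hQs, hj, hjc, fun hqc => ?_⟩
  have h1 : QuasiCompact (A ⊗ H).hom := by
    have h2 : QuasiCompact (snd A H).left := inferInstanceAs (QuasiCompact (pullback.snd A.hom H.hom))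
    rw [← Over.w (snd A H)]
    infer_instance
  have h3 : CompactSpace (A ⊗ H).left := (quasiCompact_iff_compactSpace (A ⊗ H).hom).1 inferInstance
  have h4 : CompactSpace Q.left := (Surjective.surj (f := p.left)).compactSpace p.left.continuous
  exact (quasiCompact_iff_compactSpace Q.hom).2 h4

end K413.SmoothEmb
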