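import Groth.Agent.AlgGrp.K410.SecCore
import Groth.Agent.Ega2.TensPow

/-!
# Sections of a tensor product from compatible local sections with inverse transition functions
-/

set_option autoImplicit false
universe u
open CategoryTheory AlgebraicGeometry

namespace K413.TensSec

open Groth.Agent Groth.Agent.Fdesc.LocGen

theorem exists_tmul {S : Scheme.{u}} {J : Type u} (V : J → S.Opens) (hV : ⨆ z, V z = ⊤) {R M : S.Modules}
    (r : ∀ z, Γ(R, V z)) (m : ∀ z, Γ(M, V z)) (h h' : ∀ z z', Γ(S, V z ⊓ V z'))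
    (hm : ∀ z z', res M (inf_le_left : V z ⊓ V z' ≤ V z) (m z) =
      h z z' • res M (inf_le_right : V z ⊓ V z' ≤ V z') (m z'))
    (hr : ∀ z z', res R (inf_le_left : V z ⊓ V z' ≤ V z) (r z) =
      h' z z' • res R (inf_le_right : V z ⊓ V z' ≤ V z') (r z'))
    (hh : ∀ z z', h' z z' * h z z' = 1) :
    ∃ τ : Γ(CohB1.tensorMod R M, ⊤), ∀ z, res _ (le_top : V z ≤ ⊤) τ = tmul (r z) (m z) := by
  refine res_glue (CohB1.tensorMod R M) V (fun _ => le_top) hV.ge (fun z => tmul (r z) (m z)) fun z z' => ?_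
  rw [res_tmul, res_tmul, hm, hr, smul_tmul, tmul_smul, smul_smul, hh, one_smul]

theorem exists_tmul_ne_zero {S : Scheme.{u}} {J : Type u} (V : J → S.Opens) (hV : ⨆ z, V z = ⊤) {R M : S.Modules}
    (r : ∀ z, Γ(R, V z)) (hrg : ∀ z, IsGen (r z)) (e : ∀ z, Γ(M, V z)) (he : ∀ z, IsGen (e z)) (b : ∀ z, Γ(S, V z))
    (h h' g : ∀ z z', Γ(S, V z ⊓ V z'))
    (hg : ∀ z z', res M (inf_le_left : V z ⊓ V z' ≤ V z) (e z) =
      g z z' • res M (inf_le_right : V z ⊓ V z' ≤ V z') (e z'))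
    (hb : ∀ z z', ores (inf_le_left : V z ⊓ V z' ≤ V z) (b z) * g z z' =
      h z z' * ores (inf_le_right : V z ⊓ V z' ≤ V z') (b z'))
    (hr : ∀ z z', res R (inf_le_left : V z ⊓ V z' ≤ V z) (r z) =
      h' z z' • res R (inf_le_right : V z ⊓ V z' ≤ V z') (r z'))
    (hh : ∀ z z', h' z z' * h z z' = 1) (z₀ : J) (hz₀ : b z₀ ≠ 0) :
    ∃ τ : Γ(CohB1.tensorMod R M, ⊤), τ ≠ 0 := by
  obtain ⟨τ, hτ⟩ := exists_tmul V hV r (fun z => b z • e z) h h' (fun z z' => by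
    rw [res_smul, res_smul, hg, smul_smul, smul_smul, hb]) hr hh
  refine ⟨τ, fun h0 => hz₀ ?_⟩
  have h1 := hτ z₀
  rw [h0, map_zero, tmul_smul] at h1
  apply ((hrg z₀).tmul (he z₀)).ext
  rw [← h1, zero_smul]

end K413.TensSec
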