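import Mathlib.AlgebraicGeometry.Group.Smooth
import Mathlib.CategoryTheory.Monoidal.Cartesian.Over
import Mathlib.CategoryTheory.Monoidal.Cartesian.Grp
import Mathlib.CategoryTheory.Limits.Constructions.Over.Connected

/-!
# The group of units of a monoid object
-/

set_option autoImplicit false

universe u v

open CategoryTheory MonoidalCategory CartesianMonoidalCategory MonObj Limits

namespace K413.Units

variable {C : Type u} [Category.{v} C] [CartesianMonoidalCategory C] (M : C) [MonObj M]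

/-- `(x, y) ↦ (x y, y x)`. -/
noncomputable def prods : M ⊗ M ⟶ M ⊗ M :=
  lift (fst M M * snd M M) (snd M M * fst M M)

theorem lift_prods {T : C} (x y : T ⟶ M) : lift x y ≫ prods M = lift (x * y) (y * x) := by
  simp [prods, comp_lift, comp_mul]

theorem toUnit_one {T : C} : toUnit T ≫ lift η[M] η[M] = lift 1 1 := by
  simp [comp_lift, Hom.one_def]

/-- The square exhibiting `G` as the pairs `(x, y)` with `x y = y x = 1`. -/
structure IsUnits {G : C} (j : G ⟶ M ⊗ M) : Prop where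
  isPullback : IsPullback j (toUnit G) (prods M) (lift η[M] η[M])

variable {M}

theorem IsUnits.mul_eq {G : C} {j : G ⟶ M ⊗ M} (h : IsUnits M j) {T : C} (t : T ⟶ G) :
    (t ≫ j ≫ fst M M) * (t ≫ j ≫ snd M M) = 1 ∧
      (t ≫ j ≫ snd M M) * (t ≫ j ≫ fst M M) = 1 := by
  have h1 : lift (t ≫ j ≫ fst M M) (t ≫ j ≫ snd M M) = t ≫ j := by
    ext1 <;> simp
  have h2 : lift ((t ≫ j ≫ fst M M) * (t ≫ j ≫ snd M M))
      ((t ≫ j ≫ snd M M) * (t ≫ j ≫ fst M M)) = lift 1 1 := by
    rw [← lift_prods, h1, Category.assoc, h.isPullback.w, ← toUnit_one, ← Category.assoc]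
    congr 1
    exact toUnit_unique _ _
  constructor
  · simpa using congr($h2 ≫ fst M M)
  · simpa using congr($h2 ≫ snd M M)

theorem IsUnits.exists_lift {G : C} {j : G ⟶ M ⊗ M} (h : IsUnits M j) {T : C} (x y : T ⟶ M)
    (hxy : x * y = 1) (hyx : y * x = 1) : ∃ t : T ⟶ G, t ≫ j = lift x y := by
  refine ⟨h.isPullback.lift (lift x y) (toUnit T) ?_, h.isPullback.lift_fst _ _ _⟩
  rw [lift_prods, hxy, hyx, toUnit_one]

theorem IsUnits.mono_fst {G : C} {j : G ⟶ M ⊗ M} (h : IsUnits M j) : Mono (j ≫ fst M M) := by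
  have hj : Mono j := by
    have : Mono (lift η[M] η[M]) := by
      constructor
      intro Z a b _
      exact toUnit_unique _ _
    exact ⟨fun a b hab => h.isPullback.hom_ext hab (toUnit_unique _ _)⟩
  constructor
  intro T a b hab
  rw [← cancel_mono j]
  obtain ⟨ha1, ha2⟩ := h.mul_eq a
  obtain ⟨hb1, hb2⟩ := h.mul_eq b
  ext1
  · simpa using hab
  · simp only [Category.assoc]
    rw [← hab] at hb1 hb2
    exact left_inv_eq_right_inv ha2 hb1

theorem IsUnits.fac_iff {G : C} {j : G ⟶ M ⊗ M} (h : IsUnits M j) {T : C} (m : T ⟶ M) :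
    (∃ g : T ⟶ G, g ≫ (j ≫ fst M M) = m) ↔ IsUnit m := by
  constructor
  · rintro ⟨g, rfl⟩
    obtain ⟨h1, h2⟩ := h.mul_eq g
    exact ⟨⟨_, _, h1, h2⟩, rfl⟩
  · rintro ⟨u, rfl⟩
    obtain ⟨t, ht⟩ := h.exists_lift (u : T ⟶ M) (↑u⁻¹ : T ⟶ M) (by simp) (by simp)
    refine ⟨t, ?_⟩
    rw [← Category.assoc, ht, lift_fst]

/-- Any monomorphism with the property of the unit group comes from the square. -/
theorem exists_isUnits {G : C} (i : G ⟶ M) [Mono i]
    (hi : ∀ (T : C) (m : T ⟶ M), (∃ g : T ⟶ G, g ≫ i = m) ↔ IsUnit m) :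
    ∃ j : G ⟶ M ⊗ M, IsUnits M j ∧ j ≫ fst M M = i := by
  obtain ⟨u, hu⟩ := (hi G i).mp ⟨𝟙 G, by simp⟩
  refine ⟨lift i (↑u⁻¹ : G ⟶ M), ⟨⟨⟨?_⟩, ⟨PullbackCone.IsLimit.mk _
    (fun s => ((hi s.pt (s.fst ≫ fst M M)).mpr ?_).choose) ?_ ?_ ?_⟩⟩⟩, by simp⟩
  · rw [lift_prods, ← hu, toUnit_one]
    simp
  · have h := s.condition
    have h1 : lift (s.fst ≫ fst M M) (s.fst ≫ snd M M) = s.fst := by ext1 <;> simp
    have h2 : lift ((s.fst ≫ fst M M) * (s.fst ≫ snd M M))
      ((s.fst ≫ snd M M) * (s.fst ≫ fst M M)) = lift 1 1 := by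
      rw [← lift_prods, h1, h, ← toUnit_one]
      congr 1
      exact toUnit_unique _ _
    exact ⟨⟨s.fst ≫ fst M M, s.fst ≫ snd M M, by simpa using congr($h2 ≫ fst M M),
      by simpa using congr($h2 ≫ snd M M)⟩, rfl⟩
  · intro s
    generalize_proofs hs
    have h3 := hs.choose_spec
    have h := s.condition
    have h1 : lift (s.fst ≫ fst M M) (s.fst ≫ snd M M) = s.fst := by ext1 <;> simp
    have h2 : lift ((s.fst ≫ fst M M) * (s.fst ≫ snd M M))
      ((s.fst ≫ snd M M) * (s.fst ≫ fst M M)) = lift 1 1 := by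
      rw [← lift_prods, h1, h, ← toUnit_one]
      congr 1
      exact toUnit_unique _ _
    have h4 : (s.fst ≫ fst M M) * (s.fst ≫ snd M M) = 1 := by simpa using congr($h2 ≫ fst M M)
    generalize hs.choose = c at h3
    ext1
    · simpa using h3
    · simp only [Category.assoc, lift_snd]
      refine left_inv_eq_right_inv (a := s.fst ≫ fst M M) ?_ h4
      rw [← h3]
      have h5 : (↑u⁻¹ : G ⟶ M) * i = 1 := by rw [← hu]; simp
      rw [← comp_mul, h5, comp_one]
  · intro s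
    exact toUnit_unique _ _
  · intro s m h1 h2
    generalize_proofs hs
    have h3 := hs.choose_spec
    rw [← cancel_mono i, h3, ← h1]
    simp

end K413.Units
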