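import Groth.Agent.AlgGrp.K413.Units
import Groth.Prelude.Def_AlgGrp

/-!
# The group structure on the units of a monoid object and its action by left multiplication
-/

set_option autoImplicit false

universe u v

open CategoryTheory MonoidalCategory CartesianMonoidalCategory MonObj GrpObj Limits

namespace K413.Units

variable {C : Type u} [Category.{v} C] [CartesianMonoidalCategory C] {M : C} [MonObj M]

/-- The group structure on a subobject of a monoid object consisting of units. -/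
@[implicit_reducible]
def grpObjOfMono {G : C} (i : G ⟶ M) [Mono i] (m : G ⊗ G ⟶ G)
    (hm : m ≫ i = (i ⊗ₘ i) ≫ μ[M]) (e : 𝟙_ C ⟶ G) (he : e ≫ i = η[M])
    (v : G ⟶ G) (hv₁ : (v ≫ i) * i = 1) (hv₂ : i * (v ≫ i) = 1) : GrpObj G where
  one := e
  mul := m
  inv := v
  one_mul := by
    rw [← cancel_mono i, Category.assoc, hm, ← Category.assoc, ← tensorHom_id,
      tensorHom_comp_tensorHom, he, Category.id_comp]
    have : (η[M] ⊗ₘ i) = (𝟙_ C ◁ i) ≫ (η[M] ▷ M) := by
      rw [← tensorHom_id, ← id_tensorHom, tensorHom_comp_tensorHom]; simp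
    rw [this, Category.assoc, MonObj.one_mul, leftUnitor_naturality]
  mul_one := by
    rw [← cancel_mono i, Category.assoc, hm, ← Category.assoc, ← id_tensorHom,
      tensorHom_comp_tensorHom, he, Category.id_comp]
    have : (i ⊗ₘ η[M]) = (i ▷ 𝟙_ C) ≫ (M ◁ η[M]) := by
      rw [← tensorHom_id, ← id_tensorHom, tensorHom_comp_tensorHom]; simp
    rw [this, Category.assoc, MonObj.mul_one, rightUnitor_naturality]
  mul_assoc := by
    rw [← cancel_mono i, Category.assoc, Category.assoc, Category.assoc, hm,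
      ← tensorHom_id, ← id_tensorHom]
    rw [tensorHom_comp_tensorHom_assoc, tensorHom_comp_tensorHom_assoc, hm, Category.id_comp]
    have h1 : ((i ⊗ₘ i) ≫ μ[M]) ⊗ₘ i = ((i ⊗ₘ i) ⊗ₘ i) ≫ (μ[M] ▷ M) := by
      rw [← tensorHom_id, tensorHom_comp_tensorHom]; simp
    have h2 : i ⊗ₘ ((i ⊗ₘ i) ≫ μ[M]) = (i ⊗ₘ (i ⊗ₘ i)) ≫ (M ◁ μ[M]) := by
      rw [← id_tensorHom, tensorHom_comp_tensorHom]; simp
    rw [h1, h2, Category.assoc, Category.assoc, MonObj.mul_assoc, associator_naturality_assoc]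
  left_inv := by
    rw [← cancel_mono i, Category.assoc, hm, Category.assoc, he, lift_map_assoc,
      Category.id_comp, ← Hom.mul_def, hv₁, Hom.one_def]
  right_inv := by
    rw [← cancel_mono i, Category.assoc, hm, Category.assoc, he, lift_map_assoc,
      Category.id_comp, ← Hom.mul_def, hv₂, Hom.one_def]

/-- Existence form. -/
theorem exists_grpObj {G : C} (i : G ⟶ M) [Mono i]
    (hi : ∀ (T : C) (m : T ⟶ M), (∃ g : T ⟶ G, g ≫ i = m) ↔ IsUnit m) :
    ∃ _ : GrpObj G, IsMonHom i := by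
  obtain ⟨u, hu⟩ := (hi G i).mp ⟨𝟙 G, by simp⟩
  obtain ⟨v, hv⟩ := (hi G (↑u⁻¹ : G ⟶ M)).mpr ⟨u⁻¹, rfl⟩
  obtain ⟨e, he⟩ := (hi (𝟙_ C) η[M]).mpr (by
    have : η[M] = 1 := by rw [Hom.one_def]; simp
    rw [this]
    exact isUnit_one)
  obtain ⟨m, hm⟩ := (hi (G ⊗ G) ((i ⊗ₘ i) ≫ μ[M])).mpr (by
    have h1 : (i ⊗ₘ i) ≫ μ[M] = (fst G G ≫ i) * (snd G G ≫ i) := by
      rw [Hom.mul_def]
      congr 1
      ext1 <;> simp
    rw [h1]
    exact ((hi _ _).mp ⟨fst G G, rfl⟩).mul ((hi _ _).mp ⟨snd G G, rfl⟩))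
  let h := grpObjOfMono i m hm e he v (by rw [hv, ← hu]; simp) (by rw [hv, ← hu]; simp)
  exact ⟨h, { one_hom := he, mul_hom := hm }⟩

end K413.Units

namespace K413.UnitsAct

open AlgebraicGeometry

/-- The action of a group `G` on a monoid `M` by left multiplication through a homomorphism. -/
noncomputable def actHom {S : Scheme.{u}} {G M : Over S} [GrpObj G] [MonObj M] (f : G ⟶ M)
    [IsMonHom f] : AlgGrp.Action G M where
  act := (f ▷ M) ≫ μ[M]
  one_act := by
    rw [← Category.assoc, ← comp_whiskerRight, IsMonHom.one_hom, MonObj.one_mul]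
  mul_act := by
    rw [← Category.assoc, ← comp_whiskerRight, IsMonHom.mul_hom]
    have h1 : lift (lift (fst (G ⊗ G) M ≫ fst G G) (fst (G ⊗ G) M ≫ snd G G)) (snd (G ⊗ G) M) =
        𝟙 ((G ⊗ G) ⊗ M) := by
      ext1
      · ext1 <;> simp
      · simp
    rw [← Category.id_comp ((((f ⊗ₘ f) ≫ μ) ▷ M) ≫ μ[M]),
      ← Category.id_comp ((α_ G G M).hom ≫ (G ◁ ((f ▷ M) ≫ μ)) ≫ (f ▷ M) ≫ μ), ← h1]
    simp only [lift_whiskerRight_assoc, lift_lift_associator_hom_assoc, lift_whiskerLeft_assoc,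
      lift_map_assoc, ← Hom.mul_def, Category.assoc]
    rw [_root_.mul_assoc]

theorem actHom_equivariant {S : Scheme.{u}} {G M : Over S} [GrpObj G] [MonObj M] (f : G ⟶ M)
    [IsMonHom f] : (G ◁ f) ≫ (actHom f).act = μ[G] ≫ f := by
  change (G ◁ f) ≫ (f ▷ M) ≫ μ[M] = μ[G] ≫ f
  rw [IsMonHom.mul_hom, whisker_exchange_assoc, tensorHom_def, Category.assoc]

end K413.UnitsAct
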