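import Groth.Agent.AlgGrp.K413.UnitsGrp
import Groth.Agent.AlgGrp.K413.RatPoint
import Groth.Agent.AlgGrp.K413.EquivFlat
import Groth.Agent.Flat2E.FibreCrit3
import Groth.Agent.UnramA.FibreMap
import Groth.Agent.PrincBund.K826.Tors

/-!
# The unit group of a monoid scheme locally of finite type over a field is open
-/

set_option autoImplicit false

universe u

open CategoryTheory MonoidalCategory CartesianMonoidalCategory MonObj AlgebraicGeometry Limits

namespace K413.UnitsOpen

variable {k : Type u} [Field k]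

open Groth.Agent.Sga3C.SchemImage Groth.Agent.Flat2D.FlatAtPt

/-- An endomorphism `Ψ` of `A × B` over `A` which is the identity on the fibre over a rational point
of `A` is flat at the points of this fibre. -/
theorem flat_of_fibre_id {A B : Over (Spec (CommRingCat.of k))} [LocallyOfFiniteType A.hom]
    [LocallyOfFiniteType B.hom] (e : 𝟙_ (Over (Spec (CommRingCat.of k))) ⟶ A) (Ψ : A ⊗ B ⟶ A ⊗ B)
    (h₁ : Ψ ≫ fst A B = fst A B) (h₂ : (e ▷ B) ≫ Ψ = e ▷ B)
    (pt : (𝟙_ (Over (Spec (CommRingCat.of k)))).left) (z : (A ⊗ B).left)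
    (hz : (fst A B).left z = e.left pt) : (Ψ.left.stalkMap z).hom.Flat := by
  have hAB : LocallyOfFiniteType (A ⊗ B).hom :=
    inferInstanceAs (LocallyOfFiniteType (pullback.fst A.hom B.hom ≫ A.hom))
  have hN : IsLocallyNoetherian (A ⊗ B).left := LocallyOfFiniteType.isLocallyNoetherian (A ⊗ B).hom
  have hΨ : LocallyOfFiniteType Ψ.left := by
    have : LocallyOfFiniteType (Ψ.left ≫ (A ⊗ B).hom) := by rw [Over.w]; infer_instance
    exact locallyOfFiniteType_of_comp Ψ.left (A ⊗ B).hom
  have hΨ' : LocallyOfFinitePresentation Ψ.left :=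
    LocallyOfFinitePresentation.iff_locallyOfFiniteType.mpr hΨ
  have hfst : Flat (fst A B).left := inferInstanceAs (Flat (pullback.fst A.hom B.hom))
  have hc : Ψ.left ≫ (fst A B).left = (fst A B).left := by rw [← Over.comp_left, h₁]
  set s : A.left := e.left pt with hs
  -- the residue field point
  let T : Over (Spec (CommRingCat.of k)) := Over.mk (A.left.fromSpecResidueField s ≫ A.hom)
  let x : T ⟶ A := Over.homMk (A.left.fromSpecResidueField s)
  have hx : x = toUnit _ ≫ e := RatPoint.exists_eq_toUnit_comp A e pt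
  have hx2 : (x ▷ B) ≫ Ψ = x ▷ B := by
    rw [hx, comp_whiskerRight, Category.assoc, h₂]
  have sq1 : IsPullback (x ▷ B) (fst T B) (fst A B) x := isPullback_whiskerRight x B
  have sq2 : IsPullback (x ▷ B) (𝟙 (T ⊗ B)) Ψ (x ▷ B) := by
    refine IsPullback.of_bot (v₂₁ := fst T B) (v₂₂ := fst A B) (h₃₁ := x) ?_ ?_ sq1
    · rw [Category.id_comp, h₁]
      exact sq1
    · rw [Category.id_comp, hx2]
  -- the fibre map is an isomorphism
  have hiso : IsIso (MoreMor.fiberMap Ψ.left (fst A B).left s) := by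
    have hp := Groth.Agent.UnramA.FibreMap.isPullback_fiberMap Ψ.left (fst A B).left s
    have sq1' : IsPullback (x ▷ B).left (fst T B).left (fst A B).left (A.left.fromSpecResidueField s) :=
      sq1.map (Over.forget _)
    have sq0 : IsPullback ((fst A B).left.fiberι s) ((fst A B).left.fiberToSpecResidueField s)
      (fst A B).left (A.left.fromSpecResidueField s) := IsPullback.of_hasPullback _ _
    let α : (T ⊗ B).left ≅ (fst A B).left.fiber s := sq1'.isoIsPullback _ _ sq0
    have hα : α.hom ≫ (fst A B).left.fiberι s = (x ▷ B).left := sq1'.isoIsPullback_hom_fst _ _ sq0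
    have sq2' : IsPullback (x ▷ B).left (𝟙 (T ⊗ B).left) Ψ.left (x ▷ B).left :=
      sq2.map (Over.forget _)
    have sq3 : IsPullback (x ▷ B).left α.hom Ψ.left ((fst A B).left.fiberι s) := by
      refine IsPullback.of_iso sq2' (Iso.refl _) (Iso.refl _) α (Iso.refl _) ?_ ?_ ?_ ?_
      · simp
      · simp
      · simp
      · rw [hα, Iso.refl_hom, Category.comp_id]
    have h5 : MoreMor.fiberMap Ψ.left (fst A B).left s =
        (hp.isoIsPullback _ _ sq3).hom ≫ α.hom := (hp.isoIsPullback_hom_snd _ _ sq3).symm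
    rw [h5]
    infer_instance
  -- the point of the fibre
  obtain ⟨w, hw⟩ : ∃ w : (Ψ.left ≫ (fst A B).left).fiber s,
      (Ψ.left ≫ (fst A B).left).fiberι s w = z := by
    have : z ∈ Set.range ((Ψ.left ≫ (fst A B).left).fiberι s) := by
      rw [Scheme.Hom.range_fiberι]
      change (Ψ.left ≫ (fst A B).left) z = s
      rw [hc]
      exact hz
    exact this
  have hcf : Flat (Ψ.left ≫ (fst A B).left) := by rw [hc]; infer_instance
  have key := Groth.Agent.Flat2E.FibreCrit.flat_stalkMap_of_fibre Ψ.left (fst A B).left s w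
    (Flat.stalkMap _ _) (Flat.stalkMap _ _)
  rwa [hw] at key

variable {M : Over (Spec (CommRingCat.of k))} [MonObj M] [LocallyOfFiniteType M.hom]

/-- `(x, y) ↦ (x, x y)`. -/
noncomputable def mulR (M : Over (Spec (CommRingCat.of k))) [MonObj M] : M ⊗ M ⟶ M ⊗ M :=
  lift (fst M M) (fst M M * snd M M)

/-- `(x, y) ↦ (x, y x)`. -/
noncomputable def mulL (M : Over (Spec (CommRingCat.of k))) [MonObj M] : M ⊗ M ⟶ M ⊗ M :=
  lift (fst M M) (snd M M * fst M M)

omit [LocallyOfFiniteType M.hom] in
theorem lift_mulR {T : Over (Spec (CommRingCat.of k))} (x y : T ⟶ M) :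
    lift x y ≫ mulR M = lift x (x * y) := by
  simp [mulR, comp_lift, comp_mul]

omit [LocallyOfFiniteType M.hom] in
theorem lift_mulL {T : Over (Spec (CommRingCat.of k))} (x y : T ⟶ M) :
    lift x y ≫ mulL M = lift x (y * x) := by
  simp [mulL, comp_lift, comp_mul]

omit [LocallyOfFiniteType M.hom] in
theorem whiskerRight_eq : η[M] ▷ M = lift (1 : 𝟙_ _ ⊗ M ⟶ M) (snd _ M) := by
  rw [Hom.one_def]
  ext1
  · rw [whiskerRight_fst, lift_fst]
    congr 1
  · simp

theorem flat_mulR (pt : (𝟙_ (Over (Spec (CommRingCat.of k)))).left) (z : (M ⊗ M).left)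
    (hz : (fst M M).left z = η[M].left pt) : ((mulR M).left.stalkMap z).hom.Flat := by
  refine flat_of_fibre_id η[M] (mulR M) (by simp [mulR]) ?_ pt z hz
  rw [whiskerRight_eq, lift_mulR, _root_.one_mul]

theorem flat_mulL (pt : (𝟙_ (Over (Spec (CommRingCat.of k)))).left) (z : (M ⊗ M).left)
    (hz : (fst M M).left z = η[M].left pt) : ((mulL M).left.stalkMap z).hom.Flat := by
  refine flat_of_fibre_id η[M] (mulL M) (by simp [mulL]) ?_ pt z hz
  rw [whiskerRight_eq, lift_mulL, _root_.mul_one]

/-- The unit group is flat over the monoid at the unit. -/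
theorem flat_units {G : Over (Spec (CommRingCat.of k))} (i : G ⟶ M) [Mono i]
    (hi : ∀ (T : Over (Spec (CommRingCat.of k))) (m : T ⟶ M), (∃ g : T ⟶ G, g ≫ i = m) ↔ IsUnit m)
    (pt : (𝟙_ (Over (Spec (CommRingCat.of k)))).left) (x : G.left) (hx : i.left x = η[M].left pt) :
    (i.left.stalkMap x).hom.Flat := by
  obtain ⟨u, hu⟩ := (hi G i).mp ⟨𝟙 G, by simp⟩
  set v : G ⟶ M := ↑u⁻¹ with hv
  have huv : i * v = 1 := by rw [hv, ← hu]; simp
  have hvu : v * i = 1 := by rw [hv, ← hu]; simp
  let σ : M ⟶ M ⊗ M := lift (𝟙 M) 1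
  let R := pullback (mulR M) σ
  let L := pullback (mulL M) σ
  let pR : R ⟶ M := pullback.snd _ _
  let pL : L ⟶ M := pullback.snd _ _
  let qR : R ⟶ M ⊗ M := pullback.fst _ _
  let qL : L ⟶ M ⊗ M := pullback.fst _ _
  have sqR : IsPullback qR pR (mulR M) σ := IsPullback.of_hasPullback _ _
  have sqL : IsPullback qL pL (mulL M) σ := IsPullback.of_hasPullback _ _
  let gR : G ⟶ R := sqR.lift (lift i v) i (by
    rw [lift_mulR, huv]
    simp [σ, comp_lift])
  let gL : G ⟶ L := sqL.lift (lift i v) i (by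
    rw [lift_mulL, hvu]
    simp [σ, comp_lift])
  have hgR1 : gR ≫ qR = lift i v := sqR.lift_fst _ _ _
  have hgR2 : gR ≫ pR = i := sqR.lift_snd _ _ _
  have hgL1 : gL ≫ qL = lift i v := sqL.lift_fst _ _ _
  have hgL2 : gL ≫ pL = i := sqL.lift_snd _ _ _
  -- the cartesian square
  have sq : IsPullback gL gR pL pR := by
    refine K826.Tors.isPullback_of_points (by rw [hgL2, hgR2]) fun T l r h => ?_
    set m := r ≫ pR with hm
    -- `r` is the pair `(m, y)`, `l` the pair `(m, z)`
    have hr := r ≫= sqR.w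
    have hl := l ≫= sqL.w
    have er : r ≫ qR = lift (r ≫ qR ≫ fst M M) (r ≫ qR ≫ snd M M) := by ext1 <;> simp
    have el : l ≫ qL = lift (l ≫ qL ≫ fst M M) (l ≫ qL ≫ snd M M) := by ext1 <;> simp
    have hr' : lift (r ≫ qR ≫ fst M M) ((r ≫ qR ≫ fst M M) * (r ≫ qR ≫ snd M M)) =
        lift m 1 := by
      rw [← lift_mulR, ← er, Category.assoc, hr, ← Category.assoc, ← hm]
      simp [σ, comp_lift]
    have hl' : lift (l ≫ qL ≫ fst M M) ((l ≫ qL ≫ snd M M) * (l ≫ qL ≫ fst M M)) =
        lift m 1 := by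
      rw [← lift_mulL, ← el, Category.assoc, hl, ← Category.assoc, h]
      simp [σ, comp_lift]
    have hr1 : r ≫ qR ≫ fst M M = m := by simpa using congr($hr' ≫ fst M M)
    have hr2 : (r ≫ qR ≫ fst M M) * (r ≫ qR ≫ snd M M) = 1 := by
      simpa using congr($hr' ≫ snd M M)
    have hl1 : l ≫ qL ≫ fst M M = m := by simpa using congr($hl' ≫ fst M M)
    have hl2 : (l ≫ qL ≫ snd M M) * (l ≫ qL ≫ fst M M) = 1 := by
      simpa using congr($hl' ≫ snd M M)
    rw [hr1] at hr2
    rw [hl1] at hl2
    have hyz : l ≫ qL ≫ snd M M = r ≫ qR ≫ snd M M := left_inv_eq_right_inv hl2 hr2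
    have hmu : IsUnit m := ⟨⟨m, r ≫ qR ≫ snd M M, hr2, by rw [← hyz]; exact hl2⟩, rfl⟩
    obtain ⟨g, hg⟩ := (hi T m).mpr hmu
    have hgv : g ≫ v = r ≫ qR ≫ snd M M := by
      refine left_inv_eq_right_inv (a := m) ?_ hr2
      rw [← hg, ← comp_mul, hvu, comp_one]
    refine ⟨g, ⟨?_, ?_⟩, fun g' hg' => ?_⟩
    · apply sqL.hom_ext
      · rw [Category.assoc, hgL1, comp_lift, el, hg, hl1, hgv, hyz]
      · rw [Category.assoc, hgL2, hg, h]
    · apply sqR.hom_ext
      · rw [Category.assoc, hgR1, comp_lift, er, hg, hr1, hgv]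
      · rw [Category.assoc, hgR2, hg, hm]
    · rw [← cancel_mono i, hg, hm, ← hg'.2, Category.assoc, hgR2]
  -- flatness
  have h1 : (fst M M).left (qR.left (gR.left x)) = η[M].left pt := by
    rw [← Saturate.comp_left_apply, ← Saturate.comp_left_apply, reassoc_of% hgR1, lift_fst, hx]
  have h2 : (fst M M).left (qL.left (gL.left x)) = η[M].left pt := by
    rw [← Saturate.comp_left_apply, ← Saturate.comp_left_apply, reassoc_of% hgL1, lift_fst, hx]
  have sqR' : IsPullback qR.left pR.left (mulR M).left σ.left := sqR.map (Over.forget _)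
  have sqL' : IsPullback qL.left pL.left (mulL M).left σ.left := sqL.map (Over.forget _)
  have sq' : IsPullback gL.left gR.left pL.left pR.left := sq.map (Over.forget _)
  have h3 : (pR.left.stalkMap (gR.left x)).hom.Flat :=
    flat_stalkMap_of_isPullback sqR' _ (flat_mulR pt _ h1)
  have h4 : (pL.left.stalkMap (gL.left x)).hom.Flat :=
    flat_stalkMap_of_isPullback sqL' _ (flat_mulL pt _ h2)
  have h5 : (gR.left.stalkMap x).hom.Flat := flat_stalkMap_of_isPullback sq' x h4
  have h6 : gR.left ≫ pR.left = i.left := by rw [← Over.comp_left, hgR2]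
  have h7 := flat_stalkMap_comp gR.left pR.left x h5 h3
  rwa [h6] at h7

/-- **The unit group of a monoid scheme locally of finite type over a field is open.** -/
theorem isOpenImmersion_units {G : Over (Spec (CommRingCat.of k))} (i : G ⟶ M) [Mono i]
    (hi : ∀ (T : Over (Spec (CommRingCat.of k))) (m : T ⟶ M), (∃ g : T ⟶ G, g ≫ i = m) ↔ IsUnit m) :
    IsOpenImmersion i.left := by
  obtain ⟨hG, hmon⟩ := Units.exists_grpObj i hi
  have hGft : LocallyOfFiniteType G.hom := by
    obtain ⟨j, hj, -⟩ := Units.exists_isUnits i hi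
    have hp := hj.isPullback.map (Over.forget _)
    have h1 : LocallyOfFiniteType (M ⊗ M).hom :=
      inferInstanceAs (LocallyOfFiniteType (pullback.fst M.hom M.hom ≫ M.hom))
    have h3 : LocallyOfFiniteType (lift η[M] η[M]).left := by
      have : LocallyOfFiniteType ((lift η[M] η[M]).left ≫ (M ⊗ M).hom) := by
        rw [Over.w]
        exact inferInstanceAs (LocallyOfFiniteType (𝟙 _))
      exact locallyOfFiniteType_of_comp (lift η[M] η[M]).left (M ⊗ M).hom
    have h5 : LocallyOfFiniteType j.left :=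
      MorphismProperty.of_isPullback (P := @LocallyOfFiniteType) hp.flip h3
    rw [← Over.w j]
    infer_instance
  have hmono : Mono i.left := inferInstance
  refine EquivFlat.isOpenImmersion_of_flat_one (UnitsAct.actHom i)
    (UnitsAct.actHom_equivariant i) fun s => ?_
  refine flat_units i hi s _ ?_
  rw [← Saturate.comp_left_apply, IsMonHom.one_hom]

end K413.UnitsOpen
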